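import Groth.Agent.Hopf.Simple

/-!
# Coefficient spaces and subcoalgebras
-/

set_option autoImplicit false
set_option linter.unusedSectionVars false

universe u v w w'

open TensorProduct WithConv

noncomputable section

namespace Groth.ComodLib

section LSlice

variable {k : Type u} [CommRing k] {V : Type w} [AddCommGroup V] [Module k V]
  {A : Type v} [AddCommGroup A] [Module k A]

/-- contraction of the first factor -/
def lslice (ψ : V →ₗ[k] k) : V ⊗[k] A →ₗ[k] A :=
  (TensorProduct.lid k A).toLinearMap ∘ₗ ψ.rTensor A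

@[simp] theorem lslice_tmul (ψ : V →ₗ[k] k) (x : V) (a : A) : lslice ψ (x ⊗ₜ[k] a) = ψ x • a := by
  simp [lslice]

theorem lslice_rTensor {W : Type w'} [AddCommGroup W] [Module k W] (ψ : W →ₗ[k] k) (f : V →ₗ[k] W)
    (x : V ⊗[k] A) : lslice ψ (f.rTensor A x) = lslice (ψ ∘ₗ f) x := by
  induction x using TensorProduct.induction_on with
  | zero => simp
  | tmul a b => simp
  | add x y hx hy => simp [map_add, hx, hy]

theorem lslice_lTensor {B : Type w'} [AddCommGroup B] [Module k B] (ψ : V →ₗ[k] k) (g : A →ₗ[k] B)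
    (x : V ⊗[k] A) : lslice ψ (g.lTensor V x) = g (lslice ψ x) := by
  induction x using TensorProduct.induction_on with
  | zero => simp
  | tmul a b => simp
  | add x y hx hy => simp [map_add, hx, hy]

theorem apply_lslice (φ : A →ₗ[k] k) (ψ : V →ₗ[k] k) (x : V ⊗[k] A) :
    φ (lslice ψ x) = ψ (slice φ x) := by
  induction x using TensorProduct.induction_on with
  | zero => simp
  | tmul a b => simp [mul_comm]
  | add x y hx hy => simp [map_add, hx, hy]

theorem lslice_comm (ψ : V →ₗ[k] k) (x : A ⊗[k] V) :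
    lslice ψ (TensorProduct.comm k A V x) = slice ψ x := by
  induction x using TensorProduct.induction_on with
  | zero => simp
  | tmul a b => simp
  | add x y hx hy => simp [map_add, hx, hy]

theorem eq_zero_of_lslice [Module.Free k V] {x : V ⊗[k] A} (h : ∀ ψ : V →ₗ[k] k, lslice ψ x = 0) :
    x = 0 := by
  refine (TensorProduct.comm k V A).injective ?_
  rw [map_zero]
  refine eq_zero_of_slice fun ψ => ?_
  rw [← lslice_comm, ← TensorProduct.comm_symm, LinearEquiv.symm_apply_apply]
  exact h ψ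

theorem mem_range_lTensor_iff [Module.Free k V] (B : Submodule k A) (x : V ⊗[k] A) :
    x ∈ LinearMap.range (B.subtype.lTensor V) ↔ ∀ ψ : V →ₗ[k] k, lslice ψ x ∈ B := by
  refine ⟨?_, fun h => ?_⟩
  · rintro ⟨y, rfl⟩ ψ
    rw [lslice_lTensor]
    exact (lslice ψ y).2
  · have h0 : B.mkQ.lTensor V x = 0 := by
      refine eq_zero_of_lslice fun ψ => ?_
      rw [lslice_lTensor, Submodule.mkQ_apply, Submodule.Quotient.mk_eq_zero]
      exact h ψ
    exact ((_root_.lTensor_exact V (LinearMap.exact_subtype_mkQ B) B.mkQ_surjective) x).1 h0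

end LSlice

section TwoSided

variable {k : Type u} [Field k] {V : Type w} [AddCommGroup V] [Module k V]
  {A : Type v} [AddCommGroup A] [Module k A]

theorem mem_range_map_iff (U : Submodule k V) (B : Submodule k A) (x : V ⊗[k] A) :
    x ∈ LinearMap.range (TensorProduct.map U.subtype B.subtype) ↔
      (∀ φ : A →ₗ[k] k, slice φ x ∈ U) ∧ ∀ ψ : V →ₗ[k] k, lslice ψ x ∈ B := by
  constructor
  · intro hx
    obtain ⟨y, rfl⟩ := hx
    constructor
    · intro φ
      rw [← LinearMap.rTensor_comp_lTensor, LinearMap.comp_apply, slice_rTensor]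
      exact Subtype.property _
    · intro ψ
      rw [← LinearMap.lTensor_comp_rTensor, LinearMap.comp_apply, lslice_lTensor]
      exact Subtype.property _
  · rintro ⟨h1, h2⟩
    obtain ⟨y, rfl⟩ := (mem_range_rTensor_iff U x).2 h1
    have hy : y ∈ LinearMap.range (B.subtype.lTensor U) := by
      refine (mem_range_lTensor_iff B y).2 fun ψ => ?_
      obtain ⟨p, hp⟩ := LinearMap.exists_extend ψ
      rw [← hp, ← lslice_rTensor]
      exact h2 p
    obtain ⟨z, rfl⟩ := hy
    exact ⟨z, by rw [← LinearMap.rTensor_comp_lTensor]; rfl⟩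

end TwoSided

section Coeff

variable {k : Type u} [Field k] {A : Type v} [AddCommGroup A] [Module k A] [Coalgebra k A]
  {V : Type w} [AddCommGroup V] [Module k V] [HopfRep.Comod k A V]
  {W : Type w'} [AddCommGroup W] [Module k W] [HopfRep.Comod k A W]

/-- the coefficient map of a linear form on a comodule -/
def cf (ψ : V →ₗ[k] k) : V →ₗ[k] A := lslice ψ ∘ₗ HopfRep.Comod.coact (k := k) (A := A)

theorem cf_apply (ψ : V →ₗ[k] k) (x : V) :
    cf (A := A) ψ x = lslice ψ (HopfRep.Comod.coact (k := k) (A := A) x) := rfl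

theorem apply_cf (φ : A →ₗ[k] k) (ψ : V →ₗ[k] k) (x : V) : φ (cf (A := A) ψ x) = ψ (op φ x) :=
  apply_lslice φ ψ _

theorem comul_lslice (ψ : V →ₗ[k] k) (z : V ⊗[k] A) :
    Coalgebra.comul (R := k) (lslice ψ z) =
      lslice ψ ((Coalgebra.comul (R := k) (A := A)).lTensor V z) :=
  (lslice_lTensor ψ _ z).symm

theorem lslice_assoc (ψ : V →ₗ[k] k) (z : (V ⊗[k] A) ⊗[k] A) :
    lslice ψ (TensorProduct.assoc k V A A z) = (lslice ψ).rTensor A z := by
  induction z using TensorProduct.induction_on with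
  | zero => simp
  | tmul a b =>
    induction a using TensorProduct.induction_on with
    | zero => simp
    | tmul p q => simp [TensorProduct.smul_tmul']
    | add p q hp hq => simp only [TensorProduct.add_tmul, map_add, hp, hq]
  | add p q hp hq => simp [map_add, hp, hq]

theorem comul_cf (ψ : V →ₗ[k] k) (x : V) :
    Coalgebra.comul (R := k) (cf (A := A) ψ x) =
      (cf (A := A) ψ).rTensor A (HopfRep.Comod.coact (k := k) (A := A) x) := by
  rw [cf_apply, comul_lslice]
  have h := LinearMap.congr_fun (HopfRep.Comod.coassoc (k := k) (A := A) (V := V)) x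
  simp only [LinearMap.comp_apply, LinearEquiv.coe_coe] at h
  rw [← h, lslice_assoc, cf, LinearMap.rTensor_comp_apply]

/-- the coefficient maps are morphisms into the regular comodule -/
theorem isComodHom_cf (ψ : V →ₗ[k] k) : Hoch.IsComodHom A (cf (A := A) ψ) :=
  LinearMap.ext fun x => comul_cf ψ x

theorem isComodHom_eq_cf {f : V →ₗ[k] A} (hf : Hoch.IsComodHom A f) :
    f = cf (A := A) (Coalgebra.counit (R := k) (A := A) ∘ₗ f) := by
  ext x
  have h := LinearMap.congr_fun hf x
  simp only [LinearMap.comp_apply] at h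
  rw [cf_apply, ← lslice_rTensor, ← h]
  change f x = lslice _ (Coalgebra.comul (R := k) (f x))
  simp [lslice]

theorem cf_comp {f : V →ₗ[k] W} (hf : Hoch.IsComodHom A f) (ψ : W →ₗ[k] k) (x : V) :
    cf (A := A) ψ (f x) = cf (A := A) (ψ ∘ₗ f) x := by
  have h := LinearMap.congr_fun hf x
  simp only [LinearMap.comp_apply] at h
  rw [cf_apply, h, lslice_rTensor, cf_apply]

variable (k A V) in
/-- the coefficient space -/
def coeff : Submodule k A := ⨆ ψ : V →ₗ[k] k, LinearMap.range (cf (A := A) ψ)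

theorem cf_mem_coeff (ψ : V →ₗ[k] k) (x : V) : cf (A := A) ψ x ∈ coeff k A V :=
  Submodule.mem_iSup_of_mem ψ ⟨x, rfl⟩

theorem coeff_le_iff (B : Submodule k A) :
    coeff k A V ≤ B ↔ ∀ x : V,
      HopfRep.Comod.coact (k := k) (A := A) x ∈ LinearMap.range (B.subtype.lTensor V) := by
  simp only [mem_range_lTensor_iff]
  exact ⟨fun h x ψ => h (cf_mem_coeff ψ x), fun h => iSup_le fun ψ => by rintro _ ⟨x, rfl⟩; exact h x ψ⟩

theorem isLeast_coeff : IsLeast {D' : Submodule k A |
    ∀ e : V, HopfRep.Comod.coact (k := k) (A := A) e ∈ LinearMap.range (LinearMap.lTensor V D'.subtype)}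
    (coeff k A V) :=
  ⟨(coeff_le_iff _).1 le_rfl, fun _ h => (coeff_le_iff _).2 h⟩

theorem coeff_le_of_injective {f : V →ₗ[k] W} (hf : Hoch.IsComodHom A f) (hinj : Function.Injective f) :
    coeff k A V ≤ coeff k A W := by
  obtain ⟨g, hg⟩ := f.exists_leftInverse_of_injective (LinearMap.ker_eq_bot.2 hinj)
  refine iSup_le fun ψ => ?_
  rintro _ ⟨x, rfl⟩
  have h : ψ = (ψ ∘ₗ g) ∘ₗ f := by rw [LinearMap.comp_assoc, hg, LinearMap.comp_id]
  rw [h, ← cf_comp hf]
  exact cf_mem_coeff _ _

theorem coeff_eq_of_iso {e : V ≃ₗ[k] W} (he : Hoch.IsComodHom A (e : V →ₗ[k] W)) :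
    coeff k A V = coeff k A W :=
  le_antisymm (coeff_le_of_injective he e.injective)
    (coeff_le_of_injective (isComodHom_symm he) e.symm.injective)

theorem range_le_coeff {f : V →ₗ[k] A} (hf : Hoch.IsComodHom A f) :
    LinearMap.range f ≤ coeff k A V := by
  rintro _ ⟨x, rfl⟩
  rw [isComodHom_eq_cf hf]
  exact cf_mem_coeff _ x

theorem isSubcomod_coeff : HopfRep.IsSubcomod (k := k) (A := A) (coeff k A V) :=
  isSubcomod_iSup _ fun ψ => isSubcomod_range (isComodHom_cf ψ)

theorem finite_coeff [Module.Finite k V] : Module.Finite k (coeff k A V) := by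
  let b := Module.finBasis k V
  obtain ⟨s, hs⟩ : ∃ s : Finset A, coeff k A V ≤ Submodule.span k (s : Set A) := by
    classical
    refine ⟨(Finset.univ : Finset (Fin _ × Fin _)).image (fun ij => cf (A := A) (b.coord ij.1) (b ij.2)),
      iSup_le fun ψ => ?_⟩
    rintro _ ⟨x, rfl⟩
    have h1 : cf (A := A) ψ x = ∑ i, ψ (b i) • cf (A := A) (b.coord i) x := by
      simp only [cf_apply]
      generalize HopfRep.Comod.coact (k := k) (A := A) x = z
      induction z using TensorProduct.induction_on with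
      | zero => simp
      | tmul p q =>
        simp only [lslice_tmul, smul_smul, ← Finset.sum_smul]
        congr 1
        conv_lhs => rw [← b.sum_repr p]
        rw [map_sum]
        exact Finset.sum_congr rfl fun i _ => by simp [mul_comm]
      | add p q hp hq => simp [map_add, hp, hq, Finset.sum_add_distrib, smul_add]
    rw [h1]
    refine Submodule.sum_mem _ fun i _ => Submodule.smul_mem _ _ ?_
    rw [← b.sum_repr x, map_sum]
    refine Submodule.sum_mem _ fun j _ => ?_
    rw [map_smul]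
    exact Submodule.smul_mem _ _ (Submodule.subset_span (Finset.mem_coe.2
      (Finset.mem_image.2 ⟨(i, j), Finset.mem_univ _, rfl⟩)))
  exact Module.Finite.of_fg (Submodule.FG.of_le (Submodule.fg_span s.finite_toSet) hs)

end Coeff

section Subcoalg

variable {k : Type u} [Field k] {A : Type v} [AddCommGroup A] [Module k A] [Coalgebra k A]
  {V : Type w} [AddCommGroup V] [Module k V] [HopfRep.Comod k A V]

variable (k) in
/-- subcoalgebras -/
def IsSubcoalg (B : Submodule k A) : Prop :=
  ∀ b ∈ B, CoalgebraStruct.comul (R := k) b ∈ LinearMap.range (TensorProduct.map B.subtype B.subtype)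

theorem isSubcoalg_iff (B : Submodule k A) :
    IsSubcoalg k B ↔ ∀ b ∈ B, (∀ φ : A →ₗ[k] k, slice φ (Coalgebra.comul (R := k) b) ∈ B) ∧
      ∀ ψ : A →ₗ[k] k, lslice ψ (Coalgebra.comul (R := k) b) ∈ B := by
  simp only [IsSubcoalg, mem_range_map_iff]

theorem IsSubcoalg.isSubcomod {B : Submodule k A} (h : IsSubcoalg k B) :
    HopfRep.IsSubcomod (k := k) (A := A) B :=
  fun b hb => (mem_range_rTensor_iff B _).2 ((isSubcoalg_iff B).1 h b hb).1

theorem IsSubcoalg.inf {B B' : Submodule k A} (h : IsSubcoalg k B) (h' : IsSubcoalg k B') :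
    IsSubcoalg k (B ⊓ B') := by
  rw [isSubcoalg_iff] at *
  exact fun b hb => ⟨fun φ => ⟨(h b hb.1).1 φ, (h' b hb.2).1 φ⟩,
    fun ψ => ⟨(h b hb.1).2 ψ, (h' b hb.2).2 ψ⟩⟩

theorem IsSubcoalg.iSup {ι : Sort*} {B : ι → Submodule k A} (h : ∀ i, IsSubcoalg k (B i)) :
    IsSubcoalg k (⨆ i, B i) := by
  rw [isSubcoalg_iff]
  intro b hb
  constructor
  · intro φ
    refine (iSup_le fun i x hx => ?_ : (⨆ i, B i) ≤ (⨆ i, B i).comap (slice φ ∘ₗ Coalgebra.comul (R := k))) hb
    exact Submodule.mem_iSup_of_mem i (((isSubcoalg_iff _).1 (h i) x hx).1 φ)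
  · intro φ
    refine (iSup_le fun i x hx => ?_ : (⨆ i, B i) ≤ (⨆ i, B i).comap (lslice φ ∘ₗ Coalgebra.comul (R := k))) hb
    exact Submodule.mem_iSup_of_mem i (((isSubcoalg_iff _).1 (h i) x hx).2 φ)

theorem isSubcoalg_coeff : IsSubcoalg k (coeff k A V) := by
  rw [isSubcoalg_iff]
  intro b hb
  refine ⟨fun φ => (mem_range_rTensor_iff _ _).1 (isSubcomod_coeff b hb) φ, fun φ => ?_⟩
  refine (iSup_le fun ψ => ?_ : coeff k A V ≤ (coeff k A V).comap (lslice φ ∘ₗ Coalgebra.comul (R := k))) hb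
  rintro _ ⟨x, rfl⟩
  simp only [Submodule.mem_comap, LinearMap.comp_apply, comul_cf, lslice_rTensor]
  exact cf_mem_coeff _ x

theorem coeff_le_of_range_le {B : Submodule k A} (hB : IsSubcoalg k B) {f : V →ₗ[k] A}
    (hf : Hoch.IsComodHom A f) (hinj : Function.Injective f) (hle : LinearMap.range f ≤ B) :
    coeff k A V ≤ B := by
  obtain ⟨g, hg⟩ := f.exists_leftInverse_of_injective (LinearMap.ker_eq_bot.2 hinj)
  refine iSup_le fun ψ => ?_
  rintro _ ⟨x, rfl⟩
  have h : ψ = (ψ ∘ₗ g) ∘ₗ f := by rw [LinearMap.comp_assoc, hg, LinearMap.comp_id]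
  rw [h, ← cf_comp hf]
  exact ((isSubcoalg_iff B).1 hB _ (hle ⟨x, rfl⟩)).2 _

theorem exists_finite_subcoalg {s : Set A} (hs : s.Finite) :
    ∃ B : Submodule k A, Module.Finite k B ∧ s ⊆ B ∧ IsSubcoalg k B := by
  obtain ⟨W, hfin, hsW, hW⟩ := exists_finite_subcomod_span (k := k) (A := A) (V := A) hs
  let c : HopfRep.Comod k A A := inferInstance
  let d := ComodSub.Comod.restr c W hW
  have hsub : @Hoch.IsComodHom k _ A _ _ _ W _ _ d A _ _ c W.subtype :=
    ComodSub.isComodHom_subtype c W hW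
  refine ⟨@coeff k _ A _ _ _ W _ _ d, @finite_coeff k _ A _ _ _ W _ _ d hfin, fun x hx => ?_,
    @isSubcoalg_coeff k _ A _ _ _ W _ _ d⟩
  exact @range_le_coeff k _ A _ _ _ W _ _ d W.subtype hsub x ⟨⟨x, hsW hx⟩, rfl⟩

end Subcoalg

end Groth.ComodLib
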