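import Mathlib
import Groth.Prelude.Def_HopfRep
import Groth.Prelude.Def_Hoch
import Groth.Prelude.Def_ComodSub

/-!
# Comodules as rational modules over the convolution dual

`ComodLib.slice φ : V ⊗ A → V` contracts the coalgebra factor with a linear form, and `ComodLib.op φ` is
the composite with the coaction. Subcomodules, comodule maps and fixed vectors are then read off these operators.
-/

set_option autoImplicit false

universe u v w w'

open TensorProduct WithConv

noncomputable section

set_option linter.unusedSectionVars false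

namespace Groth.ComodLib

section Slice

variable {k : Type u} [CommRing k] {A : Type v} [AddCommGroup A] [Module k A]
  {V : Type w} [AddCommGroup V] [Module k V] {W : Type w'} [AddCommGroup W] [Module k W]

/-- contraction of the second factor -/
def slice (φ : A →ₗ[k] k) : V ⊗[k] A →ₗ[k] V :=
  (TensorProduct.rid k V).toLinearMap ∘ₗ φ.lTensor V

@[simp] theorem slice_tmul (φ : A →ₗ[k] k) (x : V) (a : A) : slice φ (x ⊗ₜ[k] a) = φ a • x := by
  simp [slice]

theorem slice_rTensor (φ : A →ₗ[k] k) (f : V →ₗ[k] W) (x : V ⊗[k] A) :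
    slice φ (f.rTensor A x) = f (slice φ x) := by
  induction x using TensorProduct.induction_on with
  | zero => simp
  | tmul a b => simp
  | add x y hx hy => simp [map_add, hx, hy]

theorem slice_add (φ ψ : A →ₗ[k] k) (x : V ⊗[k] A) : slice (φ + ψ) x = slice φ x + slice ψ x := by
  induction x using TensorProduct.induction_on with
  | zero => simp
  | tmul a b => simp [add_smul]
  | add x y hx hy => simp only [map_add, hx, hy]; abel

theorem slice_smul (c : k) (φ : A →ₗ[k] k) (x : V ⊗[k] A) : slice (c • φ) x = c • slice φ x := by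
  induction x using TensorProduct.induction_on with
  | zero => simp
  | tmul a b => simp [mul_smul]
  | add x y hx hy => simp [map_add, hx, hy]

variable (A) in
/-- the slices of a fixed tensor, as a linear function of the form -/
def sliceL (x : V ⊗[k] A) : (A →ₗ[k] k) →ₗ[k] V where
  toFun φ := slice φ x
  map_add' φ ψ := slice_add φ ψ x
  map_smul' c φ := slice_smul c φ x

@[simp] theorem sliceL_apply (x : V ⊗[k] A) (φ : A →ₗ[k] k) : sliceL A x φ = slice φ x := rfl

theorem range_sliceL_finite (x : V ⊗[k] A) :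
    ∃ s : Finset V, LinearMap.range (sliceL A x) ≤ Submodule.span k (s : Set V) := by
  classical
  obtain ⟨S, hS⟩ := TensorProduct.exists_finset x
  refine ⟨S.image Prod.fst, ?_⟩
  rintro _ ⟨φ, rfl⟩
  rw [sliceL_apply, hS, map_sum]
  refine Submodule.sum_mem _ fun i hi => ?_
  rw [slice_tmul]
  exact Submodule.smul_mem _ _ (Submodule.subset_span (Finset.mem_coe.2 (Finset.mem_image_of_mem _ hi)))

variable [Module.Free k A]

theorem eq_zero_of_slice {x : V ⊗[k] A} (h : ∀ φ : A →ₗ[k] k, slice φ x = 0) : x = 0 := by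
  classical
  let b := Module.Free.chooseBasis k A
  refine (TensorProduct.equivFinsuppOfBasisRight (M := V) b).injective ?_
  rw [map_zero]
  ext i
  have hc : ∀ y : V ⊗[k] A, TensorProduct.equivFinsuppOfBasisRight b y i = slice (b.coord i) y := by
    intro y
    induction y using TensorProduct.induction_on with
    | zero => simp
    | tmul a c => simp
    | add x y hx hy => simp [map_add, hx, hy]
  rw [hc, h]; simp

theorem ext_slice {x y : V ⊗[k] A} (h : ∀ φ : A →ₗ[k] k, slice φ x = slice φ y) : x = y :=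
  sub_eq_zero.1 <| eq_zero_of_slice fun φ => by rw [map_sub, h φ, sub_self]

theorem mem_range_rTensor_iff (U : Submodule k V) (x : V ⊗[k] A) :
    x ∈ LinearMap.range (U.subtype.rTensor A) ↔ ∀ φ : A →ₗ[k] k, slice φ x ∈ U := by
  refine ⟨?_, fun h => ?_⟩
  · rintro ⟨y, rfl⟩ φ
    rw [slice_rTensor]
    exact (slice φ y).2
  · have h0 : U.mkQ.rTensor A x = 0 := by
      refine eq_zero_of_slice fun φ => ?_
      rw [slice_rTensor, Submodule.mkQ_apply, Submodule.Quotient.mk_eq_zero]
      exact h φ
    exact ((_root_.rTensor_exact A (LinearMap.exact_subtype_mkQ U) U.mkQ_surjective) x).1 h0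

end Slice

section Op

variable {k : Type u} [CommRing k] {A : Type v} [AddCommGroup A] [Module k A] [Coalgebra k A]
  {V : Type w} [AddCommGroup V] [Module k V] [HopfRep.Comod k A V]
  {W : Type w'} [AddCommGroup W] [Module k W] [HopfRep.Comod k A W]

/-- the operator of a linear form on a comodule -/
def op (φ : A →ₗ[k] k) : Module.End k V := slice φ ∘ₗ HopfRep.Comod.coact (k := k) (A := A)

theorem op_apply (φ : A →ₗ[k] k) (x : V) :
    op φ x = slice φ (HopfRep.Comod.coact (k := k) (A := A) x) := rfl

omit [Coalgebra k A] [HopfRep.Comod k A V] in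
theorem slice_slice (φ ψ : A →ₗ[k] k) (z : (V ⊗[k] A) ⊗[k] A) :
    slice φ (slice ψ z) =
      slice (LinearMap.mul' k k ∘ₗ TensorProduct.map φ ψ) (TensorProduct.assoc k V A A z) := by
  induction z using TensorProduct.induction_on with
  | zero => simp
  | tmul a b =>
    induction a using TensorProduct.induction_on with
    | zero => simp
    | tmul p q => simp [smul_smul, mul_comm]
    | add x y hx hy => simp only [TensorProduct.add_tmul, map_add, hx, hy]
  | add x y hx hy => simp [map_add, hx, hy]

omit [Coalgebra k A] [HopfRep.Comod k A V] in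
theorem slice_lTensor {B : Type*} [AddCommGroup B] [Module k B] (φ : B →ₗ[k] k) (g : A →ₗ[k] B)
    (x : V ⊗[k] A) : slice φ (g.lTensor V x) = slice (φ ∘ₗ g) x := by
  induction x using TensorProduct.induction_on with
  | zero => simp
  | tmul a b => simp
  | add x y hx hy => simp [map_add, hx, hy]

theorem op_mul (φ ψ : WithConv (A →ₗ[k] k)) (x : V) :
    op (φ * ψ).ofConv x = op φ.ofConv (op ψ.ofConv x) := by
  rw [op_apply, op_apply, op_apply, ← slice_rTensor, slice_slice]
  have h := LinearMap.congr_fun (HopfRep.Comod.coassoc (k := k) (A := A) (V := V)) x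
  simp only [LinearMap.comp_apply, LinearEquiv.coe_coe] at h
  rw [h, slice_lTensor]
  rfl

theorem op_counit (x : V) : op (Coalgebra.counit (R := k) (A := A)) x = x := by
  have h := LinearMap.congr_fun (HopfRep.Comod.counit_comp (k := k) (A := A) (V := V)) x
  simp only [LinearMap.comp_apply] at h
  simp [op, slice, h]

theorem op_one (x : V) : op (1 : WithConv (A →ₗ[k] k)).ofConv x = x := by
  have : (1 : WithConv (A →ₗ[k] k)).ofConv = Coalgebra.counit (R := k) (A := A) := by
    ext a; simp [LinearMap.convOne_def]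
  rw [this, op_counit]

variable (k A V) in
/-- the action of the convolution algebra of the dual -/
def rho : WithConv (A →ₗ[k] k) →ₐ[k] Module.End k V :=
  AlgHom.ofLinearMap
    { toFun := fun φ => op φ.ofConv
      map_add' := fun φ ψ => LinearMap.ext fun x => by
        simp [op_apply, slice_add]
      map_smul' := fun c φ => LinearMap.ext fun x => by
        simp [op_apply, slice_smul] }
    (LinearMap.ext fun x => op_one x)
    (fun φ ψ => LinearMap.ext fun x => op_mul φ ψ x)

@[simp] theorem rho_apply (φ : WithConv (A →ₗ[k] k)) (x : V) : rho k A V φ x = op φ.ofConv x := rfl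

theorem isComodHom_op {f : V →ₗ[k] W} (hf : Hoch.IsComodHom A f) (φ : A →ₗ[k] k) (x : V) :
    f (op φ x) = op φ (f x) := by
  have h := LinearMap.congr_fun hf x
  simp only [LinearMap.comp_apply] at h
  rw [op_apply, op_apply, h, slice_rTensor]

section Free

variable [Module.Free k A]

theorem isComodHom_iff (f : V →ₗ[k] W) :
    Hoch.IsComodHom A f ↔ ∀ (φ : A →ₗ[k] k) (x : V), f (op φ x) = op φ (f x) := by
  refine ⟨fun h => isComodHom_op h, fun h => LinearMap.ext fun x => ext_slice fun φ => ?_⟩
  simp only [LinearMap.comp_apply]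
  rw [slice_rTensor]
  exact (h φ x).symm

theorem isSubcomod_iff (U : Submodule k V) :
    HopfRep.IsSubcomod (k := k) (A := A) U ↔ ∀ (φ : A →ₗ[k] k), ∀ x ∈ U, op φ x ∈ U := by
  simp only [HopfRep.IsSubcomod, mem_range_rTensor_iff]
  exact ⟨fun h φ x hx => h x hx φ, fun h x hx φ => h φ x hx⟩

theorem isSubcomod_bot : HopfRep.IsSubcomod (k := k) (A := A) (⊥ : Submodule k V) := by
  rw [isSubcomod_iff]; intro φ x hx; simp [(Submodule.mem_bot k).1 hx]

theorem isSubcomod_top : HopfRep.IsSubcomod (k := k) (A := A) (⊤ : Submodule k V) := by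
  rw [isSubcomod_iff]; simp

theorem isSubcomod_inf {U U' : Submodule k V} (h : HopfRep.IsSubcomod (k := k) (A := A) U)
    (h' : HopfRep.IsSubcomod (k := k) (A := A) U') :
    HopfRep.IsSubcomod (k := k) (A := A) (U ⊓ U') := by
  rw [isSubcomod_iff] at *
  exact fun φ x hx => ⟨h φ x hx.1, h' φ x hx.2⟩

theorem isSubcomod_iSup {ι : Sort*} (U : ι → Submodule k V)
    (h : ∀ i, HopfRep.IsSubcomod (k := k) (A := A) (U i)) :
    HopfRep.IsSubcomod (k := k) (A := A) (⨆ i, U i) := by
  rw [isSubcomod_iff]
  intro φ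
  change (⨆ i, U i) ≤ (⨆ i, U i).comap (op φ)
  exact iSup_le fun i x hx => Submodule.mem_iSup_of_mem i ((isSubcomod_iff _).1 (h i) φ x hx)

theorem isSubcomod_sup {U U' : Submodule k V} (h : HopfRep.IsSubcomod (k := k) (A := A) U)
    (h' : HopfRep.IsSubcomod (k := k) (A := A) U') :
    HopfRep.IsSubcomod (k := k) (A := A) (U ⊔ U') := by
  rw [sup_eq_iSup]
  exact isSubcomod_iSup _ (Bool.rec h' h)

theorem isSubcomod_iInf {ι : Sort*} (U : ι → Submodule k V)
    (h : ∀ i, HopfRep.IsSubcomod (k := k) (A := A) (U i)) :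
    HopfRep.IsSubcomod (k := k) (A := A) (⨅ i, U i) := by
  rw [isSubcomod_iff]
  simp only [Submodule.mem_iInf]
  exact fun φ x hx i => (isSubcomod_iff _).1 (h i) φ x (hx i)

theorem isSubcomod_map {f : V →ₗ[k] W} (hf : Hoch.IsComodHom A f) {U : Submodule k V}
    (h : HopfRep.IsSubcomod (k := k) (A := A) U) :
    HopfRep.IsSubcomod (k := k) (A := A) (U.map f) := by
  rw [isSubcomod_iff] at *
  rintro φ _ ⟨y, hy, rfl⟩
  exact ⟨op φ y, h φ y hy, isComodHom_op hf φ y⟩

theorem isSubcomod_comap {f : V →ₗ[k] W} (hf : Hoch.IsComodHom A f) {U : Submodule k W}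
    (h : HopfRep.IsSubcomod (k := k) (A := A) U) :
    HopfRep.IsSubcomod (k := k) (A := A) (U.comap f) := by
  rw [isSubcomod_iff] at *
  intro φ x hx
  simp only [Submodule.mem_comap] at hx ⊢
  rw [isComodHom_op hf]
  exact h φ _ hx

theorem isSubcomod_range {f : V →ₗ[k] W} (hf : Hoch.IsComodHom A f) :
    HopfRep.IsSubcomod (k := k) (A := A) (LinearMap.range f) := by
  rw [← Submodule.map_top]; exact isSubcomod_map hf isSubcomod_top

theorem isSubcomod_ker {f : V →ₗ[k] W} (hf : Hoch.IsComodHom A f) :
    HopfRep.IsSubcomod (k := k) (A := A) (LinearMap.ker f) :=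
  isSubcomod_comap hf isSubcomod_bot

variable (A) in
/-- the subcomodule generated by a vector -/
def gen (x : V) : Submodule k V :=
  LinearMap.range (sliceL A (HopfRep.Comod.coact (k := k) (A := A) x))

theorem mem_gen_self (x : V) : x ∈ gen (k := k) A x :=
  ⟨Coalgebra.counit (R := k) (A := A), op_counit x⟩

theorem gen_le {x : V} {U : Submodule k V} (hU : HopfRep.IsSubcomod (k := k) (A := A) U)
    (hx : x ∈ U) : gen (k := k) A x ≤ U := by
  rintro _ ⟨φ, rfl⟩
  exact (isSubcomod_iff U).1 hU φ x hx

theorem isSubcomod_gen (x : V) : HopfRep.IsSubcomod (k := k) (A := A) (gen (k := k) A x) := by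
  rw [isSubcomod_iff]
  rintro φ _ ⟨ψ, rfl⟩
  refine ⟨(toConv φ * toConv ψ).ofConv, ?_⟩
  change op (toConv φ * toConv ψ).ofConv x = op φ (op ψ x)
  rw [op_mul]

theorem finite_gen [IsNoetherianRing k] (x : V) : Module.Finite k (gen (k := k) A x) := by
  obtain ⟨s, hs⟩ := range_sliceL_finite (HopfRep.Comod.coact (k := k) (A := A) x)
  exact Module.Finite.of_fg <| Submodule.FG.of_le (Submodule.fg_span s.finite_toSet) hs

theorem exists_finite_subcomod_span [IsNoetherianRing k] {s : Set V} (hs : s.Finite) :
    ∃ U : Submodule k V, Module.Finite k U ∧ s ⊆ U ∧ HopfRep.IsSubcomod (k := k) (A := A) U := by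
  have := hs.to_subtype
  refine ⟨⨆ x : s, gen (k := k) A x.1, ?_, ?_, isSubcomod_iSup _ fun x => isSubcomod_gen _⟩
  · exact Module.Finite.of_fg <| Submodule.fg_iSup _ fun x =>
      Module.Finite.iff_fg.1 (finite_gen (k := k) (A := A) (x : V))
  · exact fun x hx => Submodule.mem_iSup_of_mem (⟨x, hx⟩ : s) (mem_gen_self x)

end Free

end Op

section Rat

variable (k : Type u) [CommRing k] (A : Type v) [AddCommGroup A] [Module k A] [Coalgebra k A]
  (V : Type w) [AddCommGroup V] [Module k V] [HopfRep.Comod k A V]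

/-- a comodule seen as a module over the convolution dual -/
@[nolint unusedArguments]
def RatMod (_k : Type u) (_A : Type v) (V : Type w) : Type w := V

instance : AddCommGroup (RatMod k A V) := inferInstanceAs (AddCommGroup V)
instance : Module k (RatMod k A V) := inferInstanceAs (Module k V)
instance : Module (WithConv (A →ₗ[k] k)) (RatMod k A V) :=
  Module.compHom V (rho k A V).toRingHom

/-- the identity identification -/
def RatMod.equiv : V ≃ₗ[k] RatMod k A V := LinearEquiv.refl k V

variable {k A V}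

theorem RatMod.smul_def (φ : WithConv (A →ₗ[k] k)) (x : V) :
    φ • RatMod.equiv k A V x = RatMod.equiv k A V (op φ.ofConv x) := rfl

instance : IsScalarTower k (WithConv (A →ₗ[k] k)) (RatMod k A V) :=
  ⟨fun c φ x => show rho k A V (c • φ) x = c • rho k A V φ x by rw [map_smul]; rfl⟩

variable [Module.Free k A]

/-- subcomodules are the submodules over the convolution dual -/
def subEquiv : {U : Submodule k V // HopfRep.IsSubcomod (k := k) (A := A) U} ≃o
    Submodule (WithConv (A →ₗ[k] k)) (RatMod k A V) where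
  toFun U :=
    { carrier := (U.1 : Set V)
      add_mem' := U.1.add_mem
      zero_mem' := U.1.zero_mem
      smul_mem' := fun φ x hx => (isSubcomod_iff U.1).1 U.2 φ.ofConv x hx }
  invFun N := ⟨
    { carrier := (N : Set (RatMod k A V))
      add_mem' := N.add_mem
      zero_mem' := N.zero_mem
      smul_mem' := fun c x hx => N.smul_of_tower_mem c hx },
    (isSubcomod_iff _).2 fun φ x hx => N.smul_mem (toConv φ) hx⟩
  left_inv U := Subtype.ext (SetLike.ext fun _ => Iff.rfl)
  right_inv N := SetLike.ext fun _ => Iff.rfl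
  map_rel_iff' := Iff.rfl

theorem subEquiv_bot : (subEquiv (k := k) (A := A) (V := V)) ⟨⊥, isSubcomod_bot⟩ = ⊥ := rfl

theorem subEquiv_top : (subEquiv (k := k) (A := A) (V := V)) ⟨⊤, isSubcomod_top⟩ = ⊤ := rfl

theorem isSimpleComod_iff :
    HopfRep.IsSimpleComod k A V ↔ IsSimpleModule (WithConv (A →ₗ[k] k)) (RatMod k A V) := by
  let e := subEquiv (k := k) (A := A) (V := V)
  rw [isSimpleModule_iff]
  constructor
  · rintro ⟨hn, h⟩
    have : Nontrivial (RatMod k A V) := hn
    refine { toNontrivial := inferInstance, eq_bot_or_eq_top := fun N => ?_ }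
    obtain ⟨U, rfl⟩ := e.surjective N
    rcases h U.1 U.2 with hU | hU
    · exact Or.inl ((congrArg e (Subtype.ext hU)).trans subEquiv_bot)
    · exact Or.inr ((congrArg e (Subtype.ext hU)).trans subEquiv_top)
  · intro h
    have hn : Nontrivial (RatMod k A V) :=
      (Submodule.nontrivial_iff (WithConv (A →ₗ[k] k))).1 inferInstance
    refine ⟨hn, fun U hU => ?_⟩
    rcases eq_bot_or_eq_top (e ⟨U, hU⟩) with h' | h'
    · exact Or.inl (congrArg Subtype.val (e.injective (h'.trans subEquiv_bot.symm)))
    · exact Or.inr (congrArg Subtype.val (e.injective (h'.trans subEquiv_top.symm)))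

theorem isCompl_subEquiv_iff (U U' : {U : Submodule k V // HopfRep.IsSubcomod (k := k) (A := A) U}) :
    IsCompl (subEquiv U) (subEquiv U') ↔ IsCompl U.1 U'.1 := by
  have hi : subEquiv U ⊓ subEquiv U' = subEquiv ⟨U.1 ⊓ U'.1, isSubcomod_inf U.2 U'.2⟩ :=
    SetLike.ext fun x => Iff.rfl
  have hs : subEquiv U ⊔ subEquiv U' = subEquiv ⟨U.1 ⊔ U'.1, isSubcomod_sup U.2 U'.2⟩ :=
    le_antisymm (sup_le (subEquiv.monotone (le_sup_left (α := Submodule k V)))
      (subEquiv.monotone (le_sup_right (α := Submodule k V))))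
      (subEquiv.le_symm_apply.1 (sup_le (α := Submodule k V)
        (subEquiv.le_symm_apply.2 le_sup_left) (subEquiv.le_symm_apply.2 le_sup_right)))
  simp only [isCompl_iff, disjoint_iff, codisjoint_iff, hi, hs, ← subEquiv_bot, ← subEquiv_top,
    EmbeddingLike.apply_eq_iff_eq, Subtype.mk.injEq]

theorem isSemisimpleComod_iff :
    HopfRep.IsSemisimpleComod k A V ↔ IsSemisimpleModule (WithConv (A →ₗ[k] k)) (RatMod k A V) := by
  rw [isSemisimpleModule_iff]
  constructor
  · refine fun h => ⟨fun N => ?_⟩
    obtain ⟨U, rfl⟩ := (subEquiv (k := k) (A := A) (V := V)).surjective N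
    obtain ⟨U', hU', hc⟩ := h U.1 U.2
    exact ⟨subEquiv ⟨U', hU'⟩, (isCompl_subEquiv_iff U ⟨U', hU'⟩).2 hc⟩
  · intro h U hU
    obtain ⟨N, hN⟩ := exists_isCompl (subEquiv ⟨U, hU⟩)
    obtain ⟨U', rfl⟩ := (subEquiv (k := k) (A := A) (V := V)).surjective N
    exact ⟨U'.1, U'.2, (isCompl_subEquiv_iff ⟨U, hU⟩ U').1 hN⟩

section Hom

variable {W : Type w'} [AddCommGroup W] [Module k W] [HopfRep.Comod k A W]

/-- a comodule map as a linear map over the convolution dual -/
def toRatHom (f : V →ₗ[k] W) (hf : Hoch.IsComodHom A f) :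
    RatMod k A V →ₗ[WithConv (A →ₗ[k] k)] RatMod k A W where
  toFun x := RatMod.equiv k A W (f ((RatMod.equiv k A V).symm x))
  map_add' x y := f.map_add _ _
  map_smul' φ x := isComodHom_op hf φ.ofConv _

/-- a linear map over the convolution dual as a map of the underlying modules -/
def ofRatHom (g : RatMod k A V →ₗ[WithConv (A →ₗ[k] k)] RatMod k A W) : V →ₗ[k] W :=
  (RatMod.equiv k A W).symm.toLinearMap ∘ₗ g.restrictScalars k ∘ₗ (RatMod.equiv k A V).toLinearMap

theorem isComodHom_ofRatHom (g : RatMod k A V →ₗ[WithConv (A →ₗ[k] k)] RatMod k A W) :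
    Hoch.IsComodHom A (ofRatHom g) :=
  (isComodHom_iff _).2 fun φ x => g.map_smul (toConv φ) (RatMod.equiv k A V x)

end Hom

end Rat

end Groth.ComodLib
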