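import Groth.Agent.Hopf.Coeff
import Groth.Prelude.Def_ComodSub

/-!
# The fixed-vector series of a comodule; coconnected coalgebras and unipotence
-/

set_option autoImplicit false
set_option linter.unusedSectionVars false

universe u v w w'

open TensorProduct

noncomputable section

namespace Groth.ComodLib

section Basic

variable {k : Type u} [Field k] {A : Type v} [Ring A] [Bialgebra k A]
  {V : Type w} [AddCommGroup V] [Module k V] [HopfRep.Comod k A V]
  {W : Type w'} [AddCommGroup W] [Module k W] [HopfRep.Comod k A W]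

/-- the part of a linear form killing `1` -/
def augL (φ : A →ₗ[k] k) : A →ₗ[k] k := φ - φ 1 • Coalgebra.counit (R := k) (A := A)

theorem augL_one (φ : A →ₗ[k] k) : augL φ 1 = 0 := by simp [augL]

theorem augL_of_one {φ : A →ₗ[k] k} (h : φ 1 = 0) : augL φ = φ := by simp [augL, h]

theorem op_add (φ ψ : A →ₗ[k] k) (x : V) : op (φ + ψ) x = op φ x + op ψ x := slice_add φ ψ _

theorem op_smul (c : k) (φ : A →ₗ[k] k) (x : V) : op (c • φ) x = c • op φ x := slice_smul c φ _

theorem op_sub (φ ψ : A →ₗ[k] k) (x : V) : op (φ - ψ) x = op φ x - op ψ x := by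
  rw [eq_sub_iff_add_eq, ← op_add, sub_add_cancel]

theorem op_augL (φ : A →ₗ[k] k) (x : V) : op (augL φ) x = op φ x - φ 1 • x := by
  rw [augL, op_sub, op_smul, op_counit]

variable (k A V) in
/-- the series of iterated fixed vectors -/
def fixSeries : ℕ → Submodule k V
  | 0 => ⊥
  | n + 1 => ⨅ φ : A →ₗ[k] k, (fixSeries n).comap (op (augL φ))

theorem mem_fixSeries_succ {n : ℕ} {x : V} :
    x ∈ fixSeries k A V (n + 1) ↔ ∀ φ : A →ₗ[k] k, op (augL φ) x ∈ fixSeries k A V n := by
  simp [fixSeries, Submodule.mem_iInf]

theorem mem_fixSeries_succ_iff_coact {n : ℕ} {x : V} :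
    x ∈ fixSeries k A V (n + 1) ↔ HopfRep.Comod.coact (k := k) (A := A) x - x ⊗ₜ[k] (1 : A) ∈
      LinearMap.range ((fixSeries k A V n).subtype.rTensor A) := by
  rw [mem_fixSeries_succ, mem_range_rTensor_iff]
  simp only [map_sub, slice_tmul, ← op_apply, op_augL]

theorem fixSeries_le_succ : ∀ n : ℕ, fixSeries k A V n ≤ fixSeries k A V (n + 1)
  | 0 => bot_le
  | n + 1 => fun _ hx => mem_fixSeries_succ.2 fun φ => fixSeries_le_succ n (mem_fixSeries_succ.1 hx φ)

theorem fixSeries_mono : Monotone (fixSeries k A V) := monotone_nat_of_le_succ fixSeries_le_succ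

theorem isSubcomod_fixSeries : ∀ n : ℕ, HopfRep.IsSubcomod (k := k) (A := A) (fixSeries k A V n)
  | 0 => isSubcomod_bot
  | n + 1 => (isSubcomod_iff _).2 fun φ x hx => by
      have h : op φ x = op (augL φ) x + φ 1 • x := by rw [op_augL, sub_add_cancel]
      rw [h]
      exact Submodule.add_mem _ (fixSeries_le_succ n (mem_fixSeries_succ.1 hx φ)) (Submodule.smul_mem _ _ hx)

theorem fixSeries_one : fixSeries k A V 1 = HopfRep.fixedPts k A V := by
  ext x
  rw [mem_fixSeries_succ]
  constructor
  · intro h
    refine ext_slice fun φ => ?_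
    have := (Submodule.mem_bot k).1 (h φ)
    rw [op_augL, sub_eq_zero] at this
    rw [slice_tmul, ← op_apply, this]
  · intro hx φ
    change op (augL φ) x ∈ (⊥ : Submodule k V)
    rw [Submodule.mem_bot, op_apply, show HopfRep.Comod.coact (k := k) (A := A) x = x ⊗ₜ[k] (1 : A) from hx,
      slice_tmul, augL_one, zero_smul]

theorem map_fixSeries_le {f : V →ₗ[k] W} (hf : Hoch.IsComodHom A f) :
    ∀ (n : ℕ) {x : V}, x ∈ fixSeries k A V n → f x ∈ fixSeries k A W n
  | 0, x, hx => by
      rw [show x = 0 from (Submodule.mem_bot k).1 hx, map_zero]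
      exact Submodule.zero_mem _
  | n + 1, x, hx => mem_fixSeries_succ.2 fun φ => by
      rw [← isComodHom_op hf]
      exact map_fixSeries_le hf n (mem_fixSeries_succ.1 hx φ)

theorem fixedPts_ne_bot_of_fixSeries [Nontrivial V] {m : ℕ} (h : fixSeries k A V m = ⊤) :
    HopfRep.fixedPts k A V ≠ ⊥ := by
  intro h0
  have hall : ∀ n, fixSeries k A V n = ⊥ := by
    intro n
    induction n with
    | zero => rfl
    | succ n ih =>
      refine le_bot_iff.1 (h0 ▸ fixSeries_one (k := k) (A := A) (V := V) ▸ fun x hx => mem_fixSeries_succ.2 fun φ => ?_)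
      have := mem_fixSeries_succ.1 hx φ
      rw [ih] at this
      exact this
  exact bot_ne_top ((hall m).symm.trans h)

/-- a chain with trivial quotients is below the fixed series -/
theorem le_fixSeries {F : ℕ → Submodule k V} (h0 : F 0 = ⊥)
    (h : ∀ i, ∀ x ∈ F (i + 1), HopfRep.Comod.coact (k := k) (A := A) x - x ⊗ₜ[k] (1 : A) ∈
      LinearMap.range ((F i).subtype.rTensor A)) : ∀ n, F n ≤ fixSeries k A V n
  | 0 => h0.le
  | n + 1 => fun x hx => mem_fixSeries_succ.2 fun φ => by
      refine le_fixSeries h0 h n ?_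
      have := (mem_range_rTensor_iff (F n) _).1 (h n x hx) φ
      rw [map_sub, slice_tmul, ← op_apply] at this
      rw [op_augL]
      exact this

/-- a point acts unipotently -/
theorem isNilpotent_op_sub_one {φ : A →ₗ[k] k} (hφ : φ 1 = 1) {m : ℕ} (h : fixSeries k A V m = ⊤) :
    IsNilpotent (op (V := V) φ - 1) := by
  have key : ∀ (j n : ℕ) (x : V), x ∈ fixSeries k A V n → n ≤ j → ((op (V := V) φ - 1) ^ j) x = 0 := by
    intro j
    induction j with
    | zero =>
      intro n x hx hn
      obtain rfl : n = 0 := Nat.le_zero.1 hn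
      simpa using (Submodule.mem_bot k).1 hx
    | succ j ih =>
      intro n x hx hn
      rw [pow_succ, Module.End.mul_apply]
      rcases n with _ | n
      · rw [(Submodule.mem_bot k).1 hx, map_zero, map_zero]
      · refine ih n _ ?_ (by omega)
        have := mem_fixSeries_succ.1 hx φ
        rwa [op_augL, hφ, one_smul] at this
  exact ⟨m, LinearMap.ext fun x => key m m x (h ▸ Submodule.mem_top) le_rfl⟩

end Basic

section Unip

variable {k : Type u} [Field k] {A : Type v} [CommRing A] [Bialgebra k A]

theorem exists_fixSeries_eq_top (hU : HopfRep.IsUnipotent k A) (V : Type v) [AddCommGroup V] [Module k V]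
    [c : HopfRep.Comod k A V] [Module.Finite k V] : ∃ m, fixSeries k A V m = ⊤ := by
  by_contra hne
  push Not at hne
  have hlt : ∀ n, fixSeries k A V n < fixSeries k A V (n + 1) := by
    intro n
    refine lt_of_le_of_ne (fixSeries_le_succ n) fun e => ?_
    let cq := ComodSub.Comod.quot c (fixSeries k A V n) (isSubcomod_fixSeries n)
    have : Nontrivial (V ⧸ fixSeries k A V n) := Submodule.Quotient.nontrivial_iff.2 (hne n)
    obtain ⟨q, hq, hq0⟩ := (Submodule.ne_bot_iff _).1 (@hU (V ⧸ fixSeries k A V n) _ _ cq inferInstance this)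
    obtain ⟨v, rfl⟩ := Submodule.mkQ_surjective _ q
    refine hq0 ((Submodule.Quotient.mk_eq_zero _).2 (e.symm ▸ mem_fixSeries_succ.2 fun φ => ?_))
    have hm := ComodSub.isComodHom_mkQ c (fixSeries k A V n) (isSubcomod_fixSeries n)
    rw [← Submodule.Quotient.mk_eq_zero, ← Submodule.mkQ_apply,
      @isComodHom_op k _ A _ _ _ V _ _ c (V ⧸ fixSeries k A V n) _ _ cq _ hm]
    rw [@op_augL k _ A _ _ (V ⧸ fixSeries k A V n) _ _ cq, @op_apply k _ A _ _ _ (V ⧸ fixSeries k A V n) _ _ cq,
      show cq.coact ((fixSeries k A V n).mkQ v) = (fixSeries k A V n).mkQ v ⊗ₜ[k] (1 : A) from hq,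
      slice_tmul, sub_self]
  have hdim : ∀ n, n ≤ Module.finrank k (fixSeries k A V n) := by
    intro n
    induction n with
    | zero => simp
    | succ n ih => exact Nat.lt_of_le_of_lt ih (Submodule.finrank_lt_finrank_of_lt (hlt n))
  exact absurd ((hdim (Module.finrank k V + 1)).trans (Submodule.finrank_le _)) (by omega)

/-- the fixed series of any comodule of a unipotent group is exhaustive -/
theorem exists_mem_fixSeries (hU : HopfRep.IsUnipotent k A) {V : Type v} [AddCommGroup V] [Module k V]
    [c : HopfRep.Comod k A V] (x : V) : ∃ m, x ∈ fixSeries k A V m := by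
  let U := gen (k := k) A x
  have := finite_gen (k := k) (A := A) x
  let cU := ComodSub.Comod.restr c U (isSubcomod_gen x)
  obtain ⟨m, hm⟩ := @exists_fixSeries_eq_top k _ A _ _ hU U _ _ cU this
  exact ⟨m, @map_fixSeries_le k _ A _ _ U _ _ cU V _ _ c U.subtype
    (ComodSub.isComodHom_subtype c U (isSubcomod_gen x)) m ⟨x, mem_gen_self x⟩ (hm ▸ Submodule.mem_top)⟩

end Unip

section Regular

variable {k : Type u} [Field k] {A : Type v} [Ring A] [Bialgebra k A]

theorem fixSeries_regular_one : fixSeries k A A 1 = Submodule.span k {(1 : A)} := by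
  rw [fixSeries_one]
  refine le_antisymm (fun a ha => ?_) ?_
  · have h := congrArg (fun z => TensorProduct.lid k A ((Coalgebra.counit (R := k) (A := A)).rTensor A z))
      (show Coalgebra.comul (R := k) a = a ⊗ₜ[k] (1 : A) from ha)
    simp only [Coalgebra.rTensor_counit_comul, LinearMap.rTensor_tmul, TensorProduct.lid_tmul, one_smul] at h
    exact h ▸ Submodule.smul_mem _ _ (Submodule.mem_span_singleton_self _)
  · rw [Submodule.span_le, Set.singleton_subset_iff]
    change Coalgebra.comul (R := k) (1 : A) = (1 : A) ⊗ₜ[k] (1 : A)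
    rw [Bialgebra.comul_one, Algebra.TensorProduct.one_def]

theorem lslice_comul_mem (α : A →ₗ[k] k) : ∀ (j n : ℕ) (a : A), a ∈ fixSeries k A A n →
    (∀ b ∈ fixSeries k A A (n - j), α b = 0) → lslice α (Coalgebra.comul (R := k) a) ∈ fixSeries k A A j := by
  intro j
  induction j with
  | zero =>
    intro n a ha hα
    obtain ⟨z, hz⟩ := isSubcomod_fixSeries n a ha
    change lslice α (Coalgebra.comul (R := k) a) ∈ (⊥ : Submodule k A)
    rw [Submodule.mem_bot, show Coalgebra.comul (R := k) a = (fixSeries k A A n).subtype.rTensor A z from hz.symm,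
      lslice_rTensor, show α ∘ₗ (fixSeries k A A n).subtype = 0 from LinearMap.ext fun b => hα b b.2]
    simp [lslice]
  | succ j ih =>
    intro n a ha hα
    refine mem_fixSeries_succ.2 fun φ => ?_
    have h : cf (A := A) α (op (augL φ) a) = op (augL φ) (cf (A := A) α a) :=
      isComodHom_op (isComodHom_cf α) _ a
    change op (augL φ) (cf (A := A) α a) ∈ _
    rw [← h]
    rcases n with _ | n
    · rw [(Submodule.mem_bot k).1 ha, map_zero, map_zero]
      exact Submodule.zero_mem _
    · exact ih n _ (mem_fixSeries_succ.1 ha φ) fun b hb => hα b (by rwa [Nat.succ_sub_succ])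

theorem apply_slice_comul_eq_zero {i n : ℕ} {a : A} (ha : a ∈ fixSeries k A A n) {α β : A →ₗ[k] k}
    (hα : ∀ b ∈ fixSeries k A A (n - i), α b = 0) (hβ : ∀ b ∈ fixSeries k A A i, β b = 0) :
    α (slice β (Coalgebra.comul (R := k) a)) = 0 := by
  rw [← apply_lslice]
  exact hβ _ (lslice_comul_mem α i n a ha hα)

end Regular

section Wedge

variable {k : Type u} [Field k] {A : Type v} [AddCommGroup A] [Module k A]

theorem range_mapIncl_le {p p' q q' : Submodule k A} (hp : p ≤ p') (hq : q ≤ q') :
    LinearMap.range (TensorProduct.mapIncl p q) ≤ LinearMap.range (TensorProduct.mapIncl p' q') := by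
  rw [TensorProduct.range_mapIncl, TensorProduct.range_mapIncl]
  exact Submodule.map₂_le_map₂ hp hq

theorem mem_iSup_mapIncl (C : ℕ → Submodule k A) (hC : Monotone C) (r : ℕ) {z : A ⊗[k] A}
    (hz : z ∈ LinearMap.range (TensorProduct.mapIncl (C r) (C r)))
    (h : ∀ s < r, ∀ α β : A →ₗ[k] k, (∀ b ∈ C s, α b = 0) → (∀ b ∈ C (r - s - 1), β b = 0) →
      α (slice β z) = 0) :
    z ∈ ⨆ i ∈ Finset.range (r + 1), LinearMap.range (TensorProduct.mapIncl (C i) (C (r - i))) := by
  let P : ℕ → Submodule k (A ⊗[k] A) := fun s =>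
    (⨆ i ∈ Finset.range s, LinearMap.range (TensorProduct.mapIncl (C i) (C (r - i)))) ⊔
      LinearMap.range (TensorProduct.mapIncl (C r) (C (r - s)))
  have key : ∀ s ≤ r, z ∈ P s := by
    intro s
    induction s with
    | zero => exact fun _ => Submodule.mem_sup_right hz
    | succ s ih =>
      intro hs
      obtain ⟨w, hw, _, ⟨y, rfl⟩, rfl⟩ := Submodule.mem_sup.1 (ih (by omega))
      obtain ⟨p, hp⟩ := (C s).subtype.exists_leftInverse_of_injective (C s).ker_subtype
      obtain ⟨q, hq⟩ := (C (r - s - 1)).subtype.exists_leftInverse_of_injective (C (r - s - 1)).ker_subtype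
      let p' : A →ₗ[k] A := (C s).subtype ∘ₗ p
      let q' : A →ₗ[k] A := (C (r - s - 1)).subtype ∘ₗ q
      set Y := TensorProduct.mapIncl (C r) (C (r - s)) y
      have hzero : TensorProduct.map (LinearMap.id - p') (LinearMap.id - q') Y = 0 := by
        refine eq_zero_of_slice fun β => ?_
        refine (Module.forall_dual_apply_eq_zero_iff k _).1 fun α => ?_
        let α' := α ∘ₗ (LinearMap.id - p')
        let β' := β ∘ₗ (LinearMap.id - q')
        have hα' : ∀ b ∈ C s, α' b = 0 := fun b hb => by
          have : p b = ⟨b, hb⟩ := LinearMap.congr_fun hp ⟨b, hb⟩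
          simp [α', p', this]
        have hβ' : ∀ b ∈ C (r - s - 1), β' b = 0 := fun b hb => by
          have : q b = ⟨b, hb⟩ := LinearMap.congr_fun hq ⟨b, hb⟩
          simp [β', q', this]
        have e : ∀ x : A ⊗[k] A, α (slice β (TensorProduct.map (LinearMap.id - p') (LinearMap.id - q') x)) =
            α' (slice β' x) := by
          intro x
          induction x using TensorProduct.induction_on with
          | zero => simp
          | tmul a b => simp [α', β']
          | add a b ha hb => simp only [map_add, ha, hb]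
        have h0 := h s (by omega) α' β' hα' hβ'
        rw [map_add, map_add] at h0
        have hw0 : α' (slice β' w) = 0 := by
          refine Submodule.mem_comap.1 ((iSup₂_le fun i hi => ?_ : _ ≤ Submodule.comap (slice β')
            (LinearMap.ker α')) hw)
          rintro _ ⟨x, rfl⟩
          induction x using TensorProduct.induction_on with
          | zero => simp
          | tmul a b =>
            simp [TensorProduct.mapIncl, hα' _ (hC (Nat.le_of_lt (Finset.mem_range.1 hi)) a.2)]
          | add a b ha hb => rw [map_add]; exact Submodule.add_mem _ ha hb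
        rw [hw0, zero_add] at h0
        rw [e]
        exact h0
      have hdec : Y = TensorProduct.map p' LinearMap.id Y + TensorProduct.map (LinearMap.id - p') q' Y := by
        have hsum : ∀ x : A ⊗[k] A, x = TensorProduct.map p' LinearMap.id x +
            (TensorProduct.map (LinearMap.id - p') q' x +
              TensorProduct.map (LinearMap.id - p') (LinearMap.id - q') x) := by
          intro x
          induction x using TensorProduct.induction_on with
          | zero => simp
          | tmul a b =>
            simp only [TensorProduct.map_tmul, LinearMap.id_apply, LinearMap.sub_apply]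
            rw [← TensorProduct.tmul_add, add_sub_cancel, ← TensorProduct.add_tmul, add_sub_cancel]
          | add a b ha hb =>
            simp only [map_add]
            conv_lhs => rw [ha, hb]
            abel
        conv_lhs => rw [hsum Y, hzero, add_zero]
      have h1 : TensorProduct.map p' LinearMap.id Y ∈ LinearMap.range (TensorProduct.mapIncl (C s) (C (r - s))) := by
        refine ⟨TensorProduct.map (p ∘ₗ (C r).subtype) LinearMap.id y, ?_⟩
        change TensorProduct.map _ _ (TensorProduct.map _ _ y) = TensorProduct.map _ _ (TensorProduct.map _ _ y)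
        rw [← LinearMap.comp_apply, ← TensorProduct.map_comp, ← LinearMap.comp_apply (TensorProduct.map p' _),
          ← TensorProduct.map_comp]
        rfl
      have h2 : TensorProduct.map (LinearMap.id - p') q' Y ∈
          LinearMap.range (TensorProduct.mapIncl (C r) (C (r - (s + 1)))) := by
        have hle : ∀ b ∈ C r, b - p' b ∈ C r := fun b hb =>
          Submodule.sub_mem _ hb (hC (by omega) (p b).2)
        rw [← Nat.sub_sub]
        refine ⟨TensorProduct.map (((LinearMap.id - p') ∘ₗ (C r).subtype).codRestrict (C r) fun b => hle b b.2)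
          (q ∘ₗ (C (r - s)).subtype) y, ?_⟩
        change TensorProduct.map _ _ (TensorProduct.map _ _ y) = TensorProduct.map _ _ (TensorProduct.map _ _ y)
        rw [← LinearMap.comp_apply, ← TensorProduct.map_comp, ← LinearMap.comp_apply (TensorProduct.map _ q'),
          ← TensorProduct.map_comp, LinearMap.subtype_comp_codRestrict]
        rfl
      rw [hdec, ← add_assoc]
      refine Submodule.add_mem_sup (Submodule.add_mem _ ?_ ?_) h2
      · exact (iSup₂_le fun i hi => le_iSup₂_of_le i (Finset.mem_range.2 (by
          have := Finset.mem_range.1 hi; omega)) le_rfl : _ ≤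
          ⨆ i ∈ Finset.range (s + 1), LinearMap.range (TensorProduct.mapIncl (C i) (C (r - i)))) hw
      · exact Submodule.mem_iSup_of_mem s (Submodule.mem_iSup_of_mem (Finset.mem_range.2 (by omega)) h1)
  refine (sup_le (iSup₂_le fun i hi => le_iSup₂_of_le i (Finset.mem_range.2 (by
      have := Finset.mem_range.1 hi; omega)) le_rfl) ?_ : P r ≤ _) (key r le_rfl)
  rw [Nat.sub_self]
  exact le_iSup₂_of_le r (Finset.mem_range.2 (by omega)) (by rw [Nat.sub_self])

end Wedge

section Coconnected

variable {k : Type u} [Field k] {A : Type v} [Ring A] [Bialgebra k A]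

/-- a coconnected bialgebra has fixed vectors in every nonzero comodule -/
theorem fixedPts_ne_bot_of_coconnected (C : ℕ → Submodule k A) (hC : Monotone C)
    (h0 : C 0 = Submodule.span k {(1 : A)}) (htop : (⨆ r, C r) = ⊤)
    (hcomul : ∀ r, Submodule.map (CoalgebraStruct.comul (R := k) (A := A)) (C r) ≤
      ⨆ i ∈ Finset.range (r + 1), LinearMap.range (TensorProduct.mapIncl (C i) (C (r - i))))
    {V : Type w} [AddCommGroup V] [Module k V] [HopfRep.Comod k A V] [Nontrivial V] :
    HopfRep.fixedPts k A V ≠ ⊥ := by
  intro hbot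
  have main : ∀ r, ∀ x : V, (∀ φ : A →ₗ[k] k, (∀ b ∈ C r, φ b = 0) → op φ x = 0) → x = 0 := by
    intro r
    induction r with
    | zero =>
      intro x hx
      have hfix : x ∈ HopfRep.fixedPts k A V := by
        rw [← fixSeries_one, mem_fixSeries_succ]
        intro φ
        refine (Submodule.mem_bot k).2 (hx (augL φ) fun b hb => ?_)
        rw [h0] at hb
        obtain ⟨c, rfl⟩ := Submodule.mem_span_singleton.1 hb
        rw [map_smul, augL_one, smul_zero]
      exact (Submodule.mem_bot k).1 (hbot ▸ hfix)
    | succ r ih =>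
      intro x hx
      have hfix : x ∈ HopfRep.fixedPts k A V := by
        rw [← fixSeries_one, mem_fixSeries_succ]
        intro φ
        refine (Submodule.mem_bot k).2 (ih _ fun ψ hψ => ?_)
        have hmul := op_mul (V := V) (WithConv.toConv ψ) (WithConv.toConv (augL φ)) x
        rw [← hmul]
        refine hx _ fun b hb => ?_
        change LinearMap.mul' k k (TensorProduct.map ψ (augL φ) (Coalgebra.comul (R := k) b)) = 0
        have hb' := hcomul (r + 1) ⟨b, hb, rfl⟩
        refine LinearMap.mem_ker.1 ((iSup₂_le fun i hi => ?_ : _ ≤ LinearMap.ker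
          (LinearMap.mul' k k ∘ₗ TensorProduct.map ψ (augL φ))) hb')
        rintro _ ⟨y, rfl⟩
        induction y using TensorProduct.induction_on with
        | zero => simp
        | add p q hp hq => rw [map_add]; exact Submodule.add_mem _ hp hq
        | tmul p q =>
          rcases Nat.lt_or_ge r i with hi' | hi'
          · obtain rfl : i = r + 1 := by have := Finset.mem_range.1 hi; omega
            obtain ⟨c, hc⟩ := Submodule.mem_span_singleton.1 (h0 ▸ (by simpa using q.2 : (q : A) ∈ C 0))
            simp [TensorProduct.mapIncl, ← hc, augL_one]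
          · simp [TensorProduct.mapIncl, hψ _ (hC hi' p.2)]
      exact (Submodule.mem_bot k).1 (hbot ▸ hfix)
  obtain ⟨x, hx⟩ := exists_ne (0 : V)
  classical
  obtain ⟨S, hS⟩ := TensorProduct.exists_finset (HopfRep.Comod.coact (k := k) (A := A) x)
  obtain ⟨r, hr⟩ : ∃ r, ∀ i ∈ S, i.2 ∈ C r := by
    have hmem : ∀ a : A, ∃ r, a ∈ C r := fun a =>
      (Submodule.mem_iSup_of_directed C hC.directed_le).1 (htop ▸ Submodule.mem_top)
    choose f hf using hmem
    exact ⟨S.sup fun i => f i.2, fun i hi => hC (Finset.le_sup (f := fun i => f i.2) hi) (hf i.2)⟩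
  refine hx (main r x fun φ hφ => ?_)
  rw [op_apply, hS, map_sum]
  exact Finset.sum_eq_zero fun i hi => by rw [slice_tmul, hφ _ (hr i hi), zero_smul]

theorem coconnected_of_exhaustive (h : ∀ a : A, ∃ m, a ∈ fixSeries k A A m) :
    ∃ C : ℕ → Submodule k A, Monotone C ∧ C 0 = Submodule.span k {(1 : A)} ∧ (⨆ r, C r) = ⊤ ∧
      ∀ r, Submodule.map (CoalgebraStruct.comul (R := k) (A := A)) (C r) ≤
        ⨆ i ∈ Finset.range (r + 1), LinearMap.range (TensorProduct.mapIncl (C i) (C (r - i))) := by
  refine ⟨fun r => fixSeries k A A (r + 1), fun a b hab => fixSeries_mono (by omega), fixSeries_regular_one,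
    top_le_iff.1 fun a _ => ?_, fun r => ?_⟩
  · obtain ⟨m, hm⟩ := h a
    exact Submodule.mem_iSup_of_mem m (fixSeries_le_succ m hm)
  · rintro _ ⟨a, ha, rfl⟩
    refine mem_iSup_mapIncl _ (fun a b hab => fixSeries_mono (by omega)) r ?_ fun s hs α β hα hβ => ?_
    · refine (mem_range_map_iff _ _ _).2 ⟨fun φ => (isSubcomod_iff _).1 (isSubcomod_fixSeries _) φ a ha,
        fun ψ => map_fixSeries_le (isComodHom_cf ψ) _ ha⟩
    · refine apply_slice_comul_eq_zero (i := r - s) ha (fun b hb => hα b ?_) fun b hb => hβ b ?_
      · rwa [show r + 1 - (r - s) = s + 1 by omega] at hb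
      · rwa [show r - s - 1 + 1 = r - s by omega]

end Coconnected

end Groth.ComodLib
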