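import Groth.Agent.Hopf.Comod
import Groth.Prelude.Def_W4c1tameactTame

/-!
# Total integrals and Hopf modules
-/

set_option autoImplicit false
set_option linter.unusedSectionVars false

universe u v w w' w''

open TensorProduct WithConv

noncomputable section

namespace Groth.ComodLib

variable {k : Type u} [CommRing k] {A : Type v} [CommRing A] [HopfAlgebra k A]

private theorem grp_aux {G : Type*} [Group G] (L R : G) : R * (L * R)⁻¹ = L⁻¹ := by group

/-- `Σ (1 ⊗ a₁) Δ(S a₂) = S a ⊗ 1` -/
theorem inr_mul_comul_antipode (a : A) :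
    Algebra.TensorProduct.lift (Algebra.TensorProduct.includeRight : A →ₐ[k] A ⊗[k] A)
        ((Bialgebra.comulAlgHom k A).comp (HopfAlgebra.antipodeAlgHom k A)) (fun _ _ => .all ..)
        (Coalgebra.comul (R := k) a) =
      HopfAlgebraStruct.antipode (R := k) a ⊗ₜ[k] 1 := by
  let L : WithConv (A →ₐ[k] A ⊗[k] A) := toConv Algebra.TensorProduct.includeLeft
  let R : WithConv (A →ₐ[k] A ⊗[k] A) := toConv Algebra.TensorProduct.includeRight
  have h : toConv (Bialgebra.comulAlgHom k A) = L * R := by
    apply WithConv.ofConv_injective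
    apply AlgHom.ext
    intro x
    change Coalgebra.comul (R := k) x = (L * R) x
    rw [AlgHom.convMul_apply]
    induction Coalgebra.comul (R := k) x using TensorProduct.induction_on with
    | zero => simp
    | tmul p q => simp [L, R]
    | add p q hp hq => simp only [map_add, ← hp, ← hq]
  have h2 : R * (toConv (Bialgebra.comulAlgHom k A))⁻¹ = L⁻¹ := by
    rw [h]
    exact grp_aux L R
  have h3 := DFunLike.congr_fun (congrArg WithConv.ofConv h2) a
  rw [show (R * (toConv (Bialgebra.comulAlgHom k A))⁻¹).ofConv a = _ from AlgHom.convMul_apply _ _ a] at h3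
  exact h3

variable {B : Type w} [CommRing B] [Algebra k B]
  {M : Type w'} [AddCommGroup M] [Module k M] [Module B M] [IsScalarTower k B M]

variable (k A B M) in
/-- the evaluation `x ⊗ a ↦ α(S a) • x` -/
def evalS (α : A →ₗ[k] B) : M ⊗[k] A →ₗ[k] M :=
  TensorProduct.lift ((Algebra.lsmul k k M : B →ₐ[k] Module.End k M).toLinearMap ∘ₗ α ∘ₗ
    (HopfAlgebraStruct.antipode (R := k) (A := A))).flip

@[simp] theorem evalS_tmul (α : A →ₗ[k] B) (x : M) (a : A) :
    evalS k A B M α (x ⊗ₜ[k] a) = α (HopfAlgebraStruct.antipode (R := k) a) • x := by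
  simp [evalS]

theorem evalS_rTensor {N : Type w''} [AddCommGroup N] [Module k N] [Module B N] [IsScalarTower k B N]
    (α : A →ₗ[k] B) (f : M →ₗ[B] N) (z : M ⊗[k] A) :
    evalS k A B N α ((f.restrictScalars k).rTensor A z) = f (evalS k A B M α z) := by
  induction z using TensorProduct.induction_on with
  | zero => simp
  | tmul p q => simp
  | add p q hp hq => simp only [map_add, hp, hq]

theorem hmSMul_map_tmul (α : A →ₗ[k] B) (W : A ⊗[k] A) (x : M) (b : A) :
    TameAct.hmSMul k A B M (α.rTensor A W) (x ⊗ₜ[k] b) =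
      (((Algebra.lsmul k k M : B →ₐ[k] Module.End k M).toLinearMap ∘ₗ α).flip x).rTensor A
        (((1 : A) ⊗ₜ[k] b) * W) := by
  induction W using TensorProduct.induction_on with
  | zero => simp
  | tmul p q => simp [mul_comm b q]
  | add p q hp hq => simp only [map_add, LinearMap.add_apply, mul_add, hp, hq]

variable [HopfRep.Comod k A B] [HopfRep.Comod k A M]

theorem reynolds_eq (α : A →ₗ[k] B) (x : M) :
    TameAct.reynolds k A B M α x = evalS k A B M α (HopfRep.Comod.coact (k := k) (A := A) x) := rfl

/-- naturality of the Reynolds map -/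
theorem reynolds_natural {N : Type w''} [AddCommGroup N] [Module k N] [Module B N] [IsScalarTower k B N]
    [HopfRep.Comod k A N] (α : A →ₗ[k] B) (f : M →ₗ[B] N)
    (hf : Hoch.IsComodHom A (f.restrictScalars k)) (x : M) :
    f (TameAct.reynolds k A B M α x) = TameAct.reynolds k A B N α (f x) := by
  rw [reynolds_eq, reynolds_eq, ← evalS_rTensor]
  exact congrArg _ (LinearMap.congr_fun hf x).symm

theorem reynolds_of_fixed {α : A →ₗ[k] B} (hα1 : α 1 = 1) {x : M}
    (hx : x ∈ HopfRep.fixedPts k A M) : TameAct.reynolds k A B M α x = x := by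
  rw [TameAct.reynolds_apply_of_coact_eq k A B M α x x 1 hx, HopfAlgebra.antipode_one, hα1, one_smul]

section Fixed

variable [TameAct.IsHopfMod k A B M]

/-- the Reynolds map lands in the invariants -/
theorem reynolds_mem_fixedPts {α : A →ₗ[k] B} (hα : Hoch.IsComodHom A α) (m : M) :
    TameAct.reynolds k A B M α m ∈ HopfRep.fixedPts k A M := by
  let Φ : (M ⊗[k] A) ⊗[k] A →ₗ[k] M ⊗[k] A :=
    TensorProduct.lift ((TameAct.hmSMul k A B M) ∘ₗ α.rTensor A ∘ₗ Coalgebra.comul (R := k) ∘ₗ
      HopfAlgebraStruct.antipode (R := k) (A := A)).flip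
  have h1 : ∀ z : M ⊗[k] A, HopfRep.Comod.coact (k := k) (A := A) (evalS k A B M α z) =
      Φ ((HopfRep.Comod.coact (k := k) (A := A) (V := M)).rTensor A z) := by
    intro z
    induction z using TensorProduct.induction_on with
    | zero => simp
    | tmul p q =>
      rw [evalS_tmul, TameAct.IsHopfMod.coact_smul]
      have := LinearMap.congr_fun hα (HopfAlgebraStruct.antipode (R := k) q)
      simp only [LinearMap.comp_apply] at this
      rw [this]
      rfl
    | add p q hp hq => simp only [map_add, hp, hq]
  change HopfRep.Comod.coact (k := k) (A := A) _ = _ ⊗ₜ[k] (1 : A)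
  rw [reynolds_eq, h1]
  have hco := LinearMap.congr_fun (HopfRep.Comod.coassoc (k := k) (A := A) (V := M)) m
  simp only [LinearMap.comp_apply, LinearEquiv.coe_coe] at hco
  rw [← (TensorProduct.assoc k M A A).symm_apply_apply
    ((HopfRep.Comod.coact (k := k) (A := A) (V := M)).rTensor A _), hco]
  generalize HopfRep.Comod.coact (k := k) (A := A) m = z
  induction z using TensorProduct.induction_on with
  | zero => simp
  | add p q hp hq => simp only [map_add, TensorProduct.add_tmul, hp, hq]
  | tmul x a =>
    let j : A →ₗ[k] M := ((Algebra.lsmul k k M : B →ₐ[k] Module.End k M).toLinearMap ∘ₗ α).flip x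
    have h2 : ∀ W : A ⊗[k] A, Φ ((TensorProduct.assoc k M A A).symm (x ⊗ₜ[k] W)) =
        j.rTensor A (Algebra.TensorProduct.lift (Algebra.TensorProduct.includeRight : A →ₐ[k] A ⊗[k] A)
          ((Bialgebra.comulAlgHom k A).comp (HopfAlgebra.antipodeAlgHom k A)) (fun _ _ => .all ..) W) := by
      intro W
      induction W using TensorProduct.induction_on with
      | zero => simp
      | tmul p q => simp [Φ, j, hmSMul_map_tmul]
      | add p q hp hq => simp only [TensorProduct.tmul_add, map_add, hp, hq]
    rw [LinearMap.lTensor_tmul, h2, inr_mul_comul_antipode]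
    simp [j]

/-- the coaction on a multiple of an invariant -/
theorem coact_smul_fixed (b : B) {x : M} (hx : x ∈ HopfRep.fixedPts k A M) :
    HopfRep.Comod.coact (k := k) (A := A) (b • x) =
      ((LinearMap.toSpanSingleton B M x).restrictScalars k).rTensor A
        (HopfRep.Comod.coact (k := k) (A := A) b) := by
  change HopfRep.Comod.coact (k := k) (A := A) x = x ⊗ₜ[k] (1 : A) at hx
  rw [TameAct.IsHopfMod.coact_smul, hx]
  generalize HopfRep.Comod.coact (k := k) (A := A) b = z
  induction z using TensorProduct.induction_on with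
  | zero => simp
  | tmul p q => simp
  | add p q hp hq => simp only [map_add, LinearMap.add_apply, hp, hq]

theorem coact_fixed_smul {c : B} (hc : c ∈ HopfRep.fixedPts k A B) (x : M) :
    HopfRep.Comod.coact (k := k) (A := A) (c • x) =
      ((LinearMap.lsmul B M c).restrictScalars k).rTensor A (HopfRep.Comod.coact (k := k) (A := A) x) := by
  change HopfRep.Comod.coact (k := k) (A := A) c = c ⊗ₜ[k] (1 : A) at hc
  rw [TameAct.IsHopfMod.coact_smul, hc]
  generalize HopfRep.Comod.coact (k := k) (A := A) x = z
  induction z using TensorProduct.induction_on with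
  | zero => simp
  | tmul p q => simp
  | add p q hp hq => simp only [map_add, hp, hq]

theorem reynolds_fixed_smul (α : A →ₗ[k] B) {c : B} (hc : c ∈ HopfRep.fixedPts k A B) (x : M) :
    TameAct.reynolds k A B M α (c • x) = c • TameAct.reynolds k A B M α x := by
  rw [reynolds_eq, reynolds_eq, coact_fixed_smul hc, evalS_rTensor, LinearMap.lsmul_apply]

end Fixed

section Algebra

variable [GLin.IsCoactAlg k A B]

/-- an algebra with coaction is a Hopf module over itself -/
theorem isHopfMod_self : TameAct.IsHopfMod k A B B := by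
  refine ⟨fun b m => ?_⟩
  rw [smul_eq_mul, GLin.IsCoactAlg.coact_mul]
  generalize HopfRep.Comod.coact (k := k) (A := A) b = z
  generalize HopfRep.Comod.coact (k := k) (A := A) m = z'
  induction z using TensorProduct.induction_on with
  | zero => simp
  | add p q hp hq => simp only [add_mul, map_add, LinearMap.add_apply, hp, hq]
  | tmul p q =>
    induction z' using TensorProduct.induction_on with
    | zero => simp
    | add p' q' hp hq => simp only [mul_add, map_add, hp, hq]
    | tmul p' q' => simp

theorem coact_algebraMap (c : k) :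
    HopfRep.Comod.coact (k := k) (A := A) (algebraMap k B c) = algebraMap k B c ⊗ₜ[k] (1 : A) :=
  (GLin.invariants k A B).algebraMap_mem c

end Algebra

/-- an integral for the trivial action gives one for every action -/
theorem isComodHom_algebraMap_comp [GLin.IsCoactAlg k A B] (α₀ : A →ₗ[k] k)
    (h : @Hoch.IsComodHom k _ A _ _ _ A _ _ _ k _ _ (HopfRep.Comod.trivial k A k) α₀) :
    Hoch.IsComodHom A (Algebra.linearMap k B ∘ₗ α₀) := by
  refine LinearMap.ext fun a => ?_
  have h' := LinearMap.congr_fun h a
  simp only [LinearMap.comp_apply, LinearMap.flip_apply, TensorProduct.mk_apply] at h'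
  simp only [LinearMap.comp_apply, Algebra.linearMap_apply, coact_algebraMap, LinearMap.rTensor_comp_apply]
  rw [← h']
  change _ = (Algebra.linearMap k B).rTensor A (α₀ a ⊗ₜ[k] (1 : A))
  simp

variable (k A) in
/-- the kernel `(w ⊗ b) ⊗ c ↦ α (S b * c) • w` of the averaging operator -/
def avgH (W : Type w') [AddCommGroup W] [Module k W] (α : A →ₗ[k] k) : (W ⊗[k] A) ⊗[k] A →ₗ[k] W :=
  TensorProduct.lift
      ((LinearMap.lsmul k W).comp ((α ∘ₗ LinearMap.mul' k A) ∘ₗ (TensorProduct.comm k A A).toLinearMap)).flip ∘ₗ
    (TensorProduct.assoc k W A A).toLinearMap ∘ₗ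
      ((HopfAlgebraStruct.antipode (R := k) (A := A)).lTensor W).rTensor A

theorem avgH_tmul {W : Type w'} [AddCommGroup W] [Module k W] (α : A →ₗ[k] k) (w : W) (b c : A) :
    avgH k A W α ((w ⊗ₜ[k] b) ⊗ₜ[k] c) = α (HopfAlgebraStruct.antipode (R := k) b * c) • w := by
  simp [avgH, mul_comm c]

/-- the average of a linear map -/
def avgL {V : Type w} [AddCommGroup V] [Module k V] [HopfRep.Comod k A V]
    {W : Type w'} [AddCommGroup W] [Module k W] [HopfRep.Comod k A W] (α : A →ₗ[k] k) (π : V →ₗ[k] W) :
    V →ₗ[k] W :=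
  avgH k A W α ∘ₗ (HopfRep.Comod.coact (k := k) (A := A) (V := W)).rTensor A ∘ₗ π.rTensor A ∘ₗ
    HopfRep.Comod.coact (k := k) (A := A) (V := V)

theorem avgL_spec {V : Type w} [AddCommGroup V] [Module k V] [HopfRep.Comod k A V]
    {W : Type w'} [AddCommGroup W] [Module k W] [HopfRep.Comod k A W] (α : A →ₗ[k] k)
    (hα : @Hoch.IsComodHom k _ A _ _ _ A _ _ _ k _ _ (HopfRep.Comod.trivial k A k) α) (π : V →ₗ[k] W) :
    Hoch.IsComodHom A (avgL α π) ∧
      ∀ i : W →ₗ[k] V, Hoch.IsComodHom A i → π ∘ₗ i = LinearMap.id → α 1 = 1 → ∀ w, avgL α π (i w) = w := by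
  let S := HopfAlgebraStruct.antipode (R := k) (A := A)
  let ρ := HopfRep.Comod.coact (k := k) (A := A) (V := W)
  let ρV := HopfRep.Comod.coact (k := k) (A := A) (V := V)
  let L : W ⊗[k] (A ⊗[k] A) →ₗ[k] W := TensorProduct.lift
    ((LinearMap.lsmul k W).comp ((α ∘ₗ LinearMap.mul' k A) ∘ₗ (TensorProduct.comm k A A).toLinearMap)).flip
  let H : (W ⊗[k] A) ⊗[k] A →ₗ[k] W :=
    L ∘ₗ (TensorProduct.assoc k W A A).toLinearMap ∘ₗ (S.lTensor W).rTensor A
  have hH : ∀ w b c, H ((w ⊗ₜ[k] b) ⊗ₜ[k] c) = α (S b * c) • w := by
    intro w b c; simp [H, L, mul_comm c]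
  let P : V →ₗ[k] W := H ∘ₗ ρ.rTensor A ∘ₗ π.rTensor A ∘ₗ ρV
  change Hoch.IsComodHom A P ∧ _
  refine ⟨LinearMap.ext fun v => ?_, fun i hi hπi hα1 w => ?_⟩
  swap
  · have h := LinearMap.congr_fun hi w
    simp only [LinearMap.comp_apply] at h
    change H (ρ.rTensor A (π.rTensor A (ρV (i w)))) = w
    rw [show ρV (i w) = i.rTensor A (ρ w) from h, ← LinearMap.comp_apply (f := π.rTensor A),
      ← LinearMap.rTensor_comp, hπi, LinearMap.rTensor_id, LinearMap.id_apply,
      ← (TensorProduct.assoc k W A A).symm_apply_apply (ρ.rTensor A (ρ w))]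
    have hco := LinearMap.congr_fun (HopfRep.Comod.coassoc (k := k) (A := A) (V := W)) w
    simp only [LinearMap.comp_apply, LinearEquiv.coe_coe] at hco
    rw [hco]
    have hw : w = (TensorProduct.rid k W) ((Coalgebra.counit (R := k) (A := A)).lTensor W (ρ w)) :=
      (op_counit w).symm
    conv_rhs => rw [hw]
    generalize ρ w = z
    induction z using TensorProduct.induction_on with
    | zero => simp
    | add p q hp hq => simp only [map_add, hp, hq]
    | tmul x b =>
      simp only [LinearMap.lTensor_tmul, TensorProduct.rid_tmul]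
      have : ∀ Z : A ⊗[k] A, H ((TensorProduct.assoc k W A A).symm (x ⊗ₜ[k] Z)) =
          α (LinearMap.mul' k A (S.rTensor A Z)) • x := by
        intro Z
        induction Z using TensorProduct.induction_on with
        | zero => simp
        | tmul p q => simp [hH]
        | add p q hp hq => simp only [TensorProduct.tmul_add, map_add, hp, hq, add_smul]
      rw [this, HopfAlgebra.mul_antipode_rTensor_comul_apply]
      simp [Algebra.algebraMap_eq_smul_one, hα1]
  have hαΔ : ∀ a, α.rTensor A (Coalgebra.comul (R := k) a) = α a ⊗ₜ[k] (1 : A) := fun a =>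
    (LinearMap.congr_fun hα a).symm
  -- left hand side
  have key : ∀ (w : W) (b c : A),
      ρ (H ((ρ w) ⊗ₜ[k] c)) = (H.rTensor A) ((TensorProduct.assoc k (W ⊗[k] A) A A).symm
        ((ρ w) ⊗ₜ[k] Coalgebra.comul (R := k) c)) := by
    intro w _ c
    have e1 : ρ (H ((ρ w) ⊗ₜ[k] c)) = H.rTensor A ((TensorProduct.assoc k (W ⊗[k] A) A A).symm
        ((ρ w) ⊗ₜ[k] Coalgebra.comul (R := k) c)) := by
      have hl : ∀ z : W ⊗[k] A, ρ (H (z ⊗ₜ[k] c)) =
          (TensorProduct.lift ((LinearMap.lsmul k (W ⊗[k] A)).comp (α ∘ₗ LinearMap.mulRight k c ∘ₗ S)).flip)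
            (ρ.rTensor A z) := by
        intro z
        induction z using TensorProduct.induction_on with
        | zero => simp
        | tmul p q => simp [hH]
        | add p q hp hq => simp only [TensorProduct.add_tmul, map_add, hp, hq]
      rw [hl, ← (TensorProduct.assoc k W A A).symm_apply_apply (ρ.rTensor A (ρ w))]
      have hco := LinearMap.congr_fun (HopfRep.Comod.coassoc (k := k) (A := A) (V := W)) w
      simp only [LinearMap.comp_apply, LinearEquiv.coe_coe] at hco
      rw [hco]
      generalize ρ w = z
      induction z using TensorProduct.induction_on with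
      | zero => simp
      | add p q hp hq => simp only [map_add, TensorProduct.add_tmul, hp, hq]
      | tmul x b =>
        let F : A ⊗[k] A →ₗ[k] A := (TensorProduct.lid k A).toLinearMap ∘ₗ α.rTensor A
        let ι : A →ₗ[k] W ⊗[k] A := TensorProduct.mk k W A x
        have l1 : ∀ Z : A ⊗[k] A, TensorProduct.lift
            ((LinearMap.lsmul k (W ⊗[k] A)).comp (α ∘ₗ LinearMap.mulRight k c ∘ₗ S)).flip
              ((TensorProduct.assoc k W A A).symm (x ⊗ₜ[k] Z)) =
            ι (F (Algebra.TensorProduct.lift (Algebra.TensorProduct.includeRight : A →ₐ[k] A ⊗[k] A)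
              ((Bialgebra.comulAlgHom k A).comp (HopfAlgebra.antipodeAlgHom k A)) (fun _ _ => .all ..) Z
                * Coalgebra.comul (R := k) c)) := by
          intro Z
          induction Z using TensorProduct.induction_on with
          | zero => simp
          | add p q hp hq => simp only [TensorProduct.tmul_add, map_add, add_mul, hp, hq]
          | tmul p q =>
            have : Algebra.TensorProduct.lift (Algebra.TensorProduct.includeRight : A →ₐ[k] A ⊗[k] A)
                ((Bialgebra.comulAlgHom k A).comp (HopfAlgebra.antipodeAlgHom k A)) (fun _ _ => .all ..)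
                (p ⊗ₜ[k] q) * Coalgebra.comul (R := k) c = ((1 : A) ⊗ₜ[k] p) * Coalgebra.comul (R := k) (S q * c) := by
              simp [S, mul_assoc, Bialgebra.comul_mul]
            rw [this]
            have hF : ∀ Y : A ⊗[k] A, F (((1 : A) ⊗ₜ[k] p) * Y) = p * F Y := by
              intro Y
              induction Y using TensorProduct.induction_on with
              | zero => simp
              | tmul s t => simp [F]
              | add s t hs ht => simp only [mul_add, map_add, hs, ht]
            rw [hF]
            have : F (Coalgebra.comul (R := k) (S q * c)) = α (S q * c) • (1 : A) := by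
              simp only [F, LinearMap.comp_apply, hαΔ]; simp
            rw [this]
            simp [ι, TensorProduct.tmul_smul]
        rw [LinearMap.lTensor_tmul, l1, inr_mul_comul_antipode]
        generalize Coalgebra.comul (R := k) c = Y
        induction Y using TensorProduct.induction_on with
        | zero => simp
        | add s t hs ht => simp only [mul_add, TensorProduct.tmul_add, map_add, hs, ht]
        | tmul s t => simp [ι, F, S, hH, TensorProduct.smul_tmul']
    exact e1
  have step : ∀ z : V ⊗[k] A, ρ (H (ρ.rTensor A (π.rTensor A z))) =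
      H.rTensor A ((ρ.rTensor A ∘ₗ π.rTensor A).rTensor A
        ((TensorProduct.assoc k V A A).symm ((Coalgebra.comul (R := k) (A := A)).lTensor V z))) := by
    intro z
    induction z using TensorProduct.induction_on with
    | zero => simp
    | add p q hp hq => simp only [map_add, hp, hq]
    | tmul p q =>
      rw [LinearMap.rTensor_tmul, LinearMap.rTensor_tmul, key _ 0, LinearMap.lTensor_tmul]
      congr 1
      generalize Coalgebra.comul (R := k) q = Y
      induction Y using TensorProduct.induction_on with
      | zero => simp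
      | tmul s t => simp
      | add s t hs ht => simp only [TensorProduct.tmul_add, map_add, hs, ht]
  change ρ (H (ρ.rTensor A (π.rTensor A (ρV v)))) = P.rTensor A (ρV v)
  have hco := LinearMap.congr_fun (HopfRep.Comod.coassoc (k := k) (A := A) (V := V)) v
  simp only [LinearMap.comp_apply, LinearEquiv.coe_coe] at hco
  rw [step, ← hco, LinearEquiv.symm_apply_apply]
  simp only [P, ρV, LinearMap.rTensor_comp, LinearMap.comp_apply]

/-- averaging a linear map against an integral for the trivial action -/
theorem exists_average {V : Type w} [AddCommGroup V] [Module k V] [HopfRep.Comod k A V]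
    {W : Type w'} [AddCommGroup W] [Module k W] [HopfRep.Comod k A W] (α : A →ₗ[k] k)
    (hα : @Hoch.IsComodHom k _ A _ _ _ A _ _ _ k _ _ (HopfRep.Comod.trivial k A k) α) (π : V →ₗ[k] W) :
    ∃ P : V →ₗ[k] W, Hoch.IsComodHom A P ∧
      ∀ i : W →ₗ[k] V, Hoch.IsComodHom A i → π ∘ₗ i = LinearMap.id → α 1 = 1 → ∀ w, P (i w) = w :=
  ⟨avgL α π, avgL_spec α hα π⟩

end Groth.ComodLib
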