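import Groth.Agent.Hopf.Coeff

/-!
# Cosemisimple coalgebras
-/

set_option autoImplicit false
set_option linter.unusedSectionVars false

universe u v w w' x

open TensorProduct WithConv

noncomputable section

namespace Groth.ComodLib

variable {k : Type u} [Field k] {A : Type v} [AddCommGroup A] [Module k A] [Coalgebra k A]
  {V : Type w} [AddCommGroup V] [Module k V] [HopfRep.Comod k A V]

theorem isComodHom_toInd : Hoch.IsComodHom A (Hoch.toInd k A V) := by
  refine LinearMap.ext fun x => ?_
  have h := LinearMap.congr_fun (HopfRep.Comod.coassoc (k := k) (A := A) (V := V)) x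
  simp only [LinearMap.comp_apply, LinearEquiv.coe_coe] at h ⊢
  change (TensorProduct.assoc k V A A).symm ((Coalgebra.comul (R := k) (A := A)).lTensor V
    (HopfRep.Comod.coact (k := k) (A := A) x)) = _
  rw [← h, LinearEquiv.symm_apply_apply]
  rfl

theorem toInd_injective : Function.Injective (Hoch.toInd k A V) := by
  intro x y h
  rw [← op_counit (k := k) (A := A) x, ← op_counit (k := k) (A := A) y]
  exact congrArg (slice _) h

/-- the comodule map `a ↦ v ⊗ a` -/
def insInd (v : V) : A →ₗ[k] Hoch.Ind k A V :=
  (Hoch.Ind.equiv k A V).toLinearMap ∘ₗ TensorProduct.mk k V A v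

theorem isComodHom_insInd (v : V) : Hoch.IsComodHom A (insInd (k := k) (A := A) v) := by
  refine LinearMap.ext fun a => ?_
  change (TensorProduct.assoc k V A A).symm (v ⊗ₜ Coalgebra.comul (R := k) a) =
    (TensorProduct.mk k V A v).rTensor A (Coalgebra.comul (R := k) a)
  induction Coalgebra.comul (R := k) a using TensorProduct.induction_on with
  | zero => simp
  | tmul p q => simp
  | add p q hp hq => simp only [TensorProduct.tmul_add, map_add, hp, hq]

/-- if the regular comodule is semisimple then every comodule is -/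
theorem isSemisimpleComod_of_regular (h : HopfRep.IsSemisimpleComod k A A) :
    HopfRep.IsSemisimpleComod k A V := by
  obtain ⟨ι, S, -, hsum, hS⟩ := exists_decomposition A h
  refine isSemisimpleComod_of_injective isComodHom_toInd toInd_injective ?_
  refine isSemisimpleComod_of_sum_simple
    (fun p : {p : V × ι // (S p.2).map (insInd p.1) ≠ ⊥} => (S p.1.2).map (insInd p.1.1))
    (fun p => isSubcomod_map (isComodHom_insInd _) (hS _).1) (fun p => ⟨p.2, fun U hU hle => ?_⟩) ?_
  · rcases (hS p.1.2).2.2 (S p.1.2 ⊓ U.comap (insInd p.1.1))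
        (isSubcomod_inf (hS _).1 (isSubcomod_comap (isComodHom_insInd _) hU)) inf_le_left with e | e
    · left
      refine (Submodule.eq_bot_iff _).2 fun y hy => ?_
      obtain ⟨z, hz, rfl⟩ := hle hy
      have hz0 : z ∈ (⊥ : Submodule k A) := e ▸ Submodule.mem_inf.2 ⟨hz, hy⟩
      rw [(Submodule.mem_bot k).1 hz0, map_zero]
    · exact Or.inr (le_antisymm hle (Submodule.map_le_iff_le_comap.2 (inf_eq_left.1 e)))
  · refine top_le_iff.1 fun z _ => ?_
    suffices h : ∀ (v : V) (a : A), Hoch.Ind.equiv k A V (v ⊗ₜ[k] a) ∈
        ⨆ p : {p : V × ι // (S p.2).map (insInd (k := k) p.1) ≠ ⊥}, (S p.1.2).map (insInd p.1.1) by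
      obtain ⟨y, rfl⟩ := (Hoch.Ind.equiv k A V).surjective z
      induction y using TensorProduct.induction_on with
      | zero => rw [map_zero]; exact Submodule.zero_mem _
      | tmul a b => exact h a b
      | add p q hp hq => rw [map_add]; exact Submodule.add_mem _ (hp trivial) (hq trivial)
    intro v a
    have ha : a ∈ ⨆ i, S i := hsum ▸ Submodule.mem_top
    have : insInd (k := k) v a ∈ ⨆ i, (S i).map (insInd v) := by
      rw [← Submodule.map_iSup]; exact Submodule.mem_map_of_mem ha
    refine (iSup_le fun i => ?_ : (⨆ i, (S i).map (insInd (k := k) v)) ≤ _) this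
    by_cases hb : (S i).map (insInd (k := k) v) = ⊥
    · rw [hb]; exact bot_le
    · exact le_iSup_of_le ⟨(v, i), hb⟩ le_rfl

/-- the inclusion of a subcomodule, as a simple comodule -/
theorem isSimpleComod_restr (c : HopfRep.Comod k A V) (T : Submodule k V)
    (hT : @HopfRep.IsSubcomod k A _ _ _ _ V _ _ c T) (hs : @IsSimpleSub k _ A _ _ _ V _ _ c T) :
    @HopfRep.IsSimpleComod k A _ _ _ _ ↥T _ _ (ComodSub.Comod.restr c T hT) := by
  letI := ComodSub.Comod.restr c T hT
  letI := c
  refine (isSimpleSub_range_iff (ComodSub.isComodHom_subtype c T hT) T.subtype_injective).1 ?_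
  rw [Submodule.range_subtype]
  exact hs

end Groth.ComodLib
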