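import Groth.Agent.Hopf.Comod

/-!
# Simple subcomodules, socle decompositions and semisimplicity
-/

set_option autoImplicit false
set_option linter.unusedSectionVars false

universe u v w w' x

open TensorProduct WithConv

noncomputable section

namespace Groth.ComodLib

section Zorn

variable {k : Type u} [CommRing k] {V : Type w} [AddCommGroup V] [Module k V] {ι : Type x}

/-- selection of an independent subfamily complementing a given submodule -/
theorem exists_indep_isCompl (S : ι → Submodule k V) (P : Submodule k V → Prop)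
    (hPS : ∀ i, P (S i)) (hPsup : ∀ {ι' : Type x} (T : ι' → Submodule k V), (∀ i, P (T i)) → P (⨆ i, T i))
    (hPsup2 : ∀ {U U' : Submodule k V}, P U → P U' → P (U ⊔ U'))
    (hatom : ∀ i U, P U → Disjoint (S i) U ∨ S i ≤ U) (hsum : ⨆ i, S i = ⊤)
    (W : Submodule k V) (hW : P W) :
    ∃ J : Set ι, iSupIndep (fun j : J => S j) ∧ IsCompl W (⨆ j : J, S j) := by
  classical
  let Q : Set (Set ι) := {J | (∀ j ∈ J, Disjoint (S j) (W ⊔ ⨆ i ∈ J \ {j}, S i)) ∧
    Disjoint W (⨆ i ∈ J, S i)}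
  have hchain : ∀ c ⊆ Q, IsChain (· ⊆ ·) c → c.Nonempty → ∃ ub ∈ Q, ∀ s ∈ c, s ⊆ ub := by
    intro c hc hch hne
    have : Nonempty c := hne.to_subtype
    refine ⟨⋃₀ c, ?_, fun s hs => Set.subset_sUnion_of_mem hs⟩
    refine ⟨?_, ?_⟩
    · intro j hj
      obtain ⟨J₀, hJ₀, hjJ₀⟩ := hj
      rw [Submodule.disjoint_def]
      intro x hxS hx
      have hle : W ⊔ ⨆ i ∈ (⋃₀ c) \ {j}, S i ≤ ⨆ J : c, (W ⊔ ⨆ i ∈ (J : Set ι) \ {j}, S i) := by
        refine sup_le (le_iSup_of_le (Classical.arbitrary c) le_sup_left) (iSup₂_le fun i hi => ?_)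
        obtain ⟨⟨J, hJ, hiJ⟩, hij⟩ := hi
        exact le_iSup_of_le ⟨J, hJ⟩ (le_sup_of_le_right (le_iSup₂_of_le i ⟨hiJ, hij⟩ le_rfl))
      have hdir : Directed (· ≤ ·) (fun J : c => W ⊔ ⨆ i ∈ (J : Set ι) \ {j}, S i) := by
        intro J J'
        rcases hch.total J.2 J'.2 with h | h
        · exact ⟨J', sup_le_sup_left (biSup_mono fun i hi => ⟨h hi.1, hi.2⟩) _, le_rfl⟩
        · exact ⟨J, le_rfl, sup_le_sup_left (biSup_mono fun i hi => ⟨h hi.1, hi.2⟩) _⟩
      obtain ⟨J, hJx⟩ := (Submodule.mem_iSup_of_directed _ hdir).1 (hle hx)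
      rcases hch.total J.2 hJ₀ with h | h
      · refine Submodule.disjoint_def.1 ((hc hJ₀).1 j hjJ₀) x hxS ?_
        exact (sup_le_sup_left (a := ⨆ i ∈ (J : Set ι) \ {j}, S i) (b := ⨆ i ∈ J₀ \ {j}, S i)
          (biSup_mono fun i hi => ⟨h hi.1, hi.2⟩) W) hJx
      · exact Submodule.disjoint_def.1 ((hc J.2).1 j (h hjJ₀)) x hxS hJx
    · rw [Submodule.disjoint_def]
      intro x hxW hx
      have hle : (⨆ i ∈ ⋃₀ c, S i) ≤ ⨆ J : c, ⨆ i ∈ (J : Set ι), S i := by
        refine iSup₂_le fun i hi => ?_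
        obtain ⟨J, hJ, hiJ⟩ := hi
        exact le_iSup_of_le ⟨J, hJ⟩ (le_iSup₂_of_le i hiJ le_rfl)
      have hdir : Directed (· ≤ ·) (fun J : c => ⨆ i ∈ (J : Set ι), S i) := by
        intro J J'
        rcases hch.total J.2 J'.2 with h | h
        · exact ⟨J', biSup_mono h, le_rfl⟩
        · exact ⟨J, le_rfl, biSup_mono h⟩
      obtain ⟨J, hJx⟩ := (Submodule.mem_iSup_of_directed _ hdir).1 (hle hx)
      exact Submodule.disjoint_def.1 (hc J.2).2 x hxW hJx
  obtain ⟨J, -, hJ⟩ := zorn_subset_nonempty Q hchain ∅ ⟨by simp, by simp⟩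
  obtain ⟨⟨hJ1, hJ2⟩, hJmax⟩ := hJ
  have hP : P (W ⊔ ⨆ i ∈ J, S i) := by
    refine hPsup2 hW ?_
    rw [iSup_subtype']
    exact hPsup _ fun i => hPS _
  refine ⟨J, iSupIndep_def.2 fun j => (hJ1 j.1 j.2).mono_right (le_sup_of_le_right ?_), ?_⟩
  · exact iSup₂_le fun i hij =>
      le_iSup₂_of_le i.1 ⟨i.2, fun e => hij (Subtype.ext e)⟩ le_rfl
  rw [show (⨆ j : J, S j) = ⨆ j ∈ J, S j from iSup_subtype' (p := fun j => j ∈ J) (f := fun j _ => S j) |>.symm]
  refine ⟨hJ2, codisjoint_iff.2 (top_le_iff.1 (hsum ▸ iSup_le fun i => ?_))⟩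
  rcases hatom i _ hP with hd | hle
  · have hiJ : i ∈ J := by
      refine hJmax (y := insert i J) ⟨?_, ?_⟩ (Set.subset_insert _ _) (Set.mem_insert _ _)
      · intro j hj
        rcases Set.mem_insert_iff.1 hj with rfl | hj
        · exact hd.mono_right (sup_le_sup_left (biSup_mono fun l hl =>
            (Set.mem_insert_iff.1 hl.1).resolve_left hl.2) _)
        · have h1 : W ⊔ ⨆ l ∈ insert i J \ {j}, S l ≤ (W ⊔ ⨆ l ∈ J \ {j}, S l) ⊔ S i := by
            refine sup_le (le_sup_of_le_left le_sup_left) (iSup₂_le fun l hl => ?_)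
            rcases Set.mem_insert_iff.1 hl.1 with rfl | hlJ
            · exact le_sup_right
            · exact le_sup_of_le_left (le_sup_of_le_right (le_iSup₂_of_le l ⟨hlJ, hl.2⟩ le_rfl))
          refine ((hJ1 j hj).disjoint_sup_right_of_disjoint_sup_left (hd.symm.mono_left ?_)).mono_right h1
          exact sup_le (le_sup_of_le_right (le_iSup₂_of_le j hj le_rfl))
            (sup_le_sup_left (biSup_mono fun l hl => hl.1) _)
      · rw [iSup_insert, sup_comm]
        exact hJ2.disjoint_sup_right_of_disjoint_sup_left hd.symm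
    exact le_sup_of_le_right (le_iSup₂_of_le i hiJ le_rfl)
  · exact hle

end Zorn

section Simple

variable {k : Type u} [CommRing k] {A : Type v} [AddCommGroup A] [Module k A] [Coalgebra k A]
  {V : Type w} [AddCommGroup V] [Module k V] [HopfRep.Comod k A V] [Module.Free k A]

variable (A) in
/-- a simple subcomodule -/
def IsSimpleSub (U : Submodule k V) : Prop :=
  U ≠ ⊥ ∧ ∀ U' : Submodule k V, HopfRep.IsSubcomod (k := k) (A := A) U' → U' ≤ U → U' = ⊥ ∨ U' = U

theorem IsSimpleSub.disjoint_or_le {U U' : Submodule k V} (hU : IsSimpleSub A U)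
    (hU' : HopfRep.IsSubcomod (k := k) (A := A) U) (h' : HopfRep.IsSubcomod (k := k) (A := A) U') :
    Disjoint U U' ∨ U ≤ U' := by
  rcases hU.2 (U ⊓ U') (isSubcomod_inf hU' h') inf_le_left with h | h
  · exact Or.inl (disjoint_iff.2 h)
  · exact Or.inr (inf_eq_left.1 h)

theorem exists_isCompl_of_sum_simple {ι : Type x} (S : ι → Submodule k V)
    (hS : ∀ i, HopfRep.IsSubcomod (k := k) (A := A) (S i)) (hsimple : ∀ i, IsSimpleSub A (S i))
    (hsum : ⨆ i, S i = ⊤) (W : Submodule k V) (hW : HopfRep.IsSubcomod (k := k) (A := A) W) :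
    ∃ J : Set ι, iSupIndep (fun j : J => S j) ∧ IsCompl W (⨆ j : J, S j) :=
  exists_indep_isCompl S (fun U => HopfRep.IsSubcomod (k := k) (A := A) U) hS
    (fun T h => isSubcomod_iSup T h) (fun h h' => isSubcomod_sup h h')
    (fun i _ hU => (hsimple i).disjoint_or_le (hS i) hU) hsum W hW

theorem isSemisimpleComod_of_sum_simple {ι : Type x} (S : ι → Submodule k V)
    (hS : ∀ i, HopfRep.IsSubcomod (k := k) (A := A) (S i)) (hsimple : ∀ i, IsSimpleSub A (S i))
    (hsum : ⨆ i, S i = ⊤) : HopfRep.IsSemisimpleComod k A V := fun W hW =>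
  let ⟨J, _, hJ⟩ := exists_isCompl_of_sum_simple S hS hsimple hsum W hW
  ⟨_, isSubcomod_iSup _ fun j : J => hS j.1, hJ⟩

theorem coe_subEquiv_symm_iSup {ι : Sort*} (N : ι → Submodule (WithConv (A →ₗ[k] k)) (RatMod k A V)) :
    (subEquiv.symm (⨆ i, N i)).1 = ⨆ i, (subEquiv.symm (N i)).1 := by
  refine le_antisymm ?_ (iSup_le fun i => subEquiv.symm.monotone (le_iSup N i))
  let U : {U : Submodule k V // HopfRep.IsSubcomod (k := k) (A := A) U} :=
    ⟨⨆ i, (subEquiv.symm (N i)).1, isSubcomod_iSup _ fun i => (subEquiv.symm (N i)).2⟩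
  change subEquiv.symm (⨆ i, N i) ≤ U
  refine subEquiv.symm_apply_le.2 (iSup_le fun i => subEquiv.symm_apply_le.1 ?_)
  exact le_iSup (fun i => (subEquiv.symm (N i)).1) i

theorem isSimpleSub_iff_isAtom (U : {U : Submodule k V // HopfRep.IsSubcomod (k := k) (A := A) U}) :
    IsSimpleSub A U.1 ↔ IsAtom (subEquiv U) := by
  constructor
  · rintro ⟨h0, h⟩
    refine ⟨fun e => h0 (congrArg Subtype.val (subEquiv.injective (e.trans subEquiv_bot.symm))), fun N hN => ?_⟩
    obtain ⟨U', rfl⟩ := (subEquiv (k := k) (A := A) (V := V)).surjective N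
    have hlt := (subEquiv.lt_iff_lt).1 hN
    rcases h U'.1 U'.2 hlt.le with e | e
    · exact (congrArg subEquiv (Subtype.ext e)).trans subEquiv_bot
    · exact absurd (Subtype.ext e) hlt.ne
  · rintro ⟨h0, h⟩
    refine ⟨fun e => h0 ((congrArg subEquiv (Subtype.ext e)).trans subEquiv_bot), fun U' hU' hle => ?_⟩
    rcases eq_or_lt_of_le (show (⟨U', hU'⟩ : {U : Submodule k V // _}) ≤ U from hle) with e | e
    · exact Or.inr (congrArg Subtype.val e)
    · exact Or.inl (congrArg Subtype.val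
        (subEquiv.injective ((h _ (subEquiv.lt_iff_lt.2 e)).trans subEquiv_bot.symm)))

variable (A) in
/-- a semisimple comodule is a direct sum of simple subcomodules -/
theorem exists_decomposition (hV : HopfRep.IsSemisimpleComod k A V) :
    ∃ (ι : Type w) (S : ι → Submodule k V), iSupIndep S ∧ iSup S = ⊤ ∧
      ∀ i, HopfRep.IsSubcomod (k := k) (A := A) (S i) ∧ IsSimpleSub A (S i) := by
  have := isSemisimpleComod_iff.1 hV
  let T : Set (Submodule k V) := {U | HopfRep.IsSubcomod (k := k) (A := A) U ∧ IsSimpleSub A U}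
  have hT : (⨆ U : T, (U : Submodule k V)) = ⊤ := by
    have h := IsSemisimpleModule.sSup_simples_eq_top (WithConv (A →ₗ[k] k)) (RatMod k A V)
    rw [sSup_eq_iSup'] at h
    have h2 := congrArg (fun N => (subEquiv.symm N).1) h
    simp only [coe_subEquiv_symm_iSup] at h2
    rw [← subEquiv_top, OrderIso.symm_apply_apply] at h2
    change _ = (⊤ : Submodule k V) at h2
    refine top_le_iff.1 ?_
    rw [← h2.trans rfl]
    refine iSup_le fun N => ?_
    refine le_iSup_of_le (ι := T) ⟨_, (subEquiv.symm N.1).2, (isSimpleSub_iff_isAtom _).2 ?_⟩ le_rfl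
    rw [OrderIso.apply_symm_apply]
    exact isSimpleModule_iff_isAtom.1 N.2
  obtain ⟨J, hJ, hc⟩ := exists_isCompl_of_sum_simple (fun U : T => (U : Submodule k V))
    (fun U => U.2.1) (fun U => U.2.2) hT ⊥ isSubcomod_bot
  exact ⟨J, fun j => j.1.1, hJ, bot_sup_eq (⨆ j : J, (j.1.1 : Submodule k V)) ▸ hc.sup_eq_top,
    fun j => j.1.2⟩

end Simple

section Sub

variable {k : Type u} [CommRing k] {A : Type v} [AddCommGroup A] [Module k A] [Coalgebra k A]
  {V : Type w} [AddCommGroup V] [Module k V] [HopfRep.Comod k A V] [Module.Free k A]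
  {W : Type w'} [AddCommGroup W] [Module k W] [HopfRep.Comod k A W]

theorem isSemisimpleComod_of_injective {f : W →ₗ[k] V} (hf : Hoch.IsComodHom A f)
    (hinj : Function.Injective f) (hV : HopfRep.IsSemisimpleComod k A V) :
    HopfRep.IsSemisimpleComod k A W := by
  rw [isSemisimpleComod_iff] at hV ⊢
  exact IsSemisimpleModule.of_injective (toRatHom f hf) hinj

theorem isSemisimpleComod_of_surjective {f : V →ₗ[k] W} (hf : Hoch.IsComodHom A f)
    (hsurj : Function.Surjective f) (hV : HopfRep.IsSemisimpleComod k A V) :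
    HopfRep.IsSemisimpleComod k A W := by
  rw [isSemisimpleComod_iff] at hV ⊢
  exact IsSemisimpleModule.of_surjective (toRatHom f hf) hsurj

theorem isSimpleSub_range_iff {f : W →ₗ[k] V} (hf : Hoch.IsComodHom A f) (hinj : Function.Injective f) :
    IsSimpleSub A (LinearMap.range f) ↔ HopfRep.IsSimpleComod k A W := by
  constructor
  · rintro ⟨h0, h⟩
    refine ⟨not_subsingleton_iff_nontrivial.1 fun hs => h0 (LinearMap.range_eq_bot.2 (LinearMap.ext fun y => ?_)),
      fun U hU => ?_⟩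
    · rw [Subsingleton.elim y 0, map_zero, LinearMap.zero_apply]
    rcases h _ (isSubcomod_map hf hU) LinearMap.map_le_range with e | e
    · exact Or.inl (Submodule.map_injective_of_injective hinj (e.trans (Submodule.map_bot f).symm))
    · exact Or.inr (Submodule.map_injective_of_injective hinj (e.trans (Submodule.map_top f).symm))
  · rintro ⟨hn, h⟩
    refine ⟨fun e => ?_, fun U' hU' hle => ?_⟩
    · obtain ⟨y, hy⟩ := exists_ne (0 : W)
      exact hy (hinj (by rw [map_zero, LinearMap.range_eq_bot.1 e, LinearMap.zero_apply]))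
    rcases h _ (isSubcomod_comap hf hU') with e | e
    · left; rw [← Submodule.map_comap_eq_of_le hle, e, Submodule.map_bot]
    · right; rw [← Submodule.map_comap_eq_of_le hle, e, Submodule.map_top]

theorem isSimpleComod_finite [IsNoetherianRing k] (hV : HopfRep.IsSimpleComod k A V) :
    Module.Finite k V := by
  obtain ⟨hn, h⟩ := hV
  obtain ⟨v, hv⟩ := exists_ne (0 : V)
  rcases h _ (isSubcomod_gen (k := k) (A := A) v) with e | e
  · exact absurd ((Submodule.mem_bot k).1 (e ▸ mem_gen_self v)) hv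
  · have := finite_gen (k := k) (A := A) v
    rw [e] at this
    exact Module.Finite.equiv Submodule.topEquiv

theorem eq_zero_or_bijective (hV : HopfRep.IsSimpleComod k A V) (hW : HopfRep.IsSimpleComod k A W)
    {f : V →ₗ[k] W} (hf : Hoch.IsComodHom A f) : f = 0 ∨ Function.Bijective f := by
  rcases hV.2 _ (isSubcomod_ker hf) with e | e
  · rcases hW.2 _ (isSubcomod_range hf) with e' | e'
    · exact Or.inl (LinearMap.range_eq_bot.1 e')
    · exact Or.inr ⟨LinearMap.ker_eq_bot.1 e, LinearMap.range_eq_top.1 e'⟩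
  · exact Or.inl (LinearMap.ker_eq_top.1 e)

theorem isComodHom_symm {e : V ≃ₗ[k] W} (he : Hoch.IsComodHom A (e : V →ₗ[k] W)) :
    Hoch.IsComodHom A (e.symm : W →ₗ[k] V) := by
  rw [isComodHom_iff]
  intro φ y
  apply e.injective
  have := isComodHom_op he φ (e.symm y)
  simp only [LinearEquiv.coe_coe, LinearEquiv.apply_symm_apply] at this ⊢
  exact this.symm

theorem isComodHom_comp {U : Type*} [AddCommGroup U] [Module k U] [HopfRep.Comod k A U]
    {g : W →ₗ[k] U} {f : V →ₗ[k] W} (hg : Hoch.IsComodHom A g) (hf : Hoch.IsComodHom A f) :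
    Hoch.IsComodHom A (g ∘ₗ f) := by
  rw [isComodHom_iff]
  intro φ y
  simp only [LinearMap.comp_apply, isComodHom_op hf, isComodHom_op hg]

end Sub

end Groth.ComodLib
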