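import Groth.Agent.Hopf.Dual
import Groth.Agent.Hopf.Integral
import Groth.Agent.Hopf.Regular
import Groth.Agent.S18812
import Groth.Prelude.Def_ComodSub
import Groth.Prelude.Def_ComodTens

/-!
# Linear reductivity, integrals and fixed vectors
-/

set_option autoImplicit false
set_option linter.unusedSectionVars false

universe u v w w'

open TensorProduct

noncomputable section

namespace Groth.ComodLib

/-- every surjection onto the trivial line is nonzero on some fixed vector -/
def FixedCrit (k : Type u) [Field k] (A : Type v) [CommRing A] [HopfAlgebra k A] : Prop :=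
  ∀ (V : Type v) [AddCommGroup V] [Module k V] [HopfRep.Comod k A V], Module.Finite k V →
    ∀ π : V →ₗ[k] k, Function.Surjective π →
      LinearMap.rTensor A π ∘ₗ HopfRep.Comod.coact (k := k) (A := A) (V := V) =
        (TensorProduct.mk k k A).flip (1 : A) ∘ₗ π →
      ∃ v ∈ HopfRep.fixedPts k A V, π v ≠ 0

variable {k : Type u} [Field k] {A : Type v} [CommRing A] [HopfAlgebra k A]

/-- a linear form, invariant for the translations, on a subspace of `A` -/
def IsInvOn (U : Submodule k A) (f : A →ₗ[k] k) : Prop :=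
  ∀ x ∈ U, f.rTensor A (Coalgebra.comul (R := k) x) = f x ⊗ₜ[k] (1 : A)

theorem eq_smul_one_of_fixed {a : A} (h : Coalgebra.comul (R := k) a = a ⊗ₜ[k] (1 : A)) :
    a = Coalgebra.counit (R := k) a • (1 : A) := by
  have h2 := congrArg (fun z => TensorProduct.lid k A ((Coalgebra.counit (R := k) (A := A)).rTensor A z)) h
  simp only [Coalgebra.rTensor_counit_comul, LinearMap.rTensor_tmul, TensorProduct.lid_tmul, one_smul] at h2
  exact h2

theorem invariant_of_fixed_dual {V : Type w} [AddCommGroup V] [Module k V] [Module.Finite k V]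
    (c : HopfRep.Comod k A V) (f : Module.Dual k V) (hf : (dualComod c).coact f = f ⊗ₜ[k] (1 : A)) (x : V) :
    f.rTensor A (c.coact x) = f x ⊗ₜ[k] (1 : A) := by
  have hg : ∀ z, ComodTens.dualCoactFun c f z = f z • (1 : A) := by
    intro z
    rw [← isDual_dualComod c f, hf, dualTensorHom_apply]
  let G : V ⊗[k] A →ₗ[k] A := LinearMap.mul' k A ∘ₗ (ComodTens.dualCoactFun c f).rTensor A
  have h1 : G (c.coact x) = TensorProduct.lid k A (f.rTensor A (c.coact x)) := by
    generalize c.coact x = z
    induction z using TensorProduct.induction_on with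
    | zero => simp
    | tmul p q => simp [G, hg]
    | add p q hp hq => simp only [map_add, hp, hq]
  have h2 : G (c.coact x) = f x • (1 : A) := by
    let S := HopfAlgebraStruct.antipode (R := k) (A := A)
    have e : G (c.coact x) = (LinearMap.mul' k A ∘ₗ
        ((TensorProduct.lid k A).toLinearMap ∘ₗ TensorProduct.map f S).rTensor A)
          (c.coact.rTensor A (c.coact x)) := by
      change _ = (LinearMap.mul' k A) (((((TensorProduct.lid k A).toLinearMap ∘ₗ TensorProduct.map f S).rTensor A) ∘ₗ
        c.coact.rTensor A) (c.coact x))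
      rw [← LinearMap.rTensor_comp]
      rfl
    have hco := LinearMap.congr_fun c.coassoc x
    simp only [LinearMap.comp_apply, LinearEquiv.coe_coe] at hco
    rw [e, ← (TensorProduct.assoc k V A A).symm_apply_apply (c.coact.rTensor A (c.coact x)), hco]
    conv_rhs => rw [← op_counit (k := k) (A := A) x, op_apply]
    generalize c.coact x = z
    induction z using TensorProduct.induction_on with
    | zero => simp
    | add p q hp hq => simp only [map_add, add_smul, hp, hq]
    | tmul p a =>
      simp only [LinearMap.lTensor_tmul, slice_tmul, map_smul, smul_eq_mul]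
      have : ∀ w : A ⊗[k] A, (LinearMap.mul' k A ∘ₗ
          ((TensorProduct.lid k A).toLinearMap ∘ₗ TensorProduct.map f S).rTensor A)
            ((TensorProduct.assoc k V A A).symm (p ⊗ₜ[k] w)) =
          f p • LinearMap.mul' k A (S.rTensor A w) := by
        intro w
        induction w using TensorProduct.induction_on with
        | zero => simp
        | tmul s t => simp
        | add s t hs ht => simp only [TensorProduct.tmul_add, map_add, hs, ht, smul_add]
      rw [this, HopfAlgebra.mul_antipode_rTensor_comul_apply, Algebra.algebraMap_eq_smul_one, smul_smul, mul_comm]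
  apply (TensorProduct.lid k A).injective
  rw [← h1, h2, TensorProduct.lid_tmul]

theorem exists_invOn_of_crit (h : FixedCrit k A) (U : Submodule k A) [Module.Finite k U]
    (hU : HopfRep.IsSubcomod (k := k) (A := A) U) (h1 : (1 : A) ∈ U) :
    ∃ f : A →ₗ[k] k, IsInvOn U f ∧ f 1 = 1 := by
  let c := ComodSub.Comod.restr (inferInstance : HopfRep.Comod k A A) U hU
  let d := dualComod c
  let b := Module.finBasis k U
  let e : Module.Dual k U ≃ₗ[k] U := b.toDualEquiv.symm
  let c' := ComodTens.Comod.ofEquiv e d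
  let ev : Module.Dual k U →ₗ[k] k := Module.Dual.eval k U ⟨1, h1⟩
  let π : U →ₗ[k] k := ev ∘ₗ e.symm.toLinearMap
  have hev : ∀ g : Module.Dual k U, ev.rTensor A (d.coact g) = ev g ⊗ₜ[k] (1 : A) := by
    intro g
    apply (TensorProduct.lid k A).injective
    rw [← dualTensorHom_eq_lid, isDual_dualComod c g, ComodTens.dualCoactFun_apply, TensorProduct.lid_tmul]
    have h11 : c.coact ⟨1, h1⟩ = (⟨1, h1⟩ : U) ⊗ₜ[k] (1 : A) := by
      apply Module.Flat.rTensor_preserves_injective_linearMap U.subtype U.injective_subtype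
      have := LinearMap.congr_fun (ComodSub.isComodHom_subtype (inferInstance : HopfRep.Comod k A A) U hU)
        (⟨1, h1⟩ : U)
      simp only [LinearMap.comp_apply] at this
      rw [← this, LinearMap.rTensor_tmul]
      change Coalgebra.comul (R := k) (1 : A) = (1 : A) ⊗ₜ[k] (1 : A)
      rw [Bialgebra.comul_one, Algebra.TensorProduct.one_def]
    rw [h11, TensorProduct.map_tmul, TensorProduct.lid_tmul, HopfAlgebra.antipode_one]
    rfl
  have hπ : LinearMap.rTensor A π ∘ₗ c'.coact = (TensorProduct.mk k k A).flip (1 : A) ∘ₗ π := by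
    refine LinearMap.ext fun x => ?_
    change π.rTensor A (e.toLinearMap.rTensor A (d.coact (e.symm x))) = π x ⊗ₜ[k] (1 : A)
    rw [← LinearMap.rTensor_comp_apply, show π ∘ₗ e.toLinearMap = ev from
      LinearMap.ext fun g => by simp [π], hev]
    rfl
  have hsurj : Function.Surjective π := by
    intro r
    refine ⟨e ((r • Coalgebra.counit (R := k) (A := A)) ∘ₗ U.subtype), ?_⟩
    simp [π, ev]
  obtain ⟨v, hv, hv0⟩ := @h U _ _ c' inferInstance π hsurj hπ
  let f := e.symm v
  have hf : d.coact f = f ⊗ₜ[k] (1 : A) := by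
    have := congrArg (e.symm.toLinearMap.rTensor A) (show c'.coact v = v ⊗ₜ[k] (1 : A) from hv)
    change e.symm.toLinearMap.rTensor A (e.toLinearMap.rTensor A (d.coact f)) = _ at this
    rw [← LinearMap.rTensor_comp_apply, LinearEquiv.symm_comp, LinearMap.rTensor_id] at this
    simpa using this
  obtain ⟨F, hF⟩ := f.exists_extend
  refine ⟨(F 1)⁻¹ • F, fun x hx => ?_, ?_⟩
  · have := invariant_of_fixed_dual c f hf ⟨x, hx⟩
    have hsub := LinearMap.congr_fun (ComodSub.isComodHom_subtype (inferInstance : HopfRep.Comod k A A) U hU)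
      (⟨x, hx⟩ : U)
    simp only [LinearMap.comp_apply] at hsub
    have e1 : F.rTensor A (Coalgebra.comul (R := k) x) = F x ⊗ₜ[k] (1 : A) := by
      rw [show Coalgebra.comul (R := k) x = U.subtype.rTensor A (c.coact ⟨x, hx⟩) from hsub,
        ← LinearMap.rTensor_comp_apply, hF, this, ← hF]
      rfl
    rw [LinearMap.rTensor_smul, LinearMap.smul_apply, e1, LinearMap.smul_apply, TensorProduct.smul_tmul']
  · have : F 1 ≠ 0 := by
      have := LinearMap.congr_fun hF ⟨1, h1⟩
      simp only [LinearMap.comp_apply, Submodule.subtype_apply] at this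
      rw [this]
      exact hv0
    simp [this]

theorem invOn_unique (h : FixedCrit k A) (U : Submodule k A) [Module.Finite k U]
    (hU : HopfRep.IsSubcomod (k := k) (A := A) U) {f f' : A →ₗ[k] k}
    (hf : IsInvOn U f) (hf' : IsInvOn U f') (he : f 1 = f' 1) {x : A} (hx : x ∈ U) : f x = f' x := by
  by_contra hne
  let c := ComodSub.Comod.restr (inferInstance : HopfRep.Comod k A A) U hU
  let π : U →ₗ[k] k := (f - f') ∘ₗ U.subtype
  have hπ : LinearMap.rTensor A π ∘ₗ c.coact = (TensorProduct.mk k k A).flip (1 : A) ∘ₗ π := by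
    refine LinearMap.ext fun y => ?_
    have hsub := LinearMap.congr_fun (ComodSub.isComodHom_subtype (inferInstance : HopfRep.Comod k A A) U hU) y
    simp only [LinearMap.comp_apply] at hsub
    change π.rTensor A (c.coact y) = π y ⊗ₜ[k] (1 : A)
    rw [show π = (f - f') ∘ₗ U.subtype from rfl, LinearMap.rTensor_comp_apply, ← hsub]
    change (f - f').rTensor A (Coalgebra.comul (R := k) (y : A)) = _
    rw [LinearMap.rTensor_sub, LinearMap.sub_apply, hf _ y.2, hf' _ y.2, ← TensorProduct.sub_tmul]
    rfl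
  have hsurj : Function.Surjective π := by
    intro r
    exact ⟨(r / (f x - f' x)) • ⟨x, hx⟩, by simp [π, div_mul_cancel₀ r (sub_ne_zero.2 hne)]⟩
  obtain ⟨v, hv, hv0⟩ := @h U _ _ c inferInstance π hsurj hπ
  have hfix : Coalgebra.comul (R := k) (v : A) = (v : A) ⊗ₜ[k] (1 : A) := by
    have hsub := LinearMap.congr_fun (ComodSub.isComodHom_subtype (inferInstance : HopfRep.Comod k A A) U hU) v
    simp only [LinearMap.comp_apply] at hsub
    exact hsub.trans ((congrArg _ (show c.coact v = v ⊗ₜ[k] (1 : A) from hv)).trans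
      (LinearMap.rTensor_tmul ..))
  apply hv0
  change f (v : A) - f' (v : A) = 0
  rw [eq_smul_one_of_fixed hfix, map_smul, map_smul, he, sub_self]

theorem exists_integral_of_crit (h : FixedCrit k A) :
    ∃ α : A →ₗ[k] k,
      @Hoch.IsComodHom k _ A _ _ _ A _ _ _ k _ _ (HopfRep.Comod.trivial k A k) α ∧ α 1 = 1 := by
  classical
  have hex : ∀ s : Finset A, ∃ (U : Submodule k A) (f : A →ₗ[k] k), Module.Finite k U ∧
      HopfRep.IsSubcomod (k := k) (A := A) U ∧ (s : Set A) ⊆ U ∧ (1 : A) ∈ U ∧ IsInvOn U f ∧ f 1 = 1 := by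
    intro s
    obtain ⟨U, hfin, hsU, hU⟩ := exists_finite_subcomod_span (k := k) (A := A) ((insert (1 : A) s).finite_toSet)
    have h1 : (1 : A) ∈ U := hsU (by simp)
    obtain ⟨f, hf, hf1⟩ := exists_invOn_of_crit h U hU h1
    exact ⟨U, f, hfin, hU, fun x hx => hsU (by simp [Finset.mem_coe.1 hx]), h1, hf, hf1⟩
  choose U F hfin hU hsU h1 hinv hF1 using hex
  have key : ∀ (s : Finset A) (a : A), a ∈ U s → F {a} a = F s a := by
    intro s a ha
    have := hfin {a}
    have := hfin s
    let W := U {a} ⊓ U s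
    have : Module.Finite k W := Submodule.finiteDimensional_of_le (inf_le_left : W ≤ U {a})
    exact invOn_unique h W (isSubcomod_inf (hU _) (hU _)) (fun x hx => hinv _ x hx.1)
      (fun x hx => hinv _ x hx.2) (by rw [hF1, hF1]) ⟨hsU {a} (by simp), ha⟩
  let α : A →ₗ[k] k :=
    { toFun := fun a => F {a} a
      map_add' := fun a b => by
        change F {a + b} (a + b) = F {a} a + F {b} b
        rw [key {a, b} (a + b) (Submodule.add_mem _ (hsU _ (by simp)) (hsU _ (by simp))), map_add,
          key {a, b} a (hsU _ (by simp)), key {a, b} b (hsU _ (by simp))]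
      map_smul' := fun r a => by
        change F {r • a} (r • a) = r • F {a} a
        rw [key {a} (r • a) (Submodule.smul_mem _ _ (hsU _ (by simp))), map_smul] }
  refine ⟨α, LinearMap.ext fun a => ?_, hF1 _⟩
  change α a ⊗ₜ[k] (1 : A) = α.rTensor A (Coalgebra.comul (R := k) a)
  obtain ⟨z, hz⟩ := hU {a} a (hsU {a} (by simp))
  have e : ∀ x ∈ U {a}, α x = F {a} x := fun x hx => key {a} x hx
  rw [show Coalgebra.comul (R := k) a = (U {a}).subtype.rTensor A z from hz.symm,
    ← LinearMap.rTensor_comp_apply,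
    show α ∘ₗ (U {a}).subtype = F {a} ∘ₗ (U {a}).subtype from LinearMap.ext fun x => e x x.2,
    LinearMap.rTensor_comp_apply, hz]
  exact (hinv {a} a (hsU {a} (by simp))).symm

theorem isSemisimpleComod_of_crit (h : FixedCrit k A) (V : Type w) [AddCommGroup V] [Module k V]
    [HopfRep.Comod k A V] : HopfRep.IsSemisimpleComod k A V := by
  obtain ⟨α, hα, h1⟩ := exists_integral_of_crit h
  exact Groth.Agent.S18812.result k A α hα h1 V

theorem op_sub_smul_mem_ker {V : Type w} [AddCommGroup V] [Module k V] [HopfRep.Comod k A V]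
    {W : Type w'} [AddCommGroup W] [Module k W] [HopfRep.Comod k A W] {π : V →ₗ[k] W}
    (hπ : Hoch.IsComodHom A π) {v : V} (hv : π v ∈ HopfRep.fixedPts k A W) (φ : A →ₗ[k] k) :
    op φ v - φ 1 • v ∈ LinearMap.ker π := by
  rw [LinearMap.mem_ker, map_sub, map_smul, isComodHom_op hπ, op_apply,
    show HopfRep.Comod.coact (k := k) (A := A) (π v) = π v ⊗ₜ[k] (1 : A) from hv, slice_tmul, sub_self]

/-- in a semisimple comodule fixed vectors of a quotient lift -/
theorem exists_fixed_lift {V : Type w} [AddCommGroup V] [Module k V] [HopfRep.Comod k A V]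
    {W : Type w'} [AddCommGroup W] [Module k W] [HopfRep.Comod k A W]
    (hV : HopfRep.IsSemisimpleComod k A V) {π : V →ₗ[k] W} (hπ : Hoch.IsComodHom A π)
    {w : W} (hw : w ∈ HopfRep.fixedPts k A W) (hr : w ∈ LinearMap.range π) :
    ∃ v ∈ HopfRep.fixedPts k A V, π v = w := by
  obtain ⟨U, hU, hc⟩ := hV _ (isSubcomod_ker hπ)
  obtain ⟨v₀, rfl⟩ := hr
  obtain ⟨a, ha, v, hv, rfl⟩ := Submodule.mem_sup.1 (hc.sup_eq_top ▸ Submodule.mem_top (x := v₀))
  have hπv : π (a + v) = π v := by rw [map_add, LinearMap.mem_ker.1 ha, zero_add]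
  rw [hπv] at hw ⊢
  refine ⟨v, ext_slice fun φ => ?_, rfl⟩
  rw [slice_tmul, ← op_apply, ← sub_eq_zero, ← Submodule.mem_bot k, ← hc.inf_eq_bot]
  exact ⟨op_sub_smul_mem_ker hπ hw φ, U.sub_mem ((isSubcomod_iff U).1 hU φ v hv) (U.smul_mem _ hv)⟩

theorem fixedCrit_of_isLinearlyReductive (h : HopfRep.IsLinearlyReductive k A) : FixedCrit k A := by
  intro V _ _ _ hfin π hsurj hπ
  let := HopfRep.Comod.trivial k A k
  have h1 : (1 : k) ∈ HopfRep.fixedPts k A k := rfl
  obtain ⟨v, hv, e⟩ := exists_fixed_lift (h V hfin) (π := π) hπ.symm h1 (hsurj 1)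
  exact ⟨v, hv, by rw [e]; exact one_ne_zero⟩

theorem isLinearlyReductive_iff_crit : HopfRep.IsLinearlyReductive k A ↔ FixedCrit k A :=
  ⟨fixedCrit_of_isLinearlyReductive, fun h V _ _ _ _ => isSemisimpleComod_of_crit h V⟩

theorem isLinearlyReductive_iff_integral :
    HopfRep.IsLinearlyReductive k A ↔ ∃ α : A →ₗ[k] k,
      @Hoch.IsComodHom k _ A _ _ _ A _ _ _ k _ _ (HopfRep.Comod.trivial k A k) α ∧ α 1 = 1 :=
  ⟨fun h => exists_integral_of_crit (fixedCrit_of_isLinearlyReductive h),
    fun ⟨α, hα, h1⟩ V _ _ _ _ => Groth.Agent.S18812.result k A α hα h1 V⟩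

end Groth.ComodLib
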