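import Groth.Agent.GitQuot.Orbits
import Groth.Agent.Hopf.Integral
import Groth.Agent.Hopf.Reductive
import Groth.Agent.S13255
import Groth.Prelude.Def_ComodSub

/-!
# Linearised modules on a free action
-/

set_option autoImplicit false
set_option linter.unusedSectionVars false

universe u

open TensorProduct WithConv

noncomputable section

namespace Groth.ComodLib

variable {k : Type u} [Field k] {A : Type u} [CommRing A] [HopfAlgebra k A]
  {R : Type u} [CommRing R] [Algebra k R] [HopfRep.Comod k A R] [GLin.IsCoactAlg k A R]
  {M : Type u} [AddCommGroup M] [Module k M] [Module R M] [IsScalarTower k R M]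
  [HopfRep.Comod k A M] [TameAct.IsHopfMod k A R M]

theorem isComodHom_orbitHom (x : R →ₐ[k] k) :
    Hoch.IsComodHom A (GLin.orbitHom k A x).toLinearMap := by
  rw [isComodHom_iff]
  intro φ f
  show GLin.orbitHom k A x (op φ f) = op (V := A) φ (GLin.orbitHom k A x f)
  symm
  rw [← sub_eq_zero, ← Module.forall_dual_apply_eq_zero_iff k]
  intro ψ
  have hop : ψ (op (V := A) φ (GLin.orbitHom k A x f)) =
      (toConv ψ * toConv φ).ofConv (GLin.orbitHom k A x f) := by
    rw [LinearMap.convMul_apply, op_apply]
    change ψ (slice φ (Coalgebra.comul (R := k) _)) = _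
    induction Coalgebra.comul (R := k) (GLin.orbitHom k A x f) using TensorProduct.induction_on with
    | zero => simp
    | tmul a b => simp [mul_comm]
    | add a b ha hb => simp only [map_add, ha, hb]
  rw [map_sub, hop, GitQuot.dual_orbitHom, GitQuot.dual_orbitHom, op_mul]
  simp

/-- `I • M` is a subcomodule for a stable ideal `I`. -/
theorem isSubcomod_ideal_smul {I : Ideal R}
    (hI : HopfRep.IsSubcomod (k := k) (A := A) (I.restrictScalars k)) :
    HopfRep.IsSubcomod (k := k) (A := A) ((I • (⊤ : Submodule R M)).restrictScalars k) := by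
  intro w hw
  rw [Submodule.restrictScalars_mem] at hw
  refine Submodule.smul_induction_on hw (fun r hr m _ => ?_) (fun a b ha hb => ?_)
  · rw [TameAct.IsHopfMod.coact_smul]
    obtain ⟨z, hz⟩ := hI r hr
    rw [← hz]
    clear hz
    generalize HopfRep.Comod.coact (k := k) (A := A) m = w
    induction z using TensorProduct.induction_on with
    | zero => simp
    | add p q hp hq => simp only [map_add, LinearMap.add_apply]; exact add_mem hp hq
    | tmul p a =>
      induction w using TensorProduct.induction_on with
      | zero => simp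
      | add s t hs ht => simp only [map_add]; exact add_mem hs ht
      | tmul s b =>
        exact ⟨⟨(p : R) • s, Submodule.smul_mem_smul p.2 trivial⟩ ⊗ₜ[k] (a * b), by simp⟩
  · rw [map_add]
    exact add_mem ha hb

/-- A Hopf module killed by the ideal of a free orbit is free over the orbit, on invariants. -/
theorem free_of_annihilated {Q : Type u} [AddCommGroup Q] [Module k Q] [Module R Q]
    [IsScalarTower k R Q] [HopfRep.Comod k A Q] [TameAct.IsHopfMod k A R Q]
    (x : R →ₐ[k] k) (hx : Function.Surjective (GLin.orbitHom k A x))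
    (hkill : ∀ r ∈ RingHom.ker (GLin.orbitHom k A x), ∀ q : Q, r • q = 0) :
    ∃ (ι : Type u) (v : ι → Q), (∀ i, v i ∈ HopfRep.fixedPts k A Q) ∧
      Submodule.span R (Set.range v) = ⊤ ∧
      ∀ (s : Finset ι) (c : ι → R), ∑ i ∈ s, c i • v i = 0 → ∀ i ∈ s,
        c i ∈ RingHom.ker (GLin.orbitHom k A x) := by
  classical
  let φ := GLin.orbitHom k A x
  let sec : A → R := Function.surjInv hx
  have hsec : ∀ a, φ (sec a) = a := Function.surjInv_eq hx
  have hc : ∀ (r s : R) (q : Q), φ r = φ s → r • q = s • q := by
    intro r s q h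
    rw [← sub_eq_zero, ← sub_smul]
    exact hkill _ (by rw [RingHom.mem_ker, map_sub]; exact sub_eq_zero.2 h) q
  letI : Module A Q :=
    { smul := fun a q => sec a • q
      one_smul := fun q => by
        show sec 1 • q = q
        rw [hc (sec 1) 1 q (by rw [hsec, map_one]), one_smul]
      mul_smul := fun a b q => by
        show sec (a * b) • q = sec a • sec b • q
        rw [← mul_smul]
        exact hc _ _ q (by rw [hsec, map_mul, hsec, hsec])
      smul_zero := fun a => smul_zero (sec a)
      smul_add := fun a p q => smul_add (sec a) p q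
      add_smul := fun a b q => by
        show sec (a + b) • q = sec a • q + sec b • q
        rw [← add_smul]
        exact hc _ _ q (by rw [hsec, map_add, hsec, hsec])
      zero_smul := fun q => by
        show sec 0 • q = 0
        rw [hc (sec 0) 0 q (by rw [hsec, map_zero]), zero_smul] }
  have hsmul : ∀ (r : R) (q : Q), φ r • q = r • q := fun r q => hc _ _ q (hsec _)
  have : IsScalarTower k A Q := by
    refine ⟨fun c a q => ?_⟩
    show sec (c • a) • q = c • sec a • q
    rw [← smul_assoc]
    exact hc _ _ q (by rw [hsec, map_smul, hsec])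
  have : TameAct.IsHopfMod k A A Q := by
    refine ⟨fun a q => ?_⟩
    show HopfRep.Comod.coact (k := k) (A := A) (sec a • q) = _
    conv_rhs => rw [← hsec a]
    rw [TameAct.IsHopfMod.coact_smul,
      show HopfRep.Comod.coact (k := k) (A := A) (φ (sec a)) =
        φ.toLinearMap.rTensor A (HopfRep.Comod.coact (k := k) (A := A) (sec a)) from
        LinearMap.congr_fun (isComodHom_orbitHom x) (sec a)]
    generalize HopfRep.Comod.coact (k := k) (A := A) (sec a) = z
    generalize HopfRep.Comod.coact (k := k) (A := A) q = w
    induction z using TensorProduct.induction_on with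
    | zero => simp
    | add p q hp hq => simp only [map_add, LinearMap.add_apply, hp, hq]
    | tmul p a =>
      induction w using TensorProduct.induction_on with
      | zero => simp
      | add s t hs ht => simp only [map_add, hs, ht]
      | tmul s b =>
        simp only [LinearMap.rTensor_tmul, AlgHom.toLinearMap_apply, TameAct.hmSMul_tmul, hsmul]
  let F := HopfRep.fixedPts k A Q
  let b := Module.Basis.ofVectorSpace k F
  have hres := Groth.Agent.S13255.result k A Q _ (fun i => (b i : Q))
      (b.linearIndependent.map' F.subtype F.ker_subtype)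
      (by rw [show (fun i => (b i : Q)) = F.subtype ∘ b from rfl, Set.range_comp,
        ← Submodule.map_span, b.span_eq, Submodule.map_subtype_top])
  refine ⟨_, fun i => (b i : Q), fun i => (b i).2, ?_, fun t c ht i hi => ?_⟩
  · rw [eq_top_iff]
    intro q _
    have hq : q ∈ Submodule.span A (Set.range fun i => (b i : Q)) := by rw [hres.2]; trivial
    induction hq using Submodule.span_induction with
    | mem y hy => exact Submodule.subset_span hy
    | zero => exact zero_mem _
    | add p q _ _ hp hq => exact add_mem (hp trivial) (hq trivial)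
    | smul a p _ hp => exact Submodule.smul_mem _ (sec a) (hp trivial)
  · have h0 : ∑ i ∈ t, φ (c i) • (b i : Q) = 0 := by simp only [hsmul]; exact ht
    exact linearIndependent_iff'.1 hres.1 t (fun i => φ (c i)) h0 i hi

/-- A Hopf module killed by the ideal of a free orbit is spanned by its invariants. -/
theorem span_fixed_eq_top_of_annihilated {Q : Type u} [AddCommGroup Q] [Module k Q] [Module R Q]
    [IsScalarTower k R Q] [HopfRep.Comod k A Q] [TameAct.IsHopfMod k A R Q]
    (x : R →ₐ[k] k) (hx : Function.Surjective (GLin.orbitHom k A x))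
    (hkill : ∀ r ∈ RingHom.ker (GLin.orbitHom k A x), ∀ q : Q, r • q = 0) :
    Submodule.span R (HopfRep.fixedPts k A Q : Set Q) = ⊤ := by
  obtain ⟨ι, v, hv, hsp, -⟩ := free_of_annihilated (A := A) x hx hkill
  rw [eq_top_iff, ← hsp]
  exact Submodule.span_mono (Set.range_subset_iff.2 hv)

/-- The quotient comodule of a Hopf module by a stable submodule. -/
def quotHopf (N : Submodule R M) (hN : HopfRep.IsSubcomod (k := k) (A := A) (N.restrictScalars k)) :
    HopfRep.Comod k A (M ⧸ N) :=
  ComodSub.Comod.quot inferInstance (N.restrictScalars k) hN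

theorem quotHopf_coact (N : Submodule R M)
    (hN : HopfRep.IsSubcomod (k := k) (A := A) (N.restrictScalars k)) (m : M) :
    (quotHopf N hN).coact (N.mkQ m) =
      (N.mkQ.restrictScalars k).rTensor A (HopfRep.Comod.coact (k := k) (A := A) m) :=
  rfl

theorem isHopfMod_quotHopf (N : Submodule R M)
    (hN : HopfRep.IsSubcomod (k := k) (A := A) (N.restrictScalars k)) :
    @TameAct.IsHopfMod k _ A _ _ R _ _ (M ⧸ N) _ _ _ _ _ (quotHopf N hN) := by
  letI := quotHopf (A := A) N hN
  refine ⟨fun r q => ?_⟩
  obtain ⟨y, rfl⟩ := N.mkQ_surjective q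
  rw [← map_smul]
  show (quotHopf N hN).coact _ = TameAct.hmSMul k A R (M ⧸ N) _ ((quotHopf N hN).coact _)
  rw [quotHopf_coact, quotHopf_coact, TameAct.IsHopfMod.coact_smul]
  generalize HopfRep.Comod.coact (k := k) (A := A) r = z
  generalize HopfRep.Comod.coact (k := k) (A := A) y = w
  induction z using TensorProduct.induction_on with
  | zero => simp
  | add p q hp hq => simp only [map_add, LinearMap.add_apply, hp, hq]
  | tmul p a =>
    induction w using TensorProduct.induction_on with
    | zero => simp
    | add s t hs ht => simp only [map_add, hs, ht]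
    | tmul s b => simp

/-- On a free orbit the invariant sections span the fibre. -/
theorem mem_span_fixed_add_smul (hG : HopfRep.IsLinearlyReductive k A) (x : R →ₐ[k] k)
    (hx : Function.Surjective (GLin.orbitHom k A x)) (m : M) :
    m ∈ Submodule.span R (HopfRep.fixedPts k A M : Set M) ⊔
      RingHom.ker x • (⊤ : Submodule R M) := by
  let N : Submodule R M := RingHom.ker (GLin.orbitHom k A x) • ⊤
  have hN : HopfRep.IsSubcomod (k := k) (A := A) (N.restrictScalars k) :=
    isSubcomod_ideal_smul (GitQuot.isSubcomod_ker_orbitHom x)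
  let := quotHopf (A := A) N hN
  have := isHopfMod_quotHopf (A := A) N hN
  have hπ : Hoch.IsComodHom A (N.mkQ.restrictScalars k) := LinearMap.ext fun y => quotHopf_coact N hN y
  have htop := span_fixed_eq_top_of_annihilated (Q := M ⧸ N) x hx fun r hr q => by
    obtain ⟨y, rfl⟩ := N.mkQ_surjective q
    rw [← map_smul]
    exact (Submodule.Quotient.mk_eq_zero N).2 (Submodule.smul_mem_smul hr trivial)
  have key : ∀ q : M ⧸ N, ∃ w ∈ Submodule.span R (HopfRep.fixedPts k A M : Set M), N.mkQ w = q := by
    intro q
    have hq : q ∈ (Submodule.span R (HopfRep.fixedPts k A M : Set M)).map N.mkQ := by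
      have : Submodule.span R (HopfRep.fixedPts k A (M ⧸ N) : Set (M ⧸ N)) ≤
          (Submodule.span R (HopfRep.fixedPts k A M : Set M)).map N.mkQ := by
        rw [Submodule.span_le]
        intro p hp
        obtain ⟨v, hv, e⟩ := GitQuot.exists_fixedPts_map_eq hG hπ N.mkQ_surjective hp
        exact ⟨v, Submodule.subset_span hv, e⟩
      exact this (htop ▸ Submodule.mem_top)
    exact hq
  obtain ⟨w, hw, e⟩ := key (N.mkQ m)
  have hN' : m - w ∈ N := (Submodule.Quotient.eq _).1 e.symm
  rw [← add_sub_cancel w m]
  exact Submodule.add_mem_sup hw (Submodule.smul_mono_left (GitQuot.ker_orbitHom_le x) hN')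

/-- If all orbits are free, the invariant sections generate. -/
theorem span_fixed_eq_top [IsAlgClosed k] [Algebra.FiniteType k R] [Module.Finite R M]
    (hG : HopfRep.IsLinearlyReductive k A)
    (hfree : ∀ x : R →ₐ[k] k, Function.Surjective (GLin.orbitHom k A x)) :
    Submodule.span R (HopfRep.fixedPts k A M : Set M) = ⊤ := by
  set W := Submodule.span R (HopfRep.fixedPts k A M : Set M)
  have key : Module.annihilator R (M ⧸ W) = ⊤ := by
    by_contra hne
    obtain ⟨x, hx⟩ := GitQuot.exists_point (k := k) _ hne
    have hle : (⊤ : Submodule R (M ⧸ W)) ≤ RingHom.ker x • (⊤ : Submodule R (M ⧸ W)) := by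
      intro q _
      obtain ⟨m, rfl⟩ := W.mkQ_surjective q
      obtain ⟨w, hw, j, hj, rfl⟩ := Submodule.mem_sup.1 (mem_span_fixed_add_smul hG x (hfree x) m)
      rw [map_add, Submodule.mkQ_apply, (Submodule.Quotient.mk_eq_zero W).2 hw, zero_add]
      have h := Submodule.mem_map_of_mem (f := W.mkQ) hj
      rw [Submodule.map_smul'', Submodule.map_top, Submodule.range_mkQ] at h
      exact h
    obtain ⟨a, ha1, ha0⟩ := Submodule.exists_sub_one_mem_and_smul_eq_zero_of_fg_of_le_smul
      (RingHom.ker x) ⊤ Module.Finite.fg_top hle
    have ha : a ∈ RingHom.ker x := hx (Module.mem_annihilator.2 fun q => ha0 q trivial)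
    rw [RingHom.mem_ker] at ha ha1
    rw [map_sub, ha, map_one, zero_sub, neg_eq_zero] at ha1
    exact one_ne_zero ha1
  rw [eq_top_iff]
  intro m _
  have h1 : (1 : R) • (Submodule.Quotient.mk m : M ⧸ W) = 0 :=
    Module.mem_annihilator.1 (key ▸ Submodule.mem_top : (1 : R) ∈ Module.annihilator R (M ⧸ W)) _
  rwa [one_smul, Submodule.Quotient.mk_eq_zero] at h1

end Groth.ComodLib
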