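import Groth.Agent.Hopf.Coeff

/-!
# Comodules along an injective coalgebra map
-/

set_option autoImplicit false
set_option linter.unusedSectionVars false

universe u v v' w

open TensorProduct WithConv

noncomputable section

namespace Groth.ComodLib

variable {k : Type u} [Field k] {C : Type v} [AddCommGroup C] [Module k C] [Coalgebra k C]
  {D : Type v'} [AddCommGroup D] [Module k D] [Coalgebra k D]
  {V : Type w} [AddCommGroup V] [Module k V]

/-- push a comodule along a coalgebra map -/
@[reducible] def pushComod (i : C →ₗc[k] D) (c : HopfRep.Comod k C V) : HopfRep.Comod k D V where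
  coact := (i : C →ₗ[k] D).lTensor V ∘ₗ c.coact
  coassoc := by
    refine LinearMap.ext fun x => ?_
    have h := LinearMap.congr_fun c.coassoc x
    simp only [LinearMap.comp_apply, LinearEquiv.coe_coe] at h ⊢
    have e1 : ∀ z : V ⊗[k] C, TensorProduct.assoc k V D D
        (((i : C →ₗ[k] D).lTensor V ∘ₗ c.coact).rTensor D ((i : C →ₗ[k] D).lTensor V z)) =
        (TensorProduct.map (i : C →ₗ[k] D) (i : C →ₗ[k] D)).lTensor V
          (TensorProduct.assoc k V C C (c.coact.rTensor C z)) := by
      intro z
      induction z using TensorProduct.induction_on with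
      | zero => simp
      | tmul a b =>
        simp only [LinearMap.lTensor_tmul, LinearMap.rTensor_tmul, LinearMap.comp_apply]
        induction c.coact a using TensorProduct.induction_on with
        | zero => simp
        | tmul p q => simp
        | add p q hp hq => simp only [map_add, TensorProduct.add_tmul, hp, hq]
      | add p q hp hq => simp only [map_add, hp, hq]
    rw [e1, h, ← LinearMap.comp_apply (f := (TensorProduct.map _ _).lTensor V), ← LinearMap.lTensor_comp,
      ← LinearMap.comp_apply (f := (Coalgebra.comul (R := k) (A := D)).lTensor V), ← LinearMap.lTensor_comp]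
    exact LinearMap.congr_fun (congrArg (LinearMap.lTensor V) i.map_comp_comul) (c.coact x)
  counit_comp := by
    rw [← LinearMap.comp_assoc, ← LinearMap.lTensor_comp]
    have : (Coalgebra.counit (R := k) (A := D)) ∘ₗ (i : C →ₗ[k] D) = Coalgebra.counit := i.counit_comp
    rw [this]
    exact c.counit_comp

theorem op_push (i : C →ₗc[k] D) (c : HopfRep.Comod k C V) (φ : D →ₗ[k] k) (x : V) :
    @op k _ D _ _ _ V _ _ (pushComod i c) φ x = @op k _ C _ _ _ V _ _ c (φ ∘ₗ (i : C →ₗ[k] D)) x :=
  slice_lTensor φ _ _

theorem isSubcomod_push_iff {i : C →ₗc[k] D} (hi : Function.Injective i) (c : HopfRep.Comod k C V)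
    (W : Submodule k V) :
    @HopfRep.IsSubcomod k D _ _ _ _ V _ _ (pushComod i c) W ↔
      @HopfRep.IsSubcomod k C _ _ _ _ V _ _ c W := by
  letI := pushComod i c
  letI := c
  rw [isSubcomod_iff, isSubcomod_iff]
  refine ⟨fun h φ x hx => ?_, fun h φ x hx => (op_push i c φ x).symm ▸ h _ x hx⟩
  obtain ⟨g, hg⟩ := (i : C →ₗ[k] D).exists_leftInverse_of_injective (LinearMap.ker_eq_bot.2 hi)
  have := h (φ ∘ₗ g) x hx
  rwa [op_push, LinearMap.comp_assoc, hg, LinearMap.comp_id] at this

/-- a tensor lies in `U ⊗ i(C)` iff forms killing `i(C)` kill it -/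
theorem mem_range_lTensor_iff_slice (i : C →ₗ[k] D) (x : V ⊗[k] D) :
    x ∈ LinearMap.range (i.lTensor V) ↔ ∀ φ : D →ₗ[k] k, φ ∘ₗ i = 0 → slice φ x = 0 := by
  constructor
  · rintro ⟨y, rfl⟩ φ hφ
    rw [slice_lTensor, hφ]
    exact map_zero (sliceL C y)
  · intro h
    have h0 : (LinearMap.range i).mkQ.lTensor V x = 0 := by
      refine eq_zero_of_slice fun φ => ?_
      rw [slice_lTensor]
      exact h _ (LinearMap.ext fun c => by simp [(Submodule.Quotient.mk_eq_zero _).2 (LinearMap.mem_range_self i c)])
    exact ((_root_.lTensor_exact V (g := (LinearMap.range i).mkQ)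
      (LinearMap.exact_iff.2 (Submodule.ker_mkQ _)) (Submodule.mkQ_surjective _)) x).1 h0

end Groth.ComodLib
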