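import Groth.Agent.GrpschAbsch.Cartier
import Mathlib.AlgebraicGeometry.Group.Affine
import Mathlib.RingTheory.RingHom.Smooth

/-!
# Cartier's theorem for Hopf algebras
-/

universe u

open AlgebraicGeometry CategoryTheory

namespace Groth.ComodLib

/-- A Hopf algebra of finite type over a field of characteristic zero is smooth. -/
theorem smooth_of_hopfAlgebra_charZero (k A : Type u) [Field k] [CharZero k] [CommRing A]
    [HopfAlgebra k A] [Algebra.FiniteType k A] : Algebra.Smooth k A := by
  have : LocallyOfFiniteType ((Spec (CommRingCat.of A)).asOver (Spec (CommRingCat.of k))).hom :=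
    AlgebraicGeometry.locallyOfFiniteType_specOverSpec
  have h := Groth.GrpschAbsch.smooth_of_charZero ((Spec (CommRingCat.of A)).asOver (Spec (CommRingCat.of k)))
  rw [← RingHom.smooth_algebraMap]
  exact (HasRingHomProperty.Spec_iff (P := @Smooth)).1 h

end Groth.ComodLib
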