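import Mathlib.RingTheory.Flat.Basic
import Mathlib.LinearAlgebra.TensorProduct.Pi
import Mathlib.RingTheory.Artinian.Module
import Mathlib.LinearAlgebra.Contraction
import Mathlib.LinearAlgebra.Trace
import Mathlib.LinearAlgebra.Eigenspace.Triangularizable
import Mathlib.RingTheory.SimpleModule.Basic
import Mathlib.FieldTheory.IsAlgClosed.AlgebraicClosure

/-!
# Burnside's theorem and Kolchin's fixed vector theorem
-/

set_option autoImplicit false

universe u v w

open Module

namespace Groth.ComodLib

variable {k : Type u} [Field k] {V : Type w} [AddCommGroup V] [Module k V]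

/-- Burnside: an irreducible subalgebra of endomorphisms over an algebraically closed field is everything -/
theorem mem_of_irreducible [IsAlgClosed k] [FiniteDimensional k V] [Nontrivial V]
    (E : Subalgebra k (Module.End k V))
    (hE : ∀ U : Submodule k V, (∀ f ∈ E, ∀ x ∈ U, f x ∈ U) → U = ⊥ ∨ U = ⊤) (f : Module.End k V) : f ∈ E := by
  have hsimp : IsSimpleModule E V := by
    refine (isSimpleModule_iff E V).2 { exists_pair_ne := ⟨⊥, ⊤, bot_ne_top⟩, eq_bot_or_eq_top := fun U => ?_ }
    rcases hE (U.restrictScalars k) (fun g hg x hx => U.smul_mem (⟨g, hg⟩ : E) hx) with e | e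
    · exact Or.inl (Submodule.restrictScalars_injective k E V (e.trans (Submodule.restrictScalars_bot (S := k) (R := E) (M := V)).symm))
    · exact Or.inr (Submodule.restrictScalars_injective k E V (e.trans (Submodule.restrictScalars_top (S := k) (R := E) (M := V)).symm))
  have hscal : ∀ g : Module.End E V, ∃ c : k, ∀ x, g x = c • x := by
    intro g
    let g' : Module.End k V := g.restrictScalars k
    obtain ⟨c, hc⟩ := Module.End.exists_eigenvalue g'
    refine ⟨c, fun x => ?_⟩
    have hinv : ∀ h ∈ E, ∀ y ∈ Module.End.eigenspace g' c, h y ∈ Module.End.eigenspace g' c := by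
      intro h hh y hy
      rw [Module.End.mem_eigenspace_iff] at hy ⊢
      change g ((⟨h, hh⟩ : E) • y) = _
      rw [map_smul, show g y = c • y from hy]
      exact h.map_smul c y
    rcases hE _ hinv with e | e
    · exact absurd e hc
    · exact Module.End.mem_eigenspace_iff.1 (e ▸ Submodule.mem_top : x ∈ Module.End.eigenspace g' c)
  let f' : Module.End (Module.End E V) V :=
    { toFun := f
      map_add' := f.map_add
      map_smul' := fun g x => by
        obtain ⟨c, hc⟩ := hscal g
        simp [hc] }
  classical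
  let b := Module.finBasis k V
  obtain ⟨r, hr⟩ := jacobson_density f' (Finset.univ.image b)
  have : f = (r : Module.End k V) := b.ext fun i => hr (b i) (Finset.mem_image_of_mem _ (Finset.mem_univ i))
  exact this ▸ r.2

theorem trace_eq_of_unipotent [FiniteDimensional k V] {f : Module.End k V} (hf : IsNilpotent (f - 1)) :
    LinearMap.trace k V f = (Module.finrank k V : k) := by
  have h : LinearMap.trace k V (f - 1) = 0 := (LinearMap.isNilpotent_trace_of_isNilpotent hf).eq_zero
  rwa [map_sub, LinearMap.trace_one, sub_eq_zero] at h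

variable {Γ : Type v} [Monoid Γ]

/-- Kolchin over an algebraically closed field -/
theorem exists_fixed_of_unipotent_algClosed [IsAlgClosed k] [FiniteDimensional k V] [Nontrivial V]
    (ρ : Γ →* Module.End k V) (hρ : ∀ g, IsNilpotent (ρ g - 1)) : ∃ v : V, v ≠ 0 ∧ ∀ g, ρ g v = v := by
  classical
  have hex : ∃ n, ∃ U : Submodule k V, U ≠ ⊥ ∧ (∀ g, ∀ x ∈ U, ρ g x ∈ U) ∧ Module.finrank k U = n :=
    ⟨_, ⊤, top_ne_bot, fun _ _ _ => trivial, rfl⟩
  obtain ⟨U, hU0, hU, hn⟩ := Nat.find_spec hex
  have hmin : ∀ U' : Submodule k V, U' ≠ ⊥ → (∀ g, ∀ x ∈ U', ρ g x ∈ U') → U' ≤ U → U' = U := by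
    intro U' h0 h' hle
    rcases eq_or_lt_of_le hle with e | e
    · exact e
    · exact absurd ⟨U', h0, h', rfl⟩ (Nat.find_min hex (hn ▸ Submodule.finrank_lt_finrank_of_lt e))
  have : Nontrivial U := Submodule.nontrivial_iff_ne_bot.2 hU0
  let σ : Γ → Module.End k U := fun g => (ρ g).restrict (hU g)
  let E : Subalgebra k (Module.End k U) := Algebra.adjoin k (Set.range σ)
  have hσ : ∀ g (x : U), (σ g x : V) = ρ g x := fun _ _ => rfl
  have hirr : ∀ W : Submodule k U, (∀ f ∈ E, ∀ x ∈ W, f x ∈ W) → W = ⊥ ∨ W = ⊤ := by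
    intro W hW
    by_cases h0 : W = ⊥
    · exact Or.inl h0
    right
    have := hmin (W.map U.subtype)
      (fun e => h0 (Submodule.map_injective_of_injective U.subtype_injective (e.trans (Submodule.map_bot U.subtype).symm)))
      (fun g => by
        rintro _ ⟨x, hx, rfl⟩
        exact ⟨σ g x, hW _ (Algebra.subset_adjoin ⟨g, rfl⟩) x hx, rfl⟩) (Submodule.map_subtype_le U W)
    exact Submodule.map_injective_of_injective U.subtype_injective (this.trans (Submodule.map_subtype_top U).symm)
  have hσn : ∀ g, IsNilpotent (σ g - 1) := by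
    intro g
    obtain ⟨m, hm⟩ := hρ g
    refine ⟨m, ?_⟩
    ext x
    have e : ∀ (j : ℕ) (x : U), (((σ g - 1) ^ j) x : V) = ((ρ g - 1) ^ j) x := by
      intro j
      induction j with
      | zero => simp
      | succ j ih => intro x; simp only [pow_succ, Module.End.mul_apply, ih]; rfl
    rw [e, hm]
    rfl
  have htr : ∀ g, ∀ X ∈ E, LinearMap.trace k U ((σ g - 1) * X) = 0 := by
    intro g X hX
    have hmul : ∀ a b, σ a * σ b = σ (a * b) := fun a b =>
      LinearMap.ext fun x => Subtype.ext (by simp [hσ])
    have h1 : σ 1 = 1 := LinearMap.ext fun x => Subtype.ext (by simp [hσ])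
    rw [← Subalgebra.mem_toSubmodule, Algebra.adjoin_eq_span] at hX
    induction hX using Submodule.span_induction with
    | mem y hy =>
      obtain ⟨a, rfl⟩ : ∃ a, σ a = y := by
        induction hy using Submonoid.closure_induction with
        | mem z hz => exact hz
        | one => exact ⟨1, h1⟩
        | mul p q _ _ hp hq =>
          obtain ⟨a, rfl⟩ := hp
          obtain ⟨b, rfl⟩ := hq
          exact ⟨a * b, (hmul a b).symm⟩
      rw [sub_mul, one_mul, hmul, map_sub, trace_eq_of_unipotent (hσn _), trace_eq_of_unipotent (hσn _), sub_self]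
    | zero => simp
    | add p q _ _ hp hq => rw [mul_add, map_add, hp, hq, add_zero]
    | smul c p _ hp => rw [mul_smul_comm, map_smul, hp, smul_zero]
  obtain ⟨x, hx⟩ := exists_ne (0 : U)
  refine ⟨x, fun e => hx (Subtype.ext e), fun g => ?_⟩
  have hz : σ g x - x = 0 := by
    refine (Module.forall_dual_apply_eq_zero_iff k _).1 fun φ => ?_
    have h := htr g (dualTensorHom k U U (φ ⊗ₜ x)) (mem_of_irreducible E hirr _)
    rw [show (σ g - 1) * dualTensorHom k U U (φ ⊗ₜ x) = dualTensorHom k U U (φ ⊗ₜ ((σ g - 1) x)) from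
      LinearMap.ext fun y => by simp [map_smul, smul_sub]] at h
    rwa [LinearMap.trace_eq_contract_apply, contractLeft_apply] at h
  exact congrArg Subtype.val (sub_eq_zero.1 hz)

/-- Kolchin over any field -/
theorem exists_fixed_of_unipotent [FiniteDimensional k V] [Nontrivial V]
    (ρ : Γ →* Module.End k V) (hρ : ∀ g, IsNilpotent (ρ g - 1)) : ∃ v : V, v ≠ 0 ∧ ∀ g, ρ g v = v := by
  classical
  by_contra hne
  have hinf : (⨅ g, LinearMap.ker (ρ g - 1)) = ⊥ :=
    (Submodule.eq_bot_iff _).2 fun x hx => by_contra fun h0 => hne ⟨x, h0, fun g => by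
      have := LinearMap.mem_ker.1 ((Submodule.mem_iInf _).1 hx g)
      rwa [LinearMap.sub_apply, Module.End.one_apply, sub_eq_zero] at this⟩
  obtain ⟨_, ⟨s, rfl⟩, hs⟩ := WellFounded.has_min (wellFounded_lt (α := Submodule k V))
    (Set.range fun s : Finset Γ => s.inf fun g => LinearMap.ker (ρ g - 1)) ⟨_, ⟨∅, rfl⟩⟩
  let T : V →ₗ[k] (s → V) := LinearMap.pi fun g : s => ρ (g : Γ) - 1
  have hT : LinearMap.ker T = ⊥ := by
    refine le_bot_iff.1 ?_
    rw [← hinf, LinearMap.ker_pi]
    refine le_iInf fun g => ?_
    refine le_trans ?_ ((eq_of_le_of_not_lt (Finset.inf_mono (Finset.subset_insert g s)) (hs _ ⟨insert g s, rfl⟩)).symm.le.trans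
      (Finset.inf_le (Finset.mem_insert_self g s)))
    rw [Finset.inf_eq_iInf]
    exact le_iInf₂ fun i hi => iInf_le (fun g : s => LinearMap.ker (ρ (g : Γ) - 1)) ⟨i, hi⟩
  let K := AlgebraicClosure k
  have : Nontrivial (TensorProduct k K V) :=
    Module.nontrivial_of_finrank_pos (R := K) (by rw [Module.finrank_baseChange]; exact Module.finrank_pos)
  let ρK : Γ →* Module.End K (TensorProduct k K V) :=
    { toFun := fun g => (ρ g).baseChange K
      map_one' := by rw [map_one]; exact LinearMap.baseChange_one k V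
      map_mul' := fun a b => by rw [map_mul]; exact LinearMap.baseChange_mul _ _ }
  have hρK : ∀ g, IsNilpotent (ρK g - 1) := by
    intro g
    obtain ⟨m, hm⟩ := hρ g
    refine ⟨m, ?_⟩
    change ((ρ g).baseChange K - 1) ^ m = 0
    rw [← LinearMap.baseChange_one, ← LinearMap.baseChange_sub, ← LinearMap.baseChange_pow, hm,
      LinearMap.baseChange_zero]
  obtain ⟨z, hz0, hz⟩ := exists_fixed_of_unipotent_algClosed ρK hρK
  have hinj : Function.Injective (T.lTensor K) :=
    Module.Flat.lTensor_preserves_injective_linearMap _ (LinearMap.ker_eq_bot.1 hT)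
  refine hz0 (hinj ?_)
  rw [map_zero]
  apply (TensorProduct.piRight k k K (fun _ : s => V)).injective
  rw [map_zero]
  funext g
  have h := hz g
  change (ρ (g : Γ)).baseChange K z = z at h
  have e : ∀ y, TensorProduct.piRight k k K (fun _ : s => V) (T.lTensor K y) g =
      (ρ (g : Γ)).baseChange K y - y := by
    intro y
    induction y using TensorProduct.induction_on with
    | zero => simp
    | tmul a b => simp [T, TensorProduct.tmul_sub]
    | add a b ha hb => simp only [map_add, Pi.add_apply, ha, hb]; abel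
  rw [e, h, sub_self]
  rfl

end Groth.ComodLib
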