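import Groth.Agent.Sga3.HopfDerivRank
import Mathlib.Logic.Small.Basic
import Mathlib.Algebra.Ring.Shrink
import Mathlib.Algebra.Algebra.Shrink

/-!
# Finite local Hopf algebras over a field
-/

set_option autoImplicit false

universe u v

open TensorProduct Groth.Sga3.HopfDeriv

noncomputable section

namespace Groth.ComodLib.LocalHopf

variable {k : Type u} [Field k] {A : Type v} [CommRing A] [Bialgebra k A]

/-- the augmentation ideal is nil for a local finite algebra -/
theorem nil_of_isLocalRing [Module.Finite k A] [IsLocalRing A] (a : A)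
    (ha : Bialgebra.counitAlgHom k A a = 0) : IsNilpotent a := by
  have : IsArtinianRing A := IsArtinianRing.of_finite k A
  have hmax : (RingHom.ker (Bialgebra.counitAlgHom k A)).IsMaximal :=
    RingHom.ker_isMaximal_of_surjective _ fun c => ⟨algebraMap k A c, AlgHom.commutes _ c⟩
  obtain ⟨N, hN⟩ := IsArtinianRing.isNilpotent_jacobson_bot (R := A)
  refine ⟨N, ?_⟩
  have h : a ∈ Ideal.jacobson (⊥ : Ideal A) := by
    rw [IsLocalRing.jacobson_eq_maximalIdeal ⊥ bot_ne_top, ← IsLocalRing.eq_maximalIdeal hmax]
    exact ha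
  have h2 := Ideal.pow_mem_pow h N
  rw [hN] at h2
  simpa using h2

theorem small_of_finite [Module.Finite k A] : Small.{u} A :=
  small_of_injective (Module.finBasis k A).equivFun.injective

/-- transport to the universe of the field -/
theorem exists_shrink [Module.Finite k A] (hnil : ∀ a, Bialgebra.counitAlgHom k A a = 0 → IsNilpotent a) :
    ∃ (L : Type u) (_ : CommRing L) (_ : Algebra k L) (_ : Module.Finite k L) (e : A ≃ₐ[k] L) (S : CounitalLocal k L),
      ∀ a, S.ε (e a) = Bialgebra.counitAlgHom k A a := by
  have := small_of_finite (k := k) (A := A)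
  let e : A ≃ₐ[k] Shrink.{u} A := (Shrink.algEquiv k A).symm
  refine ⟨Shrink.{u} A, inferInstance, inferInstance, Module.Finite.equiv e.toLinearEquiv, e,
    { ε := (Bialgebra.counitAlgHom k A).comp e.symm.toAlgHom
      Δ := (Algebra.TensorProduct.map e.toAlgHom e.toAlgHom).comp
        ((Bialgebra.comulAlgHom k A).comp e.symm.toAlgHom)
      hr := fun a => ?_
      hl := fun a => ?_
      nil := fun a ha => ?_ }, fun a => by simp⟩
  · have key : ∀ z : A ⊗[k] A, TensorProduct.rid k _ (LinearMap.lTensor _
        ((Bialgebra.counitAlgHom k A).comp e.symm.toAlgHom).toLinearMap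
        (Algebra.TensorProduct.map e.toAlgHom e.toAlgHom z)) =
        e (TensorProduct.rid k A (LinearMap.lTensor A (Coalgebra.counit (R := k)) z)) := by
      intro z
      induction z using TensorProduct.induction_on with
      | zero => simp
      | tmul x y => simp
      | add x y hx hy => simp only [map_add, hx, hy]
    refine (key _).trans ?_
    simp
  · have key : ∀ z : A ⊗[k] A, TensorProduct.lid k _ (LinearMap.rTensor _
        ((Bialgebra.counitAlgHom k A).comp e.symm.toAlgHom).toLinearMap
        (Algebra.TensorProduct.map e.toAlgHom e.toAlgHom z)) =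
        e (TensorProduct.lid k A (LinearMap.rTensor A (Coalgebra.counit (R := k)) z)) := by
      intro z
      induction z using TensorProduct.induction_on with
      | zero => simp
      | tmul x y => simp
      | add x y hx hy => simp only [map_add, hx, hy]
    refine (key _).trans ?_
    simp
  · simpa using (hnil _ ha).map e

theorem exists_finrank_eq_pow [Module.Finite k A] [PerfectField k] (p : ℕ) [Fact p.Prime] [CharP k p]
    (hnil : ∀ a, Bialgebra.counitAlgHom k A a = 0 → IsNilpotent a) : ∃ m, Module.finrank k A = p ^ m := by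
  obtain ⟨L, _, _, _, e, S, -⟩ := exists_shrink (k := k) (A := A) hnil
  rw [e.toLinearEquiv.finrank_eq]
  exact S.exists_finrank_eq_pow p

theorem finrank_eq_one_of_charZero [Module.Finite k A] [CharZero k]
    (hnil : ∀ a, Bialgebra.counitAlgHom k A a = 0 → IsNilpotent a) : Module.finrank k A = 1 := by
  obtain ⟨L, _, _, _, e, S, -⟩ := exists_shrink (k := k) (A := A) hnil
  rw [e.toLinearEquiv.finrank_eq]
  exact S.finrank_eq_one S.m_eq_bot_of_charZero

/-- coordinates with dual derivations -/
theorem exists_coordinates [Module.Finite k A]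
    (hnil : ∀ a, Bialgebra.counitAlgHom k A a = 0 → IsNilpotent a) :
    ∃ (d : ℕ) (x : Fin d → A) (D : Fin d → Derivation k A A),
      Ideal.span (Set.range x) = RingHom.ker (Bialgebra.counitAlgHom k A) ∧
      (∀ i j, D i (x j) = if i = j then 1 else 0) ∧
      ∀ (p : ℕ) [Fact p.Prime] [CharP k p], (∀ a, Bialgebra.counitAlgHom k A a = 0 → a ^ p = 0) →
        Module.finrank k A = p ^ d := by
  obtain ⟨L, _, _, _, e, S, hS⟩ := exists_shrink (k := k) (A := A) hnil
  obtain ⟨d, x, D, -, hx, hD⟩ := S.exists_coordinates
  refine ⟨d, fun i => e.symm (x i), fun i => Derivation.mk'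
    (e.symm.toLinearMap ∘ₗ (D i).toLinearMap ∘ₗ e.toLinearMap) (fun a b => by simp [mul_comm]), ?_,
    fun i j => ?_, fun p _ _ hp => ?_⟩
  · have h1 : S.m.map (e.symm : L ≃+* A).toRingHom = RingHom.ker (Bialgebra.counitAlgHom k A) := by
      refine le_antisymm (Ideal.map_le_iff_le_comap.2 fun a ha => ?_) fun a ha => ?_
      · have h := hS (e.symm a)
        rw [AlgEquiv.apply_symm_apply, S.mem_m.1 ha] at h
        exact h.symm
      · have h2 : e a ∈ S.m := S.mem_m.2 ((hS a).trans ha)
        have h3 := Ideal.mem_map_of_mem (e.symm : L ≃+* A).toRingHom h2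
        simpa using h3
    rw [← h1, ← hx, Ideal.map_span, ← Set.range_comp]
    rfl
  · change e.symm (D i (e (e.symm (x j)))) = _
    rw [AlgEquiv.apply_symm_apply, hD]
    split_ifs <;> simp
  · rw [e.toLinearEquiv.finrank_eq]
    obtain ⟨hli, hsp⟩ := S.linearIndependent_and_span_height_one p (fun a ha => by
      have h := hp (e.symm a) (by rw [← hS, AlgEquiv.apply_symm_apply]; exact ha)
      simpa using congrArg e h) hx hD
    rw [Module.finrank_eq_card_basis (Module.Basis.mk hli hsp.ge), Fintype.card_fun, Fintype.card_fin, Fintype.card_fin]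

/-- the cotangent space at the origin has a basis given by coordinates with dual derivations -/
theorem finrank_cotangent {d : ℕ} (x : Fin d → A) (D : Fin d → Derivation k A A)
    (hx : Ideal.span (Set.range x) = RingHom.ker (Bialgebra.counitAlgHom k A))
    (hD : ∀ i j, D i (x j) = if i = j then 1 else 0) :
    Module.finrank k (RingHom.ker (Bialgebra.counitAlgHom k A)).Cotangent = d := by
  classical
  generalize hm : RingHom.ker (Bialgebra.counitAlgHom k A) = m at hx ⊢
  let c : Fin d → m.Cotangent := fun i => m.toCotangent ⟨x i, hx ▸ Ideal.subset_span ⟨i, rfl⟩⟩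
  have hεD : ∀ (i : Fin d) (a : A), a ∈ m ^ 2 → Bialgebra.counitAlgHom k A (D i a) = 0 := by
    intro i a ha
    rw [pow_two] at ha
    induction ha using Submodule.mul_induction_on' with
    | mem_mul_mem y hy z hz =>
      rw [← hm] at hy hz
      rw [Derivation.leibniz, map_add, smul_eq_mul, smul_eq_mul, map_mul, map_mul, RingHom.mem_ker.1 hy,
        RingHom.mem_ker.1 hz, zero_mul, zero_mul, add_zero]
    | add y _ z _ hy hz => rw [map_add, map_add, hy, hz, add_zero]
  have hli : LinearIndependent k c := by
    rw [Fintype.linearIndependent_iff]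
    intro g hg i
    have hm' : (∑ j, g j • x j) ∈ m ^ 2 := by
      have h1 : ∑ j, g j • c j = m.toCotangent (∑ j, g j • ⟨x j, hx ▸ Ideal.subset_span ⟨j, rfl⟩⟩) := by
        rw [map_sum]
        exact Finset.sum_congr rfl fun j _ => (LinearMap.map_smul_of_tower m.toCotangent (g j) _).symm
      rw [h1, Ideal.toCotangent_eq_zero] at hg
      simpa using hg
    have h := hεD i _ hm'
    simpa [map_sum, hD, Finset.sum_ite_eq, mul_ite] using h
  have hsp : ⊤ ≤ Submodule.span k (Set.range c) := by
    rintro v -
    obtain ⟨⟨a, ha⟩, rfl⟩ := m.toCotangent_surjective v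
    have hsum : a ∈ Submodule.span A (Set.range x) := by change a ∈ Ideal.span _; rw [hx]; exact ha
    obtain ⟨r, hr⟩ := (Submodule.mem_span_range_iff_exists_fun A).1 hsum
    have he : m.toCotangent ⟨a, ha⟩ = ∑ j, Bialgebra.counitAlgHom k A (r j) • c j := by
      rw [← sub_eq_zero]
      have h1 : ∑ j, Bialgebra.counitAlgHom k A (r j) • c j =
          m.toCotangent (∑ j, Bialgebra.counitAlgHom k A (r j) • ⟨x j, hx ▸ Ideal.subset_span ⟨j, rfl⟩⟩) := by
        rw [map_sum]
        exact Finset.sum_congr rfl fun j _ => (LinearMap.map_smul_of_tower m.toCotangent _ _).symm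
      rw [h1, ← map_sub, Ideal.toCotangent_eq_zero]
      simp only [AddSubgroupClass.coe_sub, Submodule.coe_sum, Submodule.coe_smul_of_tower]
      rw [← hr, ← Finset.sum_sub_distrib, pow_two]
      refine sum_mem fun j _ => ?_
      rw [smul_eq_mul, Algebra.smul_def, ← sub_mul]
      refine Ideal.mul_mem_mul ?_ (hx ▸ Ideal.subset_span ⟨j, rfl⟩)
      rw [← hm, RingHom.mem_ker, map_sub, AlgHom.commutes]
      simp
    rw [he]
    exact Submodule.sum_mem _ fun j _ => Submodule.smul_mem _ _ (Submodule.subset_span ⟨j, rfl⟩)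
  rw [Module.finrank_eq_card_basis (Module.Basis.mk hli hsp), Fintype.card_fin]

end Groth.ComodLib.LocalHopf
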