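import Groth.Prelude.Def_ConstGrp
import Groth.Prelude.Def_AlphaP
import Mathlib.RingTheory.HopfAlgebra.MonoidAlgebra
import Mathlib.Algebra.DualNumber
import Mathlib.Algebra.CharP.Algebra
import Mathlib.Algebra.Field.ZMod

/-!
Elementary facts on `μ_p`, `α_p` and the constant group `ℤ/p` in characteristic `p`.
-/

universe u v

open TensorProduct

namespace Groth.ComodLib

variable {p : ℕ} [hp : Fact p.Prime] {R : Type u} [CommRing R] [CharP R p]

theorem add_pow_char' {B : Type v} [CommRing B] [Algebra R B] (a b : B) :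
    (a + b) ^ p = a ^ p + b ^ p := by
  obtain ⟨r, hr⟩ := (Commute.all a b).exists_add_pow_prime_eq hp.out
  rw [hr, AlphaP.natCast_eq_zero p R B, zero_mul, zero_mul, zero_mul, add_zero]

theorem pow_char_mem_range_monoidAlgebra {G : Type v} [CommMonoid G] (hG : ∀ g : G, g ^ p = 1)
    (y : MonoidAlgebra R G) : y ^ p ∈ Set.range (algebraMap R (MonoidAlgebra R G)) := by
  induction y using MonoidAlgebra.induction_linear with
  | zero => exact ⟨0, by rw [map_zero, zero_pow hp.out.ne_zero]⟩
  | add f g hf hg =>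
    obtain ⟨a, ha⟩ := hf
    obtain ⟨b, hb⟩ := hg
    exact ⟨a + b, by rw [map_add, ha, hb, add_pow_char' (R := R)]⟩
  | single g r => exact ⟨r ^ p, by simp [MonoidAlgebra.single_pow, hG]⟩

theorem pow_char_mem_range_alphaP (y : AlphaP.A p R) :
    y ^ p ∈ Set.range (algebraMap R (AlphaP.A p R)) := by
  obtain ⟨f, rfl⟩ := AlphaP.mk_surjective p R y
  induction f using Polynomial.induction_on' with
  | add f g hf hg =>
    obtain ⟨a, ha⟩ := hf
    obtain ⟨b, hb⟩ := hg
    exact ⟨a + b, by rw [map_add, map_add, ha, hb, add_pow_char' (R := R)]⟩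
  | monomial n r =>
    rw [← AlphaP.aeval_x, Polynomial.aeval_monomial, mul_pow, ← map_pow, ← pow_mul]
    rcases n with - | n
    · exact ⟨r ^ p, by simp⟩
    · refine ⟨0, ?_⟩
      rw [AlphaP.x_pow_of_le p R (Nat.le_mul_of_pos_left p (Nat.succ_pos n)), mul_zero, map_zero]

/-- The constant group `G ≠ 1` is not isomorphic to an algebra all of whose `p`-th powers are scalars. -/
theorem isEmpty_constGrp_equiv {G : Type v} [Group G] [Fintype G] [DecidableEq G] {g₀ : G}
    (hg₀ : g₀ ≠ 1) {B : Type*} [CommRing B] [Bialgebra R B]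
    (hB : ∀ y : B, y ^ p ∈ Set.range (algebraMap R B)) :
    IsEmpty (ConstGrp.F R G ≃ₐc[R] B) := by
  have : Nontrivial R := CharP.nontrivial_of_char_ne_one hp.out.ne_one
  constructor
  intro e
  obtain ⟨c, hc⟩ := hB (e (ConstGrp.e R g₀))
  have hid : IsIdempotentElem (ConstGrp.e R g₀) := by
    rw [IsIdempotentElem, ConstGrp.e_mul_e, if_pos rfl]
  obtain ⟨m, hm⟩ := Nat.exists_eq_succ_of_ne_zero hp.out.ne_zero
  rw [← map_pow, hm, hid.pow_succ_eq] at hc
  have h : ConstGrp.e R g₀ = algebraMap R (ConstGrp.F R G) c :=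
    e.injective (hc.symm.trans (AlgHomClass.commutes e c).symm)
  have h1 := congrFun h g₀
  have h2 := congrFun h 1
  rw [ConstGrp.e_apply_self] at h1
  rw [ConstGrp.e_apply_of_ne (Ne.symm hg₀)] at h2
  exact one_ne_zero (h1.trans h2.symm)

omit hp [CharP R p] in
/-- The group algebra has no nonzero primitive element. -/
theorem primitive_eq_zero_monoidAlgebra {G : Type v} [Monoid G] {y : MonoidAlgebra R G}
    (hy : Coalgebra.comul (R := R) y = y ⊗ₜ[R] 1 + 1 ⊗ₜ[R] y) : y = 0 := by
  classical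
  have hc : ∀ a : G, LinearMap.mul' R R ∘ₗ TensorProduct.map
      (Finsupp.lapply a ∘ₗ (MonoidAlgebra.coeffLinearEquiv R).toLinearMap)
      (Finsupp.lapply a ∘ₗ (MonoidAlgebra.coeffLinearEquiv R).toLinearMap) ∘ₗ Coalgebra.comul =
      Finsupp.lapply a ∘ₗ (MonoidAlgebra.coeffLinearEquiv R (M := G)).toLinearMap := by
    intro a
    ext g
    simp [Finsupp.single_apply]
    try (intro h1 h2; exact absurd h2 h1)
  ext a
  have h := LinearMap.congr_fun (hc a) y
  simp only [LinearMap.coe_comp, Function.comp_apply, hy, map_add, TensorProduct.map_tmul,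
    LinearMap.mul'_apply] at h
  by_cases ha : a = 1
  · subst ha
    simpa [MonoidAlgebra.one_def] using h
  · simpa [MonoidAlgebra.one_def, Finsupp.single_apply, Ne.symm ha] using h.symm

theorem x_ne_zero : AlphaP.x p R ≠ 0 := by
  have : Nontrivial R := CharP.nontrivial_of_char_ne_one hp.out.ne_one
  have h := (AlphaP.basis p R).ne_zero ⟨1, hp.out.one_lt⟩
  simpa using h

/-- Primitive elements of `α_p` are the multiples of `x`. -/
theorem primitive_alphaP {y : AlphaP.A p R}
    (hy : Coalgebra.comul (R := R) y = y ⊗ₜ[R] 1 + 1 ⊗ₜ[R] y) :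
    ∃ c : R, y = c • AlphaP.x p R := by
  classical
  have : Nontrivial R := CharP.nontrivial_of_char_ne_one hp.out.ne_one
  let b := AlphaP.basis p R
  have heps : (DualNumber.eps : DualNumber (AlphaP.A p R)) ^ p = 0 := by
    exact pow_eq_zero_of_le hp.out.two_le DualNumber.eps_pow_two
  let ι : (AlphaP.A p R) →ₐ[R] DualNumber (AlphaP.A p R) := AlphaP.lift p R DualNumber.eps heps
  let j : (AlphaP.A p R) →ₐ[R] DualNumber (AlphaP.A p R) := TrivSqZeroExt.inlAlgHom R (AlphaP.A p R) (AlphaP.A p R)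
  let Φ : (AlphaP.A p R) ⊗[R] (AlphaP.A p R) →ₐ[R] DualNumber (AlphaP.A p R) := Algebra.TensorProduct.lift j ι fun _ _ => Commute.all _ _
  have hΦ : Φ.comp (AlphaP.comulAlg p R) (y) = j y + ι y := by
    show Φ (Coalgebra.comul (R := R) y) = _
    rw [hy, map_add, Algebra.TensorProduct.lift_tmul, Algebra.TensorProduct.lift_tmul]
    simp
  have hpow : ∀ n : ℕ, TrivSqZeroExt.snd (Φ.comp (AlphaP.comulAlg p R) (AlphaP.x p R ^ n)) =
      n • AlphaP.x p R ^ (n - 1) := by
    intro n
    have hx : Φ.comp (AlphaP.comulAlg p R) (AlphaP.x p R) = j (AlphaP.x p R) + DualNumber.eps := by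
      simp [Φ, ι, j]
    rw [map_pow, hx, TrivSqZeroExt.snd_pow]
    simp [j, Nat.pred_eq_sub_one]
  have hι : ∀ n : ℕ, TrivSqZeroExt.snd (ι (AlphaP.x p R ^ n)) = if n = 1 then 1 else 0 := by
    intro n
    rw [map_pow, AlphaP.lift_x, TrivSqZeroExt.snd_pow]
    rcases n with - | - | n <;> simp [zero_pow]
  have hsnd : ∑ i, b.repr y i • ((i : ℕ) • AlphaP.x p R ^ ((i : ℕ) - 1)) =
      b.repr y ⟨1, hp.out.one_lt⟩ • (1 : (AlphaP.A p R)) := by
    have h := congrArg TrivSqZeroExt.snd hΦ
    rw [TrivSqZeroExt.snd_add] at h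
    conv_lhs at h => rw [← b.sum_repr y]
    conv_rhs at h => rw [← b.sum_repr y]
    simp only [b, map_sum, map_smul, AlphaP.basis_apply, TrivSqZeroExt.snd_sum,
      TrivSqZeroExt.snd_smul, hpow, hι] at h
    simp only [j, TrivSqZeroExt.inlAlgHom_apply, TrivSqZeroExt.snd_inl, smul_zero,
      Finset.sum_const_zero, zero_add] at h
    simp only [b] at h ⊢
    rw [h, Finset.sum_eq_single ⟨1, hp.out.one_lt⟩]
    · simp
    · intro i _ hi
      have : (i : ℕ) ≠ 1 := fun e => hi (Fin.ext e)
      simp [this]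
    · simp
  have hhigh : ∀ i : Fin p, 2 ≤ (i : ℕ) → b.repr y i = 0 := by
    intro i hi
    let k : Fin p := ⟨(i : ℕ) - 1, by omega⟩
    have h := congrArg (fun z => b.repr z k) hsnd
    simp only [map_sum, map_smul, map_nsmul, Finsupp.coe_finsetSum, Finset.sum_apply,
      Finsupp.coe_smul, Pi.smul_apply] at h
    have hk0 : b.repr (1 : (AlphaP.A p R)) k = 0 := by
      have e : (1 : (AlphaP.A p R)) = b ⟨0, hp.out.pos⟩ := by simp [b]
      rw [e, b.repr_self, Finsupp.single_apply, if_neg]
      intro hk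
      have := congrArg Fin.val hk
      simp [k] at this
      omega
    rw [hk0, smul_zero, Finset.sum_eq_single i] at h
    · have e : AlphaP.x p R ^ ((i : ℕ) - 1) = b k := by simp [b, k]
      rw [e, b.repr_self, Finsupp.single_eq_same, nsmul_eq_mul, mul_one, smul_eq_mul,
        mul_comm] at h
      have hu : IsUnit ((i : ℕ) : R) := by
        have h0 : ((i : ℕ) : ZMod p) ≠ 0 := by
          rw [Ne, ZMod.natCast_eq_zero_iff]
          exact Nat.not_dvd_of_pos_of_lt (by omega) i.isLt
        have h2 := (isUnit_iff_ne_zero.mpr h0).map (ZMod.castHom dvd_rfl R)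
        rwa [map_natCast] at h2
      exact hu.mul_right_eq_zero.mp h
    · intro l _ hl
      rcases Nat.eq_zero_or_pos (l : ℕ) with h0 | h0
      · simp [h0]
      · have e : AlphaP.x p R ^ ((l : ℕ) - 1) = b ⟨(l : ℕ) - 1, by omega⟩ := by simp [b]
        rw [e, b.repr_self, Finsupp.single_apply, if_neg, smul_zero, smul_zero]
        intro hlk
        have := congrArg Fin.val hlk
        simp [k] at this
        exact hl (Fin.ext (by omega))
    · simp
  have hzero : b.repr y ⟨0, hp.out.pos⟩ = 0 := by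
    have hε : Coalgebra.counit (R := R) y = 0 := by
      have h := congrArg (TensorProduct.lid R (AlphaP.A p R) ∘ (Coalgebra.counit (R := R)).rTensor (AlphaP.A p R)) hy
      simp only [Function.comp_apply, Coalgebra.rTensor_counit_comul, TensorProduct.lid_tmul,
        one_smul, map_add, LinearMap.rTensor_tmul, Bialgebra.counit_one] at h
      have h' : (Coalgebra.counit (R := R) y) • (1 : (AlphaP.A p R)) = 0 := by simpa using h
      have := congrArg (Coalgebra.counit (R := R)) h'
      simpa using this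
    rw [← b.sum_repr y, map_sum, Finset.sum_eq_single ⟨0, hp.out.pos⟩] at hε
    · simpa [b] using hε
    · intro i _ hi
      have : (i : ℕ) ≠ 0 := fun e => hi (Fin.ext e)
      simp [b, zero_pow this]
    · simp
  refine ⟨b.repr y ⟨1, hp.out.one_lt⟩, ?_⟩
  conv_lhs => rw [← b.sum_repr y]
  rw [Finset.sum_eq_single ⟨1, hp.out.one_lt⟩]
  · simp [b]
  · intro i _ hi
    have h1 : (i : ℕ) ≠ 1 := fun e => hi (Fin.ext e)
    rcases Nat.eq_zero_or_pos (i : ℕ) with h0 | h0
    · rw [show i = ⟨0, hp.out.pos⟩ from Fin.ext h0, hzero, zero_smul]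
    · rw [hhigh i (by omega), zero_smul]
  · simp

end Groth.ComodLib
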