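import Groth.Prelude.Def_CartDual
import Groth.Agent.Hopf.SmallGroups
import Mathlib.RingTheory.Bialgebra.Equiv
import Mathlib.Data.Nat.Factorial.Basic
import Mathlib.Data.Nat.Prime.Factorial

/-!
`α_p` is Cartier self-dual.
-/

universe u

open TensorProduct WithConv

namespace Groth.ComodLib

variable (p : ℕ) [hp : Fact p.Prime] (R : Type u) [CommRing R] [CharP R p]

theorem dn_eps_pow : (DualNumber.eps : DualNumber R) ^ p = 0 :=
  pow_eq_zero_of_le hp.out.two_le DualNumber.eps_pow_two

/-- The functional dual to `x`. -/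
noncomputable def alphaDualGen : CartDual.D R (AlphaP.A p R) :=
  toConv (TrivSqZeroExt.sndHom R R ∘ₗ (AlphaP.lift p R (DualNumber.eps : DualNumber R)
    (dn_eps_pow p R)).toLinearMap)

theorem alphaDualGen_pow (m : ℕ) :
    (alphaDualGen p R).ofConv (AlphaP.x p R ^ m) = if m = 1 then 1 else 0 := by
  show TrivSqZeroExt.snd (AlphaP.lift p R (DualNumber.eps : DualNumber R) (dn_eps_pow p R) (AlphaP.x p R ^ m)) = _
  rw [map_pow, AlphaP.lift_x, TrivSqZeroExt.snd_pow]
  rcases m with - | - | m <;> simp

theorem alphaDualGen_leibniz (a b : AlphaP.A p R) :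
    (alphaDualGen p R).ofConv (a * b) = Coalgebra.counit (R := R) a * (alphaDualGen p R).ofConv b +
      Coalgebra.counit (R := R) b * (alphaDualGen p R).ofConv a := by
  have hfst : ∀ c, TrivSqZeroExt.fst (AlphaP.lift p R (DualNumber.eps : DualNumber R)
      (dn_eps_pow p R) c) = Coalgebra.counit (R := R) c := by
    intro c
    show _ = AlphaP.counitAlg p R c
    refine DFunLike.congr_fun (AlphaP.algHom_ext (f := (TrivSqZeroExt.fstHom R R R).comp
      (AlphaP.lift p R (DualNumber.eps : DualNumber R) (dn_eps_pow p R))) (g := AlphaP.counitAlg p R) ?_) c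
    simp
  show TrivSqZeroExt.snd (AlphaP.lift p R (DualNumber.eps : DualNumber R) (dn_eps_pow p R) (a * b)) = _
  rw [map_mul, TrivSqZeroExt.snd_mul, hfst, hfst]
  simp [alphaDualGen, mul_comm]

theorem alphaDualGen_mul (φ : CartDual.D R (AlphaP.A p R)) (m : ℕ) :
    (φ * alphaDualGen p R).ofConv (AlphaP.x p R ^ m) = m • φ.ofConv (AlphaP.x p R ^ (m - 1)) := by
  rw [LinearMap.convMul_apply]
  have hc : Coalgebra.comul (R := R) (AlphaP.x p R ^ m) =
      (AlphaP.x p R ⊗ₜ[R] 1 + 1 ⊗ₜ[R] AlphaP.x p R) ^ m := by
    rw [← AlphaP.comul_x]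
    exact Bialgebra.comul_pow _ _
  rw [hc, add_pow, map_sum, map_sum]
  rw [Finset.sum_eq_single (m - 1)]
  · rcases m with - | m
    · have := alphaDualGen_pow p R 0
      simp at this
      simp [Algebra.TensorProduct.one_def, this]
    · rw [Algebra.TensorProduct.tmul_pow, Algebra.TensorProduct.tmul_pow,
        Algebra.TensorProduct.tmul_mul_tmul, ← nsmul_eq_mul', map_nsmul, map_nsmul,
        TensorProduct.map_tmul, LinearMap.mul'_apply]
      simp only [Nat.add_sub_cancel, one_pow, mul_one, one_mul, Nat.add_sub_cancel_left,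
        alphaDualGen_pow, if_true, Nat.choose_succ_self_right, nsmul_eq_mul]
  · intro j hj hne
    rw [Algebra.TensorProduct.tmul_pow, Algebra.TensorProduct.tmul_pow,
      Algebra.TensorProduct.tmul_mul_tmul, ← nsmul_eq_mul', map_nsmul, map_nsmul,
      TensorProduct.map_tmul, LinearMap.mul'_apply]
    simp only [one_pow, one_mul, mul_one, alphaDualGen_pow]
    rw [if_neg (by have := Finset.mem_range.mp hj; omega), mul_zero, smul_zero]
  · intro h
    exact absurd (Finset.mem_range.mpr (by omega)) h

theorem alphaDualGen_pow_apply (n m : ℕ) (hm : m < p) :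
    (alphaDualGen p R ^ n).ofConv (AlphaP.x p R ^ m) = if n = m then (n.factorial : R) else 0 := by
  induction n generalizing m with
  | zero =>
    rw [pow_zero, LinearMap.convOne_def]
    rcases m with - | m <;> simp
  | succ n ih =>
    rw [pow_succ, alphaDualGen_mul, ih (m - 1) (by omega)]
    rcases m with - | m
    · simp
    · simp only [Nat.add_sub_cancel, add_left_inj]
      split_ifs with h
      · subst h
        simp [Nat.factorial_succ]
      · simp

theorem alphaDualGen_pow_self : alphaDualGen p R ^ p = 0 := by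
  have : Nontrivial R := CharP.nontrivial_of_char_ne_one hp.out.ne_one
  apply WithConv.ext
  refine (AlphaP.basis p R).ext fun i => ?_
  rw [AlphaP.basis_apply, alphaDualGen_pow_apply p R p i i.isLt,
    if_neg (by have := i.isLt; omega)]
  rfl

/-- The map `α_p → α_p^D`. -/
noncomputable def alphaDualFun : AlphaP.A p R →ₐ[R] CartDual.D R (AlphaP.A p R) :=
  AlphaP.lift p R (alphaDualGen p R) (alphaDualGen_pow_self p R)

theorem alphaDualFun_bijective : Function.Bijective (alphaDualFun p R) := by
  have : Nontrivial R := CharP.nontrivial_of_char_ne_one hp.out.ne_one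
  have hu : ∀ i : Fin p, IsUnit (((i : ℕ).factorial : ℕ) : R) := by
    intro i
    have h0 : (((i : ℕ).factorial : ℕ) : ZMod p) ≠ 0 := by
      rw [Ne, ZMod.natCast_eq_zero_iff, hp.out.dvd_factorial]
      have := i.isLt
      omega
    have h2 := (isUnit_iff_ne_zero.mpr h0).map (ZMod.castHom dvd_rfl R)
    rwa [map_natCast] at h2
  let b := AlphaP.basis p R
  let c : Module.Basis (Fin p) R (CartDual.D R (AlphaP.A p R)) :=
    (b.dualBasis.map (CartDual.toDual R (AlphaP.A p R)).symm).isUnitSMul hu
  have he : (alphaDualFun p R).toLinearMap = (b.equiv c (Equiv.refl _)).toLinearMap := by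
    refine b.ext fun i => ?_
    apply WithConv.ext
    refine b.ext fun j => ?_
    simp only [AlgHom.toLinearMap_apply, LinearEquiv.coe_coe, Module.Basis.equiv_apply, Equiv.refl_apply]
    simp only [b, AlphaP.basis_apply, alphaDualFun, map_pow, AlphaP.lift_x]
    rw [alphaDualGen_pow_apply p R i j j.isLt]
    simp only [c, b, Module.Basis.isUnitSMul_apply, Module.Basis.map_apply]
    show _ = ((i : ℕ).factorial : R) * (AlphaP.basis p R).dualBasis i (AlphaP.x p R ^ (j : ℕ))
    rw [← AlphaP.basis_apply, Module.Basis.dualBasis_apply, Module.Basis.repr_self,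
      Finsupp.single_apply]
    simp [Fin.ext_iff, eq_comm]
  show Function.Bijective (alphaDualFun p R).toLinearMap
  rw [he]
  exact (b.equiv c (Equiv.refl _)).bijective

/-- `α_p` is its own Cartier dual. -/
noncomputable def alphaDualEquiv : AlphaP.A p R ≃ₐc[R] CartDual.D R (AlphaP.A p R) :=
  BialgEquiv.ofBijective (BialgHom.ofAlgHom (alphaDualFun p R)
    (by
      apply AlphaP.algHom_ext
      simp [alphaDualFun]
      simpa using alphaDualGen_pow p R 0)
    (by
      apply AlphaP.algHom_ext
      apply (CartDual.ev₂ R (AlphaP.A p R)).injective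
      apply TensorProduct.ext'
      intro a b
      simp [alphaDualFun, LinearMap.convOne_def, alphaDualGen_leibniz]
      ring)) (alphaDualFun_bijective p R)

end Groth.ComodLib
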