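import Groth.Agent.Hopf.Coeff
import Groth.Prelude.Def_W4c6stackyreslrsPsRefl

/-!
# The stabiliser of a vector is a closed subgroup scheme
-/

set_option autoImplicit false
set_option linter.unusedSectionVars false

universe u v w

open TensorProduct

noncomputable section

namespace Groth.ComodLib

section Span

variable {k : Type u} [CommRing k] {A : Type v} [CommRing A] [HopfAlgebra k A]

/-- a criterion for an ideal given by generators to be a Hopf ideal -/
theorem isHopfIdeal_span {S : Set A} (h1 : ∀ c ∈ S, Coalgebra.counit (R := k) c = 0)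
    (h2 : ∀ c ∈ S, Algebra.TensorProduct.map (Ideal.Quotient.mkₐ k (Ideal.span S))
      (Ideal.Quotient.mkₐ k (Ideal.span S)) (Coalgebra.comul (R := k) c) = 0)
    (h3 : ∀ c ∈ S, HopfAlgebraStruct.antipode k c ∈ Ideal.span S) :
    (Ideal.span S).IsHopfIdeal k := by
  refine { counit_eq_zero := fun x hx => ?_, map_mkQ_comul_eq_zero := fun x hx => ?_,
           antipode_mem := fun x hx => ?_ }
  · have h : Ideal.span S ≤ RingHom.ker (Bialgebra.counitAlgHom k A) := Ideal.span_le.2 h1
    exact h hx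
  · have h : Ideal.span S ≤ RingHom.ker ((Algebra.TensorProduct.map (Ideal.Quotient.mkₐ k (Ideal.span S))
        (Ideal.Quotient.mkₐ k (Ideal.span S))).comp (Bialgebra.comulAlgHom k A)) := Ideal.span_le.2 h2
    exact h hx
  · have h : Ideal.span S ≤ (Ideal.span S).comap (HopfAlgebra.antipodeAlgHom k A) := Ideal.span_le.2 h3
    exact h hx

end Span

variable {k : Type u} [Field k] {A : Type v} [CommRing A] [HopfAlgebra k A]
  {V : Type w} [AddCommGroup V] [Module k V] [HopfRep.Comod k A V]

variable (k A) in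
/-- the ideal of the stabiliser of a vector -/
def stabVec (f : V) : Ideal A :=
  Ideal.span (Set.range fun ψ : V →ₗ[k] k => cf (A := A) ψ f - ψ f • (1 : A))

theorem mem_quotInvariants_iff_stabVec_le (I : Ideal A) (f : V) :
    f ∈ GLin.quotInvariants k A V I ↔ stabVec k A f ≤ I := by
  rw [GLin.mem_quotInvariants_iff, stabVec, Ideal.span_le, Set.range_subset_iff, ← sub_eq_zero]
  have key : ∀ ψ : V →ₗ[k] k,
      lslice ψ (LinearMap.lTensor V (Ideal.Quotient.mkₐ k I).toLinearMap
        (HopfRep.Comod.coact (k := k) (A := A) f) - f ⊗ₜ[k] (1 : A ⧸ I)) =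
        Ideal.Quotient.mkₐ k I (cf (A := A) ψ f - ψ f • (1 : A)) := by
    intro ψ
    rw [map_sub, lslice_lTensor, lslice_tmul, map_sub, map_smul, map_one]
    rfl
  constructor
  · intro h ψ
    have h' := key ψ
    rw [h, map_zero, eq_comm, Ideal.Quotient.mkₐ_eq_mk, Ideal.Quotient.eq_zero_iff_mem] at h'
    exact h'
  · intro h
    refine eq_zero_of_lslice fun ψ => ?_
    rw [key, Ideal.Quotient.mkₐ_eq_mk, Ideal.Quotient.eq_zero_iff_mem]
    exact h ψ

theorem isHopfIdeal_stabVec (f : V) : (stabVec k A f).IsHopfIdeal k := by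
  set J := stabVec k A f with hJ
  have hf : LinearMap.lTensor V (Ideal.Quotient.mkₐ k J).toLinearMap
      (HopfRep.Comod.coact (k := k) (A := A) f) = f ⊗ₜ[k] 1 :=
    (mem_quotInvariants_iff_stabVec_le J f).2 le_rfl
  let mk : A →ₐ[k] A ⧸ J := Ideal.Quotient.mkₐ k J
  have hmem : ∀ ψ : V →ₗ[k] k, mk (cf (A := A) ψ f) = ψ f • 1 := by
    intro ψ
    rw [← map_one mk, ← map_smul, ← sub_eq_zero, ← map_sub]
    exact Ideal.Quotient.eq_zero_iff_mem.2 (Ideal.subset_span ⟨ψ, rfl⟩)
  have hc : ∀ (ψ : V →ₗ[k] k) {W : Type v} [AddCommGroup W] [Module k W] (g : A →ₗ[k] W),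
      TensorProduct.map g mk.toLinearMap (Coalgebra.comul (R := k) (cf (A := A) ψ f)) =
        g (cf (A := A) ψ f) ⊗ₜ[k] (1 : A ⧸ J) := by
    intro ψ W _ _ g
    rw [comul_cf, ← LinearMap.comp_apply (f := TensorProduct.map _ _), LinearMap.map_comp_rTensor,
      ← LinearMap.rTensor_comp_lTensor, LinearMap.comp_apply, hf, LinearMap.rTensor_tmul, LinearMap.comp_apply]
  refine isHopfIdeal_span ?_ ?_ ?_
  · rintro _ ⟨ψ, rfl⟩
    rw [map_sub, map_smul, Bialgebra.counit_one, apply_cf, op_counit, smul_eq_mul, mul_one, sub_self]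
  · rintro _ ⟨ψ, rfl⟩
    change TensorProduct.map mk.toLinearMap mk.toLinearMap
      (Coalgebra.comul (R := k) (cf (A := A) ψ f - ψ f • (1 : A))) = 0
    rw [map_sub, map_sub, hc, map_smul, map_smul, Bialgebra.comul_one, Algebra.TensorProduct.one_def,
      TensorProduct.map_tmul, AlgHom.toLinearMap_apply, AlgHom.toLinearMap_apply, hmem, map_one,
      TensorProduct.smul_tmul', sub_self]
  · rintro _ ⟨ψ, rfl⟩
    change HopfAlgebraStruct.antipode k (cf (A := A) ψ f - ψ f • (1 : A)) ∈ J
    rw [← Ideal.Quotient.eq_zero_iff_mem, map_sub, map_smul, HopfAlgebra.antipode_one, map_sub, sub_eq_zero]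
    let g : A →ₗ[k] A ⧸ J := mk.toLinearMap ∘ₗ HopfAlgebraStruct.antipode k
    have hmul : ∀ z : A ⊗[k] A, mk (LinearMap.mul' k A ((HopfAlgebraStruct.antipode k).rTensor A z)) =
        LinearMap.mul' k (A ⧸ J) (TensorProduct.map g mk.toLinearMap z) := by
      intro z
      induction z using TensorProduct.induction_on with
      | zero => simp
      | tmul p q => simp [g, mk]
      | add p q hp hq => simp only [map_add, hp, hq]
    have h := hmul (Coalgebra.comul (R := k) (cf (A := A) ψ f))
    rw [HopfAlgebra.mul_antipode_rTensor_comul_apply, hc, apply_cf, op_counit, LinearMap.mul'_apply,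
      mul_one, AlgHom.commutes, Algebra.algebraMap_eq_smul_one] at h
    change g (cf (A := A) ψ f) = mk (ψ f • (1 : A))
    rw [map_smul, map_one, h]

end Groth.ComodLib
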