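import Groth.Agent.Hopf.CharFun
import Mathlib.LinearAlgebra.Eigenspace.Triangularizable
import Mathlib.LinearAlgebra.Eigenspace.Charpoly
import Mathlib.RingTheory.MvPolynomial.Symmetric.NewtonIdentities
import Mathlib.RingTheory.MvPolynomial.Symmetric.FundamentalTheorem
import Mathlib.RingTheory.Jacobson.Ring
import Mathlib.FieldTheory.IsAlgClosed.Basic

/-!
# Eigenvalues of representations and integrality of characters
-/

set_option autoImplicit false
set_option linter.unusedSectionVars false

universe u v

open TensorProduct Matrix Module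

noncomputable section

namespace Groth.ComodLib

section GenEigen

variable {k : Type u} [Field k] {B : Type v} [CommRing B] [Algebra k B]

theorem mul_mem_maxGenEigenspace (T : B →ₐ[k] B) {μ ν : k} {x y : B}
    (hx : x ∈ Module.End.maxGenEigenspace T.toLinearMap μ)
    (hy : y ∈ Module.End.maxGenEigenspace T.toLinearMap ν) :
    x * y ∈ Module.End.maxGenEigenspace T.toLinearMap (μ * ν) := by
  rw [Module.End.mem_maxGenEigenspace] at hx hy ⊢
  obtain ⟨a, ha⟩ := hx
  obtain ⟨b, hb⟩ := hy
  refine ⟨a + b, ?_⟩
  suffices key : ∀ (N : ℕ) (x y : B) (a b : ℕ), a + b = N →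
      ((T.toLinearMap - μ • 1 : Module.End k B) ^ a) x = 0 →
      ((T.toLinearMap - ν • 1 : Module.End k B) ^ b) y = 0 →
      ((T.toLinearMap - (μ * ν) • 1 : Module.End k B) ^ N) (x * y) = 0 from key _ x y a b rfl ha hb
  clear ha hb a b x y
  intro N
  induction N with
  | zero =>
    intro x y a b hab ha hb
    obtain ⟨rfl, rfl⟩ : a = 0 ∧ b = 0 := by omega
    rw [pow_zero, Module.End.one_apply] at ha ⊢
    rw [ha, zero_mul]
  | succ N ih =>
    intro x y a b hab ha hb
    rcases Nat.eq_zero_or_pos a with rfl | ha0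
    · rw [pow_zero, Module.End.one_apply] at ha
      rw [ha, zero_mul, map_zero]
    rcases Nat.eq_zero_or_pos b with rfl | hb0
    · rw [pow_zero, Module.End.one_apply] at hb
      rw [hb, mul_zero, map_zero]
    obtain ⟨a, rfl⟩ := Nat.exists_eq_succ_of_ne_zero ha0.ne'
    obtain ⟨b, rfl⟩ := Nat.exists_eq_succ_of_ne_zero hb0.ne'
    rw [pow_succ, Module.End.mul_apply] at ha hb ⊢
    set Nx : Module.End k B := T.toLinearMap - μ • 1 with hNx
    set Ny : Module.End k B := T.toLinearMap - ν • 1 with hNy
    have hdec : (T.toLinearMap - (μ * ν) • 1 : Module.End k B) (x * y) = Nx x * T y + (μ • x) * Ny y := by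
      simp only [hNx, hNy, LinearMap.sub_apply, LinearMap.smul_apply, Module.End.one_apply,
        AlgHom.toLinearMap_apply, map_mul]
      simp only [Algebra.smul_def, map_mul]
      ring
    rw [hdec, map_add, ih (Nx x) (T y) a (b + 1) (by omega) ha ?_, ih (μ • x) (Ny y) (a + 1) b (by omega) ?_ hb,
      add_zero]
    · rw [pow_succ, Module.End.mul_apply, map_smul, map_smul, ha, smul_zero]
    · have hc : Commute T.toLinearMap (Ny ^ (b + 1)) :=
        Commute.pow_right ((Commute.refl _).sub_right ((Commute.one_right _).smul_right ν)) _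
      change (Ny ^ (b + 1)) (T.toLinearMap y) = 0
      rw [← Module.End.mul_apply, ← hc.eq, Module.End.mul_apply, pow_succ, Module.End.mul_apply, hb, map_zero]

theorem iSup_maxGenEigenspace_mul (T : B →ₐ[k] B) {O P : Type*} (c : O → k) (d : P → k) :
    (⨆ o, Module.End.maxGenEigenspace T.toLinearMap (c o)) *
        (⨆ p, Module.End.maxGenEigenspace T.toLinearMap (d p)) ≤
      ⨆ q : O × P, Module.End.maxGenEigenspace T.toLinearMap (c q.1 * d q.2) := by
  rw [Submodule.iSup_mul]
  refine iSup_le fun o => ?_
  rw [Submodule.mul_iSup]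
  refine iSup_le fun p => Submodule.mul_le.2 fun x hx y hy => ?_
  exact Submodule.mem_iSup_of_mem (o, p) (mul_mem_maxGenEigenspace T hx hy)

end GenEigen

section Points

variable {k : Type u} [Field k] [IsAlgClosed k] {B : Type v} [CommRing B] [Bialgebra k B]

/-- right translation by a point -/
def transl (h : B →ₐ[k] k) : B →ₐ[k] B :=
  (Algebra.TensorProduct.rid k k B).toAlgHom.comp
    ((Algebra.TensorProduct.map (AlgHom.id k B) h).comp (Bialgebra.comulAlgHom k B))

theorem transl_of_comul {ι : Type*} [Fintype ι] (h : B →ₐ[k] k) {a : B} (f g : ι → B)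
    (hd : Coalgebra.comul (R := k) a = ∑ l, f l ⊗ₜ[k] g l) : transl h a = ∑ l, h (g l) • f l := by
  change (Algebra.TensorProduct.rid k k B) (Algebra.TensorProduct.map (AlgHom.id k B) h
    (Coalgebra.comul (R := k) a)) = _
  rw [hd, map_sum, map_sum]
  simp

variable {ι : Type*} [Fintype ι] [DecidableEq ι] {M : Matrix ι ι B}

/-- the row map intertwines -/
def rowMap (M : Matrix ι ι B) (i : ι) : (ι → k) →ₗ[k] B := Fintype.linearCombination k (M i)

theorem transl_rowMap (hM : IsComultMat k M) (h : B →ₐ[k] k) (i : ι) (v : ι → k) :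
    transl h (rowMap M i v) = rowMap M i (Matrix.toLin' (M.map h) v) := by
  have h1 := ((isComultMat_iff M).1 hM).1
  simp only [rowMap, Fintype.linearCombination_apply, map_sum, map_smul, Matrix.toLin'_apply, Matrix.mulVec,
    dotProduct, Finset.sum_smul]
  rw [Finset.sum_comm]
  refine Finset.sum_congr rfl fun l _ => ?_
  rw [transl_of_comul h (fun m => M i m) (fun m => M m l) (h1 i l), Finset.smul_sum]
  refine Finset.sum_congr rfl fun m _ => ?_
  rw [smul_smul, Matrix.map_apply, mul_comm]

theorem map_rowMap_le (hM : IsComultMat k M) (h : B →ₐ[k] k) (i : ι) (μ : k) :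
    (Module.End.maxGenEigenspace (Matrix.toLin' (M.map h)) μ).map (rowMap M i) ≤
      Module.End.maxGenEigenspace (transl h).toLinearMap μ := by
  rintro _ ⟨v, hv, rfl⟩
  rw [SetLike.mem_coe, Module.End.mem_maxGenEigenspace] at hv
  obtain ⟨a, ha⟩ := hv
  rw [Module.End.mem_maxGenEigenspace]
  refine ⟨a, ?_⟩
  have key : ∀ (a : ℕ) (v : ι → k), (((transl h).toLinearMap - μ • 1 : Module.End k B) ^ a) (rowMap M i v) =
      rowMap M i (((Matrix.toLin' (M.map h) - μ • 1 : Module.End k (ι → k)) ^ a) v) := by
    intro a
    induction a with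
    | zero => intro v; simp
    | succ a ih =>
      intro v
      have h1 : ((transl h).toLinearMap - μ • 1 : Module.End k B) (rowMap M i v) =
          rowMap M i ((Matrix.toLin' (M.map h) - μ • 1 : Module.End k (ι → k)) v) := by
        simp [transl_rowMap hM]
      rw [pow_succ, Module.End.mul_apply, h1, ih, pow_succ, Module.End.mul_apply]
  rw [key, ha, map_zero]

theorem exists_roots_fun {n : ℕ} {s : Multiset k} (h : Multiset.card s = n) :
    ∃ lam : Fin n → k, s = Finset.univ.val.map lam := by
  obtain ⟨l, rfl⟩ : ∃ l : List k, (l : Multiset k) = s := Quot.exists_rep s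
  rw [Multiset.coe_card] at h
  subst h
  exact ⟨l.get, by rw [Fin.univ_val_map, List.ofFn_get]⟩

theorem exists_roots_matrix {n : ℕ} (X : Matrix (Fin n) (Fin n) k) :
    ∃ lam : Fin n → k, X.charpoly.roots = Finset.univ.val.map lam :=
  exists_roots_fun (by
    rw [IsAlgClosed.card_roots_eq_natDegree, Matrix.charpoly_natDegree_eq_dim, Fintype.card_fin])

/-- the candidate eigenvalue attached to an index -/
def cand {n : ℕ} (d : k) (lam : Fin n → k) : Option (Option (Fin n)) → k
  | none => 1
  | some none => d
  | some (some i) => lam i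

/-- the span of the generators -/
def genSpan {n : ℕ} (k : Type u) [Field k] {B : Type v} [CommRing B] [Algebra k B]
    (M : Matrix (Fin n) (Fin n) B) (D : B) : Submodule k B :=
  Submodule.span k (insert 1 (insert D (Set.range fun p : Fin n × Fin n => M p.1 p.2)))

variable {n : ℕ} {W : Matrix (Fin n) (Fin n) B} {D : B}

theorem genSpan_pow_le (hW : IsComultMat k W) (hD : Coalgebra.comul (R := k) D = D ⊗ₜ[k] D) (h : B →ₐ[k] k)
    (lam : Fin n → k) (hlam : (W.map h).charpoly.roots = Finset.univ.val.map lam) :
    ∀ N : ℕ, (genSpan k W D) ^ N ≤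
      ⨆ φ : Fin N → Option (Option (Fin n)),
        Module.End.maxGenEigenspace (transl h).toLinearMap (∏ b, cand (h D) lam (φ b))
  | 0 => by
    rw [pow_zero, Submodule.one_eq_span, Submodule.span_le, Set.singleton_subset_iff]
    refine Submodule.mem_iSup_of_mem Fin.elim0 ?_
    rw [Module.End.mem_maxGenEigenspace]
    exact ⟨1, by simp⟩
  | N + 1 => by
    have h1 : genSpan k W D ≤ ⨆ o : Option (Option (Fin n)),
        Module.End.maxGenEigenspace (transl h).toLinearMap (cand (h D) lam o) := by
      rw [genSpan, Submodule.span_le]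
      rintro x (rfl | rfl | ⟨⟨i, j⟩, rfl⟩)
      · refine Submodule.mem_iSup_of_mem none ?_
        rw [Module.End.mem_maxGenEigenspace]
        exact ⟨1, by simp [cand]⟩
      · refine Submodule.mem_iSup_of_mem (some none) ?_
        rw [Module.End.mem_maxGenEigenspace]
        refine ⟨1, ?_⟩
        have := transl_of_comul h (fun _ : Unit => x) (fun _ => x) (by simpa using hD)
        simp [cand, this]
      · have hx : rowMap W i (Pi.single j (1 : k)) = W i j := by
          simp [rowMap, Fintype.linearCombination_apply, Pi.single_apply, ite_smul]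
        simp only [SetLike.mem_coe]
        rw [← hx]
        have htop := Submodule.mem_map_of_mem (f := rowMap W i)
          ((Module.End.iSup_maxGenEigenspace_eq_top (Matrix.toLin' (W.map h))).ge
            (Submodule.mem_top (x := (Pi.single j 1 : Fin n → k))))
        rw [Submodule.map_iSup] at htop
        suffices hle : (⨆ μ, (Module.End.maxGenEigenspace (Matrix.toLin' (W.map h)) μ).map (rowMap W i)) ≤
            ⨆ o, Module.End.maxGenEigenspace (transl h).toLinearMap (cand (h D) lam o) from hle htop
        refine iSup_le fun μ => ?_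
        rcases eq_or_ne (Module.End.maxGenEigenspace (Matrix.toLin' (W.map h)) μ) ⊥ with e | e
        · rw [e, Submodule.map_bot]; exact bot_le
        · have hμ : Module.End.HasEigenvalue (Matrix.toLin' (W.map h)) μ :=
            Module.End.HasUnifEigenvalue.lt (k := ⊤) zero_lt_one e
          have hroot := (Module.End.hasEigenvalue_iff_isRoot_charpoly _ μ).1 hμ
          rw [Matrix.charpoly_toLin'] at hroot
          have hmem : μ ∈ (W.map h).charpoly.roots :=
            (Polynomial.mem_roots (Matrix.charpoly_monic _).ne_zero).2 hroot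
          rw [hlam, Multiset.mem_map] at hmem
          obtain ⟨a, -, rfl⟩ := hmem
          exact le_trans (map_rowMap_le hW h i _) (le_iSup_of_le (some (some a)) le_rfl)
    rw [pow_succ]
    refine le_trans (mul_le_mul' (genSpan_pow_le hW hD h lam hlam N) h1) ?_
    refine le_trans (iSup_maxGenEigenspace_mul _ _ _) (iSup_le fun q => le_iSup_of_le (Fin.snoc q.1 q.2) ?_)
    rw [Fin.prod_univ_castSucc]
    simp

theorem root_mem_values {m : ℕ} {V : Matrix (Fin m) (Fin m) B} (hW : IsComultMat k W)
    (hD : Coalgebra.comul (R := k) D = D ⊗ₜ[k] D) (hV : IsComultMat k V) {N : ℕ}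
    (hVN : ∀ i j, V i j ∈ (genSpan k W D) ^ N) (h : B →ₐ[k] k) (lam : Fin n → k)
    (hlam : (W.map h).charpoly.roots = Finset.univ.val.map lam) {μ : k} (hμ : μ ∈ (V.map h).charpoly.roots) :
    ∃ φ : Fin N → Option (Option (Fin n)), μ = ∏ b, cand (h D) lam (φ b) := by
  rw [Polynomial.mem_roots (Matrix.charpoly_monic _).ne_zero, ← Matrix.charpoly_toLin',
    ← Module.End.hasEigenvalue_iff_isRoot_charpoly] at hμ
  obtain ⟨v, hv⟩ := hμ.exists_hasEigenvector
  obtain ⟨i, hi⟩ := Function.ne_iff.1 hv.2
  set b := rowMap V i v with hb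
  have hbne : b ≠ 0 := by
    intro h0
    apply hi
    have := congrArg (Coalgebra.counit (R := k)) h0
    simpa [hb, rowMap, Fintype.linearCombination_apply, map_sum, ((isComultMat_iff V).1 hV).2] using this
  have hbμ : b ∈ Module.End.maxGenEigenspace (transl h).toLinearMap μ := by
    rw [Module.End.mem_maxGenEigenspace]
    refine ⟨1, ?_⟩
    rw [pow_one, LinearMap.sub_apply, LinearMap.smul_apply, Module.End.one_apply, AlgHom.toLinearMap_apply,
      transl_rowMap hV, hv.apply_eq_smul, map_smul, ← hb, sub_self]
  have hbN : b ∈ (genSpan k W D) ^ N := by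
    rw [hb, rowMap, Fintype.linearCombination_apply]
    exact Submodule.sum_mem _ fun l _ => Submodule.smul_mem _ _ (hVN i l)
  by_contra hne
  push Not at hne
  refine hbne (Submodule.disjoint_def.1
    ((Module.End.independent_maxGenEigenspace (transl h).toLinearMap) μ) b hbμ ?_)
  have hle : (⨆ φ : Fin N → Option (Option (Fin n)),
      Module.End.maxGenEigenspace (transl h).toLinearMap (∏ b, cand (h D) lam (φ b))) ≤
      ⨆ ν, ⨆ (_ : ν ≠ μ), Module.End.maxGenEigenspace (transl h).toLinearMap ν :=
    iSup_le fun φ => le_iSup₂_of_le _ (fun e => hne φ e.symm) le_rfl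
  exact hle (genSpan_pow_le hW hD h lam hlam N hbN)

theorem roots_det_aeval {m : ℕ} (X : Matrix (Fin m) (Fin m) k) (j : ℕ) :
    (X ^ (j + 1)).trace = (X.charpoly.roots.map fun r => r ^ (j + 1)).sum := by
  classical
  have hdet : ∀ t : k, (algebraMap k (Matrix (Fin m) (Fin m) k) t - X ^ (j + 1)).det =
      (X.charpoly.roots.map fun r => t - r ^ (j + 1)).prod := by
    intro t
    let q : Polynomial k := Polynomial.C t - Polynomial.X ^ (j + 1)
    have hq : q = Polynomial.C q.leadingCoeff * (q.roots.map fun r => Polynomial.X - Polynomial.C r).prod :=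
      (IsAlgClosed.splits q).eq_prod_roots
    let g : Matrix (Fin m) (Fin m) k → k := fun Y => Y.det
    have hev : ∀ Y : Matrix (Fin m) (Fin m) k,
        Polynomial.aeval Y q = algebraMap k (Matrix (Fin m) (Fin m) k) t - Y ^ (j + 1) := fun Y => by simp [q]
    have hevs : ∀ s : Multiset k,
        (Polynomial.aeval X (s.map fun r => Polynomial.X - Polynomial.C r).prod).det =
          (X.charpoly.roots.map fun x => (s.map fun r => x - r).prod).prod := by
      intro s
      induction s using Multiset.induction_on with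
      | empty => simp
      | cons r s ih =>
        simp only [Multiset.map_cons, Multiset.prod_cons, map_mul, Matrix.det_mul, ih,
          Multiset.prod_map_mul]
        congr 1
        have hc : X.charpoly = (X.charpoly.roots.map fun x => Polynomial.X - Polynomial.C x).prod :=
          (IsAlgClosed.splits _).eq_prod_roots_of_monic (Matrix.charpoly_monic X)
        have h1 := congrArg (Polynomial.eval r) hc
        rw [Matrix.eval_charpoly, Polynomial.eval_multiset_prod, Multiset.map_map] at h1
        rw [map_sub, Polynomial.aeval_X, Polynomial.aeval_C, Matrix.algebraMap_eq_diagonal]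
        have h2 : (X - Matrix.scalar (Fin m) r).det = (-1) ^ m * (Matrix.scalar (Fin m) r - X).det := by
          rw [← neg_sub, Matrix.det_neg, Fintype.card_fin]
        refine (h2.trans ?_)
        rw [h1]
        have h3 : Multiset.card X.charpoly.roots = m := by
          rw [IsAlgClosed.card_roots_eq_natDegree, Matrix.charpoly_natDegree_eq_dim, Fintype.card_fin]
        have h4 : (X.charpoly.roots.map fun x => x - r) =
            X.charpoly.roots.map fun x => (-1 : k) * (r - x) := Multiset.map_congr rfl fun x _ => by ring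
        rw [h4, Multiset.prod_map_mul, Multiset.map_const', Multiset.prod_replicate, h3]
        simp [Function.comp_def]
    rw [← hev X, hq, map_mul, Polynomial.aeval_C, Matrix.det_mul, hevs]
    rw [Matrix.algebraMap_eq_diagonal, Matrix.det_diagonal]
    have h3 : Multiset.card X.charpoly.roots = m := by
      rw [IsAlgClosed.card_roots_eq_natDegree, Matrix.charpoly_natDegree_eq_dim, Fintype.card_fin]
    have h5 : ∀ x : k, q.leadingCoeff * (q.roots.map fun r => x - r).prod = t - x ^ (j + 1) := by
      intro x
      have := congrArg (Polynomial.eval x) hq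
      rw [Polynomial.eval_mul, Polynomial.eval_C, Polynomial.eval_multiset_prod, Multiset.map_map] at this
      rw [show t - x ^ (j + 1) = q.eval x by simp [q], this]
      simp [Function.comp_def]
    conv_rhs => arg 1; arg 1; ext x; rw [← h5 x]
    rw [Multiset.prod_map_mul, Multiset.map_const', Multiset.prod_replicate, h3]
    simp
  have hpoly : (X ^ (j + 1)).charpoly =
      ((X.charpoly.roots.map fun r => r ^ (j + 1)).map fun r => Polynomial.X - Polynomial.C r).prod := by
    refine Polynomial.funext fun t => ?_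
    rw [Matrix.eval_charpoly, Polynomial.eval_multiset_prod, Multiset.map_map, Multiset.map_map]
    refine (Eq.trans ?_ (hdet t)).trans (by simp [Function.comp_def])
    congr 1
  rw [Matrix.trace_eq_sum_roots_charpoly, hpoly, Polynomial.roots_multiset_prod_X_sub_C]

end Points

section Sym

variable {k : Type u} [Field k] [CharZero k] {n : ℕ}

theorem esymm_mem_adjoin_psum (R : Type*) [CommRing R] [Algebra k R] (i : ℕ) (hi : i ≤ n) :
    MvPolynomial.esymm (Fin n) R i ∈
      Algebra.adjoin R (Set.range fun j : Fin (n + 1) => MvPolynomial.psum (Fin n) R j) := by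
  induction i using Nat.strong_induction_on with
  | _ i ih =>
    rcases Nat.eq_zero_or_pos i with rfl | hpos
    · rw [MvPolynomial.esymm_zero]; exact Subalgebra.one_mem _
    have hu : IsUnit ((i : ℕ) : MvPolynomial (Fin n) R) := by
      rw [← map_natCast (algebraMap k (MvPolynomial (Fin n) R))]
      exact (isUnit_iff_ne_zero.2 (Nat.cast_ne_zero.2 hpos.ne')).map _
    obtain ⟨u, hu'⟩ := hu
    have hinv : (↑u⁻¹ : MvPolynomial (Fin n) R) ∈
        Algebra.adjoin R (Set.range fun j : Fin (n + 1) => MvPolynomial.psum (Fin n) R j) := by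
      have : (↑u⁻¹ : MvPolynomial (Fin n) R) = algebraMap R _ (algebraMap k R (i : k)⁻¹) := by
        refine Units.inv_eq_of_mul_eq_one_right ?_
        rw [← IsScalarTower.algebraMap_apply, hu', ← map_natCast (algebraMap k _),
          ← map_mul, mul_inv_cancel₀ (Nat.cast_ne_zero.2 hpos.ne'), map_one]
      rw [this]
      exact Subalgebra.algebraMap_mem _ _
    have h := MvPolynomial.mul_esymm_eq_sum (Fin n) R i
    rw [← hu'] at h
    rw [← Units.inv_mul_cancel_left u (MvPolynomial.esymm (Fin n) R i), h]
    refine Subalgebra.mul_mem _ hinv (Subalgebra.mul_mem _ (Subalgebra.pow_mem _ (Subalgebra.neg_mem _ (Subalgebra.one_mem _)) _) ?_)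
    refine Subalgebra.sum_mem _ fun a ha => ?_
    simp only [Finset.mem_filter] at ha
    have hsum : a.1 + a.2 = i := Finset.HasAntidiagonal.mem_antidiagonal.1 ha.1
    refine Subalgebra.mul_mem _ (Subalgebra.mul_mem _ (Subalgebra.pow_mem _ (Subalgebra.neg_mem _ (Subalgebra.one_mem _)) _)
      (ih a.1 ha.2 (by omega))) (Algebra.subset_adjoin ⟨⟨a.2, by omega⟩, rfl⟩)

theorem symmetric_mem_adjoin_psum (R : Type*) [CommRing R] [Algebra k R] {s : MvPolynomial (Fin n) R}
    (hs : s.IsSymmetric) :
    s ∈ Algebra.adjoin R (Set.range fun j : Fin (n + 1) => MvPolynomial.psum (Fin n) R j) := by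
  obtain ⟨q, hq⟩ := MvPolynomial.esymmAlgHom_surjective (σ := Fin n) R (n := n) (by simp) ⟨s, hs⟩
  have hs' : s = MvPolynomial.aeval (fun i : Fin n => MvPolynomial.esymm (Fin n) R (i + 1)) q := by
    have := congrArg Subtype.val hq
    simp only at this
    rw [← this, MvPolynomial.esymmAlgHom_apply]
  rw [hs']
  clear hs' hq
  induction q using MvPolynomial.induction_on with
  | C a => rw [MvPolynomial.aeval_C]; exact Subalgebra.algebraMap_mem _ a
  | add p q hp hq => rw [map_add]; exact Subalgebra.add_mem _ hp hq
  | mul_X p i hp =>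
    rw [map_mul, MvPolynomial.aeval_X]
    exact Subalgebra.mul_mem _ hp (esymm_mem_adjoin_psum (k := k) R _ (by omega))

end Sym

section Integral

variable {k : Type u} [Field k] [IsAlgClosed k] [CharZero k] {B : Type v} [CommRing B] [Bialgebra k B]

theorem eq_zero_of_forall_point [Algebra.FiniteType k B] [IsReduced B] {b : B}
    (hb : ∀ h : B →ₐ[k] k, h b = 0) : b = 0 := by
  have : IsJacobsonRing B := isJacobsonRing_of_finiteType (A := k)
  have h0 : b ∈ (⊥ : Ideal B).jacobson := by
    rw [Ideal.jacobson, Submodule.mem_sInf]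
    rintro (m : Ideal B) ⟨-, hm⟩
    have : m.IsMaximal := hm
    letI := Ideal.Quotient.field m
    have : Module.Finite k (B ⧸ m) := finite_of_finite_type_of_isJacobsonRing k (B ⧸ m)
    let e : k ≃ₐ[k] B ⧸ m := AlgEquiv.ofBijective (Algebra.ofId k (B ⧸ m))
      IsAlgClosed.algebraMap_bijective_of_isIntegral
    have h := hb (e.symm.toAlgHom.comp (Ideal.Quotient.mkₐ k m))
    exact Ideal.Quotient.eq_zero_iff_mem.1 (e.symm.injective (h.trans (map_zero e.symm).symm))
  rw [IsJacobsonRing.out inferInstance (Ideal.isRadical_bot_iff.2 inferInstance)] at h0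
  exact h0

variable {n : ℕ} (W : Matrix (Fin n) (Fin n) B) (D : B)

variable (k) in
/-- the subalgebra generated by power sums and the inverse determinant -/
def baseAlg : Subalgebra k B :=
  Algebra.adjoin k (insert D (Set.range fun j : Fin (n + 1) => (W ^ (j : ℕ)).trace))

theorem finiteType_baseAlg : Algebra.FiniteType k (baseAlg k W D) :=
  (Subalgebra.fg_iff_finiteType _).1 (Subalgebra.fg_def.2 ⟨_, (Set.finite_range _).insert _, rfl⟩)

variable {W D}

open Polynomial in
/-- characters are integral over the base subalgebra -/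
theorem isIntegral_trace [Algebra.FiniteType k B] [IsReduced B] (hW : IsComultMat k W)
    (hD : Coalgebra.comul (R := k) D = D ⊗ₜ[k] D)
    (hgen : Algebra.adjoin k (insert D (Set.range fun p : Fin n × Fin n => W p.1 p.2)) = ⊤)
    {m : ℕ} {V : Matrix (Fin m) (Fin m) B} (hV : IsComultMat k V) : IsIntegral (baseAlg k W D) V.trace := by
  classical
  let F := genSpan k W D
  have h1F : (1 : B) ∈ F := Submodule.subset_span (Set.mem_insert _ _)
  have hmono : ∀ a b : ℕ, a ≤ b → F ^ a ≤ F ^ b := fun a b hab =>
    pow_le_pow_right' (Submodule.one_le.2 h1F) hab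
  have hex : ∀ x : B, ∃ N, x ∈ F ^ N := by
    intro x
    have hx : x ∈ Algebra.adjoin k (insert D (Set.range fun p : Fin n × Fin n => W p.1 p.2)) := hgen ▸ Algebra.mem_top
    induction hx using Algebra.adjoin_induction with
    | mem y hy => exact ⟨1, by rw [pow_one]; exact Submodule.subset_span (Set.mem_insert_of_mem _ hy)⟩
    | algebraMap r => exact ⟨0, by rw [pow_zero]; exact Submodule.mem_one.2 ⟨r, rfl⟩⟩
    | add y z _ _ hy hz =>
      obtain ⟨a, ha⟩ := hy
      obtain ⟨b, hb⟩ := hz
      exact ⟨max a b, add_mem (hmono _ _ (le_max_left a b) ha) (hmono _ _ (le_max_right a b) hb)⟩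
    | mul y z _ _ hy hz =>
      obtain ⟨a, ha⟩ := hy
      obtain ⟨b, hb⟩ := hz
      exact ⟨a + b, by rw [pow_add]; exact Submodule.mul_mem_mul ha hb⟩
  choose Nf hNf using hex
  let N := Finset.univ.sup fun p : Fin m × Fin m => Nf (V p.1 p.2)
  have hVN : ∀ i j, V i j ∈ F ^ N := fun i j =>
    hmono _ _ (Finset.le_sup (f := fun p : Fin m × Fin m => Nf (V p.1 p.2)) (Finset.mem_univ (i, j))) (hNf _)
  let c' : Option (Option (Fin n)) → MvPolynomial (Fin n) (Polynomial k)
    | none => 1
    | some none => MvPolynomial.C Polynomial.X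
    | some (some i) => MvPolynomial.X i
  let val : (Fin m → Fin N → Option (Option (Fin n))) → MvPolynomial (Fin n) (Polynomial k) :=
    fun φ => ∑ a, ∏ b, c' (φ a b)
  let P : Polynomial (MvPolynomial (Fin n) (Polynomial k)) := ∏ φ, (Polynomial.X - Polynomial.C (val φ))
  have hPmonic : P.Monic := Polynomial.monic_prod_of_monic _ _ fun φ _ => Polynomial.monic_X_sub_C _
  have hsymm : ∀ i, (P.coeff i).IsSymmetric := by
    intro i e
    let r : MvPolynomial (Fin n) (Polynomial k) →+* MvPolynomial (Fin n) (Polynomial k) :=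
      (MvPolynomial.rename e).toRingHom
    have hc : ∀ o, r (c' o) = c' (o.map (Option.map e)) := by
      rintro (_ | _ | i) <;> simp [r, c']
    have hP : P.map r = P := by
      simp only [P, Polynomial.map_prod, Polynomial.map_sub, Polynomial.map_X, Polynomial.map_C]
      let ee : (Fin m → Fin N → Option (Option (Fin n))) ≃ (Fin m → Fin N → Option (Option (Fin n))) :=
        Equiv.arrowCongr (Equiv.refl _) (Equiv.arrowCongr (Equiv.refl _) (Equiv.optionCongr (Equiv.optionCongr e)))
      refine Fintype.prod_equiv ee _ _ fun φ => ?_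
      congr 2
      simp only [val, map_sum, map_prod, hc]
      rfl
    conv_rhs => rw [← hP, Polynomial.coeff_map]
    rfl
  let ev : ((B →ₐ[k] k) × (Fin n → k)) → (MvPolynomial (Fin n) (Polynomial k) →+* k) := fun p =>
    MvPolynomial.eval₂Hom (Polynomial.evalRingHom (p.1 D)) p.2
  have hdesc : ∀ s : MvPolynomial (Fin n) (Polynomial k), s.IsSymmetric → ∃ r : baseAlg k W D,
      ∀ (h : B →ₐ[k] k) (lam : Fin n → k), (W.map h).charpoly.roots = Finset.univ.val.map lam →
        h (r : B) = ev (h, lam) s := by
    intro s hs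
    have hs' := symmetric_mem_adjoin_psum (k := k) (Polynomial k) hs
    clear hs
    induction hs' using Algebra.adjoin_induction with
    | mem x hx =>
      obtain ⟨j, rfl⟩ := hx
      refine ⟨⟨_, Algebra.subset_adjoin (Set.mem_insert_of_mem _ ⟨j, rfl⟩)⟩, fun h lam hlam => ?_⟩
      simp only [ev, MvPolynomial.psum, map_sum, map_pow, MvPolynomial.eval₂Hom_X']
      have hmap : h ((W ^ (j : ℕ)).trace) = ((W.map h) ^ (j : ℕ)).trace := by
        change h.toRingHom _ = ((h.toRingHom.mapMatrix W) ^ (j : ℕ)).trace
        rw [← map_pow]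
        simp [Matrix.trace, Matrix.diag, map_sum]
      rw [hmap]
      obtain ⟨j, hj⟩ := j
      cases j with
      | zero => simp
      | succ j =>
        change ((W.map h) ^ (j + 1)).trace = _
        rw [roots_det_aeval, hlam, Multiset.map_map]
        rfl
    | algebraMap p =>
      refine ⟨Polynomial.aeval ⟨D, Algebra.subset_adjoin (Set.mem_insert _ _)⟩ p, fun h lam _ => ?_⟩
      simp only [ev, MvPolynomial.algebraMap_eq, MvPolynomial.eval₂Hom_C, Polynomial.coe_evalRingHom]
      rw [← Polynomial.coe_aeval_eq_eval, ← Subalgebra.coe_val, ← Polynomial.aeval_algHom_apply,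
        ← Polynomial.aeval_algHom_apply]
      rfl
    | add x y _ _ hx hy =>
      obtain ⟨rx, hrx⟩ := hx
      obtain ⟨ry, hry⟩ := hy
      exact ⟨rx + ry, fun h lam hl => by rw [Subalgebra.coe_add, map_add, hrx h lam hl, hry h lam hl, map_add]⟩
    | mul x y _ _ hx hy =>
      obtain ⟨rx, hrx⟩ := hx
      obtain ⟨ry, hry⟩ := hy
      exact ⟨rx * ry, fun h lam hl => by rw [Subalgebra.coe_mul, map_mul, hrx h lam hl, hry h lam hl, map_mul]⟩
  choose r hr using fun i => hdesc (P.coeff i) (hsymm i)
  let Q : Polynomial (baseAlg k W D) :=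
    Polynomial.X ^ P.natDegree + ∑ i ∈ Finset.range P.natDegree, Polynomial.C (r i) * Polynomial.X ^ i
  refine ⟨Q, ?_, ?_⟩
  · exact Polynomial.monic_X_pow_add (lt_of_le_of_lt (Polynomial.degree_sum_le _ _)
      ((Finset.sup_lt_iff (WithBot.bot_lt_coe _)).2 fun i hi =>
        lt_of_le_of_lt (Polynomial.degree_C_mul_X_pow_le _ _) (WithBot.coe_lt_coe.2 (Finset.mem_range.1 hi))))
  · refine eq_zero_of_forall_point (k := k) fun h => ?_
    obtain ⟨lam, hlam⟩ := exists_roots_matrix (W.map h)
    obtain ⟨nu, hnu⟩ := exists_roots_matrix (V.map h)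
    have hval : ∀ a, ∃ φ : Fin N → Option (Option (Fin n)), nu a = ∏ b, cand (h D) lam (φ b) := fun a =>
      root_mem_values hW hD hV hVN h lam hlam (hnu ▸ Multiset.mem_map_of_mem _ (Finset.mem_univ_val a))
    choose φ hφ using hval
    have hc : ∀ o, ev (h, lam) (c' o) = cand (h D) lam o := by
      rintro (_ | _ | i) <;> simp [ev, c', cand]
    have htr : h V.trace = ev (h, lam) (val φ) := by
      simp only [val, map_sum, map_prod, hc, ← hφ]
      have hmap : h V.trace = (V.map h).trace := by simp [Matrix.trace, Matrix.diag, map_sum]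
      rw [hmap, Matrix.trace_eq_sum_roots_charpoly, hnu]
      rfl
    have hroot : (P.map (ev (h, lam))).eval (h V.trace) = 0 := by
      simp only [P, Polynomial.map_prod, Polynomial.eval_prod]
      refine Finset.prod_eq_zero (Finset.mem_univ φ) ?_
      simp [htr]
    rw [Polynomial.eval_map, hPmonic.as_sum, Polynomial.eval₂_add, Polynomial.eval₂_X_pow,
      Polynomial.eval₂_finset_sum] at hroot
    simp only [Polynomial.eval₂_mul, Polynomial.eval₂_C, Polynomial.eval₂_X_pow, ← hr _ h lam hlam] at hroot
    simp only [Q, Polynomial.eval₂_add, Polynomial.eval₂_X_pow, Polynomial.eval₂_finset_sum, Polynomial.eval₂_mul,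
      Polynomial.eval₂_C, map_add, map_sum, map_mul, map_pow]
    exact hroot

end Integral

end Groth.ComodLib
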