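import Groth.Agent.Hopf.GLnHom
import Mathlib.LinearAlgebra.Matrix.ToLin
import Mathlib.Logic.Equiv.Fin.Rotate
import Mathlib.RingTheory.RootsOfUnity.AlgebraicallyClosed

/-!
# Characters: traces of comultiplicative matrices
-/

set_option autoImplicit false
set_option linter.unusedSectionVars false

universe u v w

open TensorProduct Matrix

noncomputable section

namespace Groth.ComodLib

section Mat

variable {k : Type u} [CommRing k] {A : Type v} [CommRing A] [Bialgebra k A]
  {ι : Type*} [Fintype ι] [DecidableEq ι] {κ : Type*} [Fintype κ] [DecidableEq κ]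

variable (k) in
/-- comultiplicative matrices -/
def IsComultMat (M : Matrix ι ι A) : Prop :=
  M.map (Bialgebra.comulAlgHom k A) =
      M.map (Algebra.TensorProduct.includeLeft (S := k) : A →ₐ[k] A ⊗[k] A) *
        M.map (Algebra.TensorProduct.includeRight : A →ₐ[k] A ⊗[k] A) ∧
    M.map (Bialgebra.counitAlgHom k A) = 1

theorem isComultMat_iff (M : Matrix ι ι A) : IsComultMat k M ↔
    (∀ i j, Coalgebra.comul (R := k) (M i j) = ∑ l, M i l ⊗ₜ[k] M l j) ∧
      ∀ i j, Coalgebra.counit (R := k) (M i j) = if i = j then (1 : k) else 0 := by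
  refine and_congr ?_ ?_
  · rw [← Matrix.ext_iff]
    refine forall_congr' fun i => forall_congr' fun j => ?_
    simp [Matrix.mul_apply, Algebra.TensorProduct.tmul_mul_tmul]
  · rw [← Matrix.ext_iff]
    refine forall_congr' fun i => forall_congr' fun j => ?_
    simp [Matrix.one_apply]

theorem IsComultMat.reindex {M : Matrix ι ι A} (h : IsComultMat k M) (e : ι ≃ κ) :
    IsComultMat k (Matrix.reindex e e M) := by
  rw [isComultMat_iff] at h ⊢
  refine ⟨fun i j => ?_, fun i j => ?_⟩
  · simp only [Matrix.reindex_apply, Matrix.submatrix_apply, h.1]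
    exact Fintype.sum_equiv e _ _ fun l => by simp
  · simp only [Matrix.reindex_apply, Matrix.submatrix_apply, h.2, EmbeddingLike.apply_eq_iff_eq]

theorem IsComultMat.map {B : Type w} [CommRing B] [Bialgebra k B] (π : A →ₐc[k] B) {M : Matrix ι ι A}
    (h : IsComultMat k M) : IsComultMat k (M.map π) := by
  rw [isComultMat_iff] at h ⊢
  refine ⟨fun i j => ?_, fun i j => ?_⟩
  · rw [Matrix.map_apply, ← CoalgHomClass.map_comp_comul_apply π, h.1, map_sum]
    rfl
  · rw [Matrix.map_apply, CoalgHomClass.counit_comp_apply π, h.2]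

/-- a comultiplicative matrix gives a comodule -/
@[reducible] def comodOfMat {d : ℕ} (M : Matrix (Fin d) (Fin d) A) (h : IsComultMat k M) :
    HopfRep.Comod k A (Fin d → k) where
  coact := (Pi.basisFun k (Fin d)).constr k fun i => ∑ j : Fin d, (Pi.basisFun k (Fin d) j) ⊗ₜ[k] M j i
  coassoc := by
    obtain ⟨h1, -⟩ := (isComultMat_iff M).1 h
    apply (Pi.basisFun k (Fin d)).ext
    intro i
    simp only [LinearMap.coe_comp, Function.comp_apply, LinearEquiv.coe_coe, Module.Basis.constr_basis, map_sum,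
      LinearMap.rTensor_tmul, TensorProduct.sum_tmul, TensorProduct.assoc_tmul, LinearMap.lTensor_tmul,
      h1, TensorProduct.tmul_sum]
    exact Finset.sum_comm
  counit_comp := by
    obtain ⟨-, h2⟩ := (isComultMat_iff M).1 h
    apply (Pi.basisFun k (Fin d)).ext
    intro i
    simp only [LinearMap.coe_comp, Function.comp_apply, Module.Basis.constr_basis, map_sum, LinearMap.lTensor_tmul,
      h2, LinearMap.flip_apply, TensorProduct.mk_apply]
    simp [TensorProduct.tmul_ite, eq_comm]

end Mat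

section Chars

variable (k : Type u) [Field k] (A : Type v) [CommRing A] [Bialgebra k A]

/-- the set of characters of finite-dimensional representations -/
def charSet : Set A := {a | ∃ (d : ℕ) (M : Matrix (Fin d) (Fin d) A), IsComultMat k M ∧ a = M.trace}

theorem range_char_eq :
    Set.range (fun p : (Σ d : ℕ, HopfRep.Comod k A (Fin d → k)) =>
      ∑ i : Fin p.1, TensorProduct.lid k A (LinearMap.rTensor A (LinearMap.proj i)
        (@HopfRep.Comod.coact k A _ _ _ _ (Fin p.1 → k) _ _ p.2 (Pi.single i 1)))) = charSet k A := by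
  ext a
  constructor
  · rintro ⟨⟨d, c⟩, rfl⟩
    letI := c
    let b := Pi.basisFun k (Fin d)
    refine ⟨d, cfMat (A := A) b, (isComultMat_iff _).2 ⟨comul_cfMat b, counit_cfMat b⟩, ?_⟩
    refine Finset.sum_congr rfl fun i _ => ?_
    have h1 : b.coord i = LinearMap.proj i :=
      LinearMap.ext fun x => by simp [b]
    simp [Matrix.diag, cfMat, cf_apply, lslice, h1, b]
  · rintro ⟨d, M, hM, rfl⟩
    refine ⟨⟨d, comodOfMat M hM⟩, Finset.sum_congr rfl fun i _ => ?_⟩
    have h1 : (comodOfMat M hM).coact (Pi.single i 1) =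
        ∑ j : Fin d, (Pi.basisFun k (Fin d) j) ⊗ₜ[k] M j i := by
      rw [← Pi.basisFun_apply]
      exact Module.Basis.constr_basis _ _ _ _
    change TensorProduct.lid k A (LinearMap.rTensor A (LinearMap.proj i) ((comodOfMat M hM).coact (Pi.single i 1))) = _
    rw [h1, map_sum, map_sum]
    simp [Matrix.diag, Pi.single_apply, Finset.sum_ite_eq]

variable {k A}

theorem trace_mem_charSet {ι : Type*} [Fintype ι] [DecidableEq ι] {M : Matrix ι ι A} (h : IsComultMat k M) :
    M.trace ∈ charSet k A := by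
  refine ⟨_, _, h.reindex (Fintype.equivFin ι), ?_⟩
  exact Fintype.sum_equiv (Fintype.equivFin ι) _ _ fun i => by simp

theorem map_charSet_subset {B : Type w} [CommRing B] [Bialgebra k B] (π : A →ₐc[k] B) :
    π '' charSet k A ⊆ charSet k B := by
  rintro _ ⟨_, ⟨d, M, hM, rfl⟩, rfl⟩
  exact ⟨d, M.map π, hM.map π, by simp [Matrix.trace, Matrix.diag]⟩

/-- scalar matrices -/
abbrev sMat {m n : Type*} (B : Type*) [CommRing B] [Algebra k B] (C : Matrix m n k) : Matrix m n B :=
  C.map (algebraMap k B)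

theorem map_sMat {m n : Type*} {B C : Type*} [CommRing B] [Algebra k B] [CommRing C] [Algebra k C] (f : B →ₐ[k] C)
    (X : Matrix m n k) : (sMat B X).map f = sMat C X := by
  ext i j; exact f.commutes _

variable {ι : Type*} [Fintype ι] [DecidableEq ι]

/-- cutting a representation by a commuting idempotent -/
theorem trace_idem_mul_mem_charSet {M : Matrix ι ι A} (h : IsComultMat k M) (P : Matrix ι ι k)
    (hP : P * P = P) (hc : sMat A P * M = M * sMat A P) : (sMat A P * M).trace ∈ charSet k A := by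
  let p : (ι → k) →ₗ[k] (ι → k) := Matrix.toLin' P
  let R := LinearMap.range p
  let e : R ≃ₗ[k] (Fin (Module.finrank k R) → k) := (Module.finBasis k R).equivFun
  let U : Matrix ι (Fin (Module.finrank k R)) k := LinearMap.toMatrix' (R.subtype ∘ₗ e.symm.toLinearMap)
  let V : Matrix (Fin (Module.finrank k R)) ι k := LinearMap.toMatrix' (e.toLinearMap ∘ₗ p.rangeRestrict)
  have hUV : U * V = P := by
    rw [← LinearMap.toMatrix'_comp, ← LinearMap.toMatrix'_toLin' P]
    congr 1
    refine LinearMap.ext fun x => ?_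
    simp [p]
  have hp : ∀ y : R, p.rangeRestrict (y : ι → k) = y := by
    rintro ⟨_, x, rfl⟩
    apply Subtype.ext
    change p (p x) = p x
    rw [← LinearMap.comp_apply, ← Matrix.toLin'_mul, hP]
  have hVU : V * U = 1 := by
    rw [← LinearMap.toMatrix'_comp, ← LinearMap.toMatrix'_id]
    congr 1
    refine LinearMap.ext fun x => ?_
    simp only [LinearMap.comp_apply, LinearEquiv.coe_coe, Submodule.coe_subtype, hp, e.apply_symm_apply,
      LinearMap.id_apply]
  have hVP : V * P = V := by rw [← hUV, ← Matrix.mul_assoc, hVU, Matrix.one_mul]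
  let N := sMat A V * M * sMat A U
  have hN : IsComultMat k N := by
    refine ⟨?_, ?_⟩
    · simp only [N, Matrix.map_mul, map_sMat, h.1]
      have hc' := congrArg (fun X : Matrix ι ι A =>
        X.map (Algebra.TensorProduct.includeLeft (S := k) : A →ₐ[k] A ⊗[k] A)) hc
      simp only [Matrix.map_mul, map_sMat] at hc'
      generalize M.map (Algebra.TensorProduct.includeLeft (S := k) : A →ₐ[k] A ⊗[k] A) = M₁ at hc' ⊢
      generalize M.map (Algebra.TensorProduct.includeRight : A →ₐ[k] A ⊗[k] A) = M₂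
      have e1 : sMat (A ⊗[k] A) U * sMat (A ⊗[k] A) V = sMat (A ⊗[k] A) P := by
        rw [sMat, sMat, sMat, ← Matrix.map_mul, hUV]
      have e2 : sMat (A ⊗[k] A) V * sMat (A ⊗[k] A) P = sMat (A ⊗[k] A) V := by
        rw [sMat, sMat, ← Matrix.map_mul, hVP]
      symm
      calc sMat (A ⊗[k] A) V * M₁ * sMat (A ⊗[k] A) U * (sMat (A ⊗[k] A) V * M₂ * sMat (A ⊗[k] A) U)
          = sMat (A ⊗[k] A) V * (M₁ * (sMat (A ⊗[k] A) U * sMat (A ⊗[k] A) V)) * M₂ * sMat (A ⊗[k] A) U := by
            simp only [Matrix.mul_assoc]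
        _ = sMat (A ⊗[k] A) V * sMat (A ⊗[k] A) P * M₁ * M₂ * sMat (A ⊗[k] A) U := by
            rw [e1, ← hc', Matrix.mul_assoc (sMat (A ⊗[k] A) V) (sMat (A ⊗[k] A) P) M₁]
        _ = sMat (A ⊗[k] A) V * (M₁ * M₂) * sMat (A ⊗[k] A) U := by
            rw [e2]; simp only [Matrix.mul_assoc]
    · simp only [N, Matrix.map_mul, map_sMat, h.2, Matrix.mul_one]
      rw [sMat, sMat, ← Matrix.map_mul, hVU]
      exact Matrix.map_one _ (map_zero _) (map_one _)
  refine ⟨_, N, hN, ?_⟩
  rw [Matrix.trace_mul_cycle, sMat, sMat, ← Matrix.map_mul, hUV]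

/-- the tensor power of a matrix -/
def tpow (M : Matrix ι ι A) (j : ℕ) : Matrix (Fin j → ι) (Fin j → ι) A :=
  fun I J => ∏ a, M (I a) (J a)

theorem IsComultMat.tpow {M : Matrix ι ι A} (h : IsComultMat k M) (j : ℕ) :
    IsComultMat k (Groth.ComodLib.tpow M j) := by
  rw [isComultMat_iff] at h ⊢
  refine ⟨fun I J => ?_, fun I J => ?_⟩
  · change Bialgebra.comulAlgHom k A (∏ a, M (I a) (J a)) = _
    rw [map_prod]
    simp only [Bialgebra.comulAlgHom_apply, h.1, Fintype.prod_sum]
    refine Finset.sum_congr rfl fun L _ => ?_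
    change _ = (∏ a, M (I a) (L a)) ⊗ₜ[k] ∏ a, M (L a) (J a)
    refine Eq.trans (Finset.prod_congr rfl fun a _ => ?_)
      (?_ : (∏ a, (Algebra.TensorProduct.includeLeft (S := k) : A →ₐ[k] A ⊗[k] A) (M (I a) (L a)) *
        (Algebra.TensorProduct.includeRight : A →ₐ[k] A ⊗[k] A) (M (L a) (J a))) = _)
    · simp [Algebra.TensorProduct.tmul_mul_tmul]
    · rw [Finset.prod_mul_distrib, ← map_prod, ← map_prod, Algebra.TensorProduct.includeLeft_apply,
        Algebra.TensorProduct.includeRight_apply, Algebra.TensorProduct.tmul_mul_tmul, mul_one, one_mul]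
  · change Bialgebra.counitAlgHom k A (∏ a, M (I a) (J a)) = _
    rw [map_prod]
    simp only [Bialgebra.counitAlgHom_apply, h.2]
    rcases eq_or_ne I J with e | e
    · simp [e]
    · obtain ⟨a, ha⟩ := Function.ne_iff.1 e
      rw [if_neg e, Finset.prod_eq_zero (Finset.mem_univ a) (if_neg ha)]

/-- entries of powers as sums over paths -/
theorem pow_succ_apply_eq_sum {B : Type*} [CommRing B] (M : Matrix ι ι B) :
    ∀ (j : ℕ) (x y : ι), (M ^ (j + 1)) x y =
      ∑ I : Fin j → ι, ∏ a : Fin (j + 1), M (Fin.cons (α := fun _ => ι) x I a) (Fin.snoc (α := fun _ => ι) I y a)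
  | 0, x, y => by simp [Fin.snoc]
  | j + 1, x, y => by
    rw [pow_succ', Matrix.mul_apply, ← (Fin.consEquiv fun _ : Fin (j + 1) => ι).sum_comp, Fintype.sum_prod_type]
    refine Finset.sum_congr rfl fun z _ => ?_
    rw [pow_succ_apply_eq_sum M j, Finset.mul_sum]
    refine Finset.sum_congr rfl fun I _ => ?_
    change _ = ∏ a : Fin (j + 2), M (Fin.cons (α := fun _ => ι) x (Fin.cons z I) a)
      (Fin.snoc (α := fun _ => ι) (Fin.cons z I) y a)
    rw [Fin.prod_univ_succ (n := j + 1), ← Fin.cons_snoc_eq_snoc_cons]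
    simp only [Fin.cons_zero, Fin.cons_succ]

theorem trace_pow_succ_eq_sum {B : Type*} [CommRing B] (M : Matrix ι ι B) (j : ℕ) :
    (M ^ (j + 1)).trace = ∑ J : Fin (j + 1) → ι, ∏ a, M (J a) (J (finRotate _ a)) := by
  simp only [Matrix.trace, Matrix.diag, pow_succ_apply_eq_sum]
  rw [← (Fin.consEquiv fun _ : Fin (j + 1) => ι).sum_comp, Fintype.sum_prod_type]
  refine Finset.sum_congr rfl fun x _ => Finset.sum_congr rfl fun I _ => Finset.prod_congr rfl fun a _ => ?_
  simp only [Fin.consEquiv_apply, Fin.snoc_eq_cons_rotate]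

end Chars

section Cyclic

variable {k : Type u} [Field k] [IsAlgClosed k] [CharZero k] {A : Type v} [CommRing A] [Bialgebra k A]
  {ι : Type*} [Fintype ι] [DecidableEq ι]

/-- a commuting scalar matrix of finite order has trace pairing in the span of the characters -/
theorem trace_finOrder_mul_mem_span {M : Matrix ι ι A} (h : IsComultMat k M) (C : Matrix ι ι k) {m : ℕ}
    (hm : 2 ≤ m) (hC : C ^ m = 1) (hc : sMat A C * M = M * sMat A C) :
    (sMat A C * M).trace ∈ Submodule.span k (charSet k A) := by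
  have : NeZero m := ⟨by omega⟩
  obtain ⟨ζ, hζ⟩ := HasEnoughRootsOfUnity.exists_primitiveRoot k m
  have hζ0 : ζ ≠ 0 := hζ.ne_zero (by omega)
  let P : ℕ → Matrix ι ι k := fun l =>
    (m : k)⁻¹ • ∑ i ∈ Finset.range m, (ζ ^ l)⁻¹ ^ i • C ^ i
  have hCP : ∀ l, C * P l = ζ ^ l • P l := by
    intro l
    have hz : ζ ^ l ≠ 0 := pow_ne_zero _ hζ0
    have hs : ∑ i ∈ Finset.range m, (ζ ^ l)⁻¹ ^ (i + 1) • C ^ (i + 1) =
        ∑ i ∈ Finset.range m, (ζ ^ l)⁻¹ ^ i • C ^ i := by
      have h1 := Finset.sum_range_succ' (fun i => (ζ ^ l)⁻¹ ^ i • C ^ i) m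
      rw [Finset.sum_range_succ] at h1
      have h2 : (ζ ^ l)⁻¹ ^ m = 1 := by
        rw [inv_pow, ← pow_mul, mul_comm, pow_mul, hζ.pow_eq_one, one_pow, inv_one]
      rw [hC, h2, pow_zero, pow_zero] at h1
      exact (add_right_cancel h1).symm
    calc C * P l = (m : k)⁻¹ • ∑ i ∈ Finset.range m, (ζ ^ l)⁻¹ ^ i • C ^ (i + 1) := by
          simp [P, Matrix.mul_sum, pow_succ']
      _ = (m : k)⁻¹ • (ζ ^ l • ∑ i ∈ Finset.range m, (ζ ^ l)⁻¹ ^ (i + 1) • C ^ (i + 1)) := by
          rw [Finset.smul_sum (r := ζ ^ l)]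
          congr 1
          refine Finset.sum_congr rfl fun i _ => ?_
          rw [smul_smul, pow_succ' (ζ ^ l)⁻¹, ← mul_assoc, mul_inv_cancel₀ hz, one_mul]
      _ = ζ ^ l • P l := by rw [hs, smul_comm]
  have hPP : ∀ l, P l * P l = P l := by
    intro l
    have hz : ζ ^ l ≠ 0 := pow_ne_zero _ hζ0
    have hCi : ∀ i, C ^ i * P l = (ζ ^ l) ^ i • P l := by
      intro i
      induction i with
      | zero => simp
      | succ i ih => rw [pow_succ, Matrix.mul_assoc, hCP, Matrix.mul_smul, ih, smul_smul, ← pow_succ']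
    conv_lhs => arg 1; simp only [P]
    simp only [Matrix.smul_mul, Matrix.sum_mul, hCi, smul_smul, ← mul_pow, inv_mul_cancel₀ hz, one_pow, one_smul,
      Finset.sum_const, Finset.card_range]
    rw [← Nat.cast_smul_eq_nsmul k, smul_smul, inv_mul_cancel₀ (Nat.cast_ne_zero.2 (by omega)), one_smul]
  have hsum : C = ∑ l ∈ Finset.range m, ζ ^ l • P l := by
    simp only [P, Finset.smul_sum, smul_smul]
    rw [Finset.sum_comm]
    simp only [← Finset.sum_smul]
    have hcoef : ∀ i ∈ Finset.range m, ∑ l ∈ Finset.range m, ζ ^ l * ((m : k)⁻¹ * (ζ ^ l)⁻¹ ^ i) =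
        if i = 1 then 1 else 0 := by
      intro i hi
      rw [Finset.mem_range] at hi
      have h1 : ∀ l : ℕ, ζ ^ l * ((m : k)⁻¹ * (ζ ^ l)⁻¹ ^ i) = (m : k)⁻¹ * (ζ * (ζ ^ i)⁻¹) ^ l := fun l => by
        rw [mul_pow, inv_pow, inv_pow, ← pow_mul, ← pow_mul, Nat.mul_comm l i]; ring
      simp only [h1, ← Finset.mul_sum]
      split_ifs with hi1
      · subst hi1
        simp [hζ0, show m ≠ 0 by omega]
      · have hne : ζ * (ζ ^ i)⁻¹ ≠ 1 := by
          intro h2
          refine hi1 (hζ.pow_inj hi (by omega) ?_)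
          rw [pow_one, ← mul_one (ζ ^ i), ← h2, mul_left_comm, mul_inv_cancel₀ (pow_ne_zero _ hζ0), mul_one]
        rw [geom_sum_eq hne, mul_pow, inv_pow, ← pow_mul, Nat.mul_comm, pow_mul, hζ.pow_eq_one, one_pow, inv_one,
          mul_one, sub_self, zero_div, mul_zero]
    rw [Finset.sum_congr rfl fun i hi => by rw [hcoef i hi]]
    simp [ite_smul, show 1 < m by omega]
  have hcomm : ∀ l, sMat A (P l) * M = M * sMat A (P l) := by
    intro l
    let φ : Matrix ι ι k →ₐ[k] Matrix ι ι A := (Algebra.ofId k A).mapMatrix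
    have hCi : Commute (φ C) M := hc
    have : Commute (φ (P l)) M := by
      simp only [P, map_smul, map_sum, map_pow]
      exact (Commute.sum_left _ _ _ fun i _ => ((hCi.pow_left i).smul_left _)).smul_left _
    exact this
  have htr : (sMat A C * M).trace = ∑ l ∈ Finset.range m, ζ ^ l • (sMat A (P l) * M).trace := by
    let φ : Matrix ι ι k →ₐ[k] Matrix ι ι A := (Algebra.ofId k A).mapMatrix
    change (φ C * M).trace = ∑ l ∈ Finset.range m, ζ ^ l • (φ (P l) * M).trace
    conv_lhs => rw [hsum]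
    simp only [map_sum, map_smul, Matrix.sum_mul, Matrix.smul_mul, Matrix.trace_sum, Matrix.trace_smul]
  rw [htr]
  exact Submodule.sum_mem _ fun l _ => Submodule.smul_mem _ _
    (Submodule.subset_span (trace_idem_mul_mem_charSet h (P l) (hPP l) (hcomm l)))

/-- traces of powers are combinations of characters -/
theorem trace_pow_succ_mem_span {M : Matrix ι ι A} (h : IsComultMat k M) (j : ℕ) :
    (M ^ (j + 1)).trace ∈ Submodule.span k (charSet k A) := by
  let σ := finRotate (j + 1)
  let C : Matrix (Fin (j + 1) → ι) (Fin (j + 1) → ι) k := fun K J => if K = J ∘ σ then 1 else 0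
  have hCi : ∀ i : ℕ, C ^ i = fun K J => if K = J ∘ (σ ^ i : Equiv.Perm (Fin (j + 1))) then (1 : k) else 0 := by
    intro i
    induction i with
    | zero => ext K J; simp [Matrix.one_apply]
    | succ i ih =>
      ext K J
      rw [pow_succ, Matrix.mul_apply, ih]
      simp only [C, mul_ite, mul_one, mul_zero, Finset.sum_ite_eq', Finset.mem_univ, if_true]
      refine if_congr (Iff.of_eq (congrArg (K = ·) (funext fun a => ?_))) rfl rfl
      simp [pow_succ', Function.comp, Equiv.Perm.coe_mul]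
  have hC : C ^ (2 * orderOf σ) = 1 := by
    rw [hCi, mul_comm, pow_mul, pow_orderOf_eq_one, one_pow]
    ext K J
    simp [Matrix.one_apply]
  have hord : 2 ≤ 2 * orderOf σ := Nat.le_mul_of_pos_right 2 (orderOf_pos σ)
  have hmem := trace_finOrder_mul_mem_span (h.tpow (j + 1)) C hord hC (by
    ext I J
    simp only [Matrix.mul_apply, Matrix.map_apply, C, apply_ite (algebraMap k A), map_one, map_zero, ite_mul,
      mul_ite, one_mul, zero_mul, mul_one, mul_zero, Finset.sum_ite_eq', Finset.mem_univ, if_true]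
    rw [Finset.sum_eq_single (I ∘ σ.symm) (fun K _ hK => if_neg fun e => hK (by rw [e]; ext a; simp))
      (fun hK => absurd (Finset.mem_univ _) hK)]
    rw [if_pos (by ext a; simp)]
    exact (Equiv.prod_comp σ fun a => M ((I ∘ σ.symm) a) (J a)).symm.trans
      (Finset.prod_congr rfl fun a _ => by simp))
  convert hmem using 1
  rw [trace_pow_succ_eq_sum, Matrix.trace_mul_comm]
  simp only [Matrix.trace, Matrix.diag, Matrix.mul_apply, Matrix.map_apply, C, apply_ite (algebraMap k A), map_one,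
    map_zero, mul_ite, mul_one, mul_zero, Finset.sum_ite_eq', Finset.mem_univ, if_true]
  rfl

end Cyclic

end Groth.ComodLib
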