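import Groth.Agent.Hopf.Comod
import Groth.Agent.Misc12.AntipodeComul
import Groth.Prelude.Def_ComodDual

/-!
# The contragredient comodule of a finite projective comodule
-/

set_option autoImplicit false
set_option linter.unusedSectionVars false

universe u v w w'

open TensorProduct

noncomputable section

namespace Groth.ComodLib

variable {k : Type u} [CommRing k] {A : Type v} [CommRing A] [HopfAlgebra k A]
  {V : Type w} [AddCommGroup V] [Module k V]

/-- `f ↦ (v ↦ Σ f(v₀) S(v₁))`, linear in `f` -/
def dualCoactLin (c : HopfRep.Comod k A V) : Module.Dual k V →ₗ[k] V →ₗ[k] A where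
  toFun f := ComodTens.dualCoactFun c f
  map_add' := ComodTens.dualCoactFun_add c
  map_smul' r f := ComodTens.dualCoactFun_smul c r f

theorem dualTensorHom_eq_lid {B : Type w'} [AddCommGroup B] [Module k B] (D : Module.Dual k V ⊗[k] B) (v : V) :
    dualTensorHom k V B D v = TensorProduct.lid k B ((Module.Dual.eval k V v).rTensor B D) := by
  induction D using TensorProduct.induction_on with
  | zero => simp
  | tmul p q => simp
  | add p q hp hq => simp only [map_add, LinearMap.add_apply, hp, hq]

variable [Module.Finite k V] [Module.Projective k V]

/-- the contragredient structure -/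
@[reducible] def dualComod (c : HopfRep.Comod k A V) : HopfRep.Comod k A (Module.Dual k V) where
  coact := (dualTensorHomEquiv k V A).symm.toLinearMap ∘ₗ dualCoactLin c
  coassoc := by
    refine LinearMap.ext fun f => (dualTensorHom_bijective (R := k) (M := V) (N := A ⊗[k] A)).1
      (LinearMap.ext fun v => ?_)
    simp only [LinearMap.comp_apply, LinearEquiv.coe_coe]
    set D := (dualTensorHomEquiv k V A).symm (dualCoactLin c f) with hD
    have hg : dualTensorHom k V A D = ComodTens.dualCoactFun c f :=
      (dualTensorHomEquiv k V A).apply_symm_apply _
    let S := HopfAlgebraStruct.antipode (R := k) (A := A)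
    let C : Module.Dual k V →ₗ[k] Module.Dual k V ⊗[k] A :=
      (dualTensorHomEquiv k V A).symm.toLinearMap ∘ₗ dualCoactLin c
    have h1 : dualTensorHom k V (A ⊗[k] A) (TensorProduct.assoc k _ A A (C.rTensor A D)) v =
        TensorProduct.comm k A A (TensorProduct.map (dualTensorHom k V A D) S (c.coact v)) := by
      generalize D = D'
      induction D' using TensorProduct.induction_on with
      | zero => simp
      | add p q hp hq =>
        simp only [map_add, LinearMap.add_apply, hp, hq, TensorProduct.map_add_left]
      | tmul φ a =>
        have hA : ∀ E : Module.Dual k V ⊗[k] A,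
            dualTensorHom k V (A ⊗[k] A) (TensorProduct.assoc k _ A A (E ⊗ₜ[k] a)) v =
              dualTensorHom k V A E v ⊗ₜ[k] a := by
          intro E
          induction E using TensorProduct.induction_on with
          | zero => simp
          | tmul p q => simp [TensorProduct.smul_tmul']
          | add p q hp hq => simp only [map_add, TensorProduct.add_tmul, LinearMap.add_apply, hp, hq]
        rw [LinearMap.rTensor_tmul, hA,
          show dualTensorHom k V A (C φ) = ComodTens.dualCoactFun c φ from
            (dualTensorHomEquiv k V A).apply_symm_apply _, ComodTens.dualCoactFun_apply]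
        generalize c.coact v = z
        induction z using TensorProduct.induction_on with
        | zero => simp
        | tmul x b => simp [S, TensorProduct.smul_tmul]
        | add p q hp hq => simp only [map_add, TensorProduct.add_tmul, hp, hq]
    have h2 : dualTensorHom k V (A ⊗[k] A) ((Coalgebra.comul (R := k) (A := A)).lTensor _ D) v =
        Coalgebra.comul (R := k) (dualTensorHom k V A D v) := by
      generalize D = D'
      induction D' using TensorProduct.induction_on with
      | zero => simp
      | tmul p q => simp
      | add p q hp hq => simp only [map_add, LinearMap.add_apply, hp, hq]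
    change dualTensorHom k V (A ⊗[k] A) (TensorProduct.assoc k _ A A (C.rTensor A D)) v =
      dualTensorHom k V (A ⊗[k] A) ((Coalgebra.comul (R := k) (A := A)).lTensor _ D) v
    rw [h1, h2, hg, ComodTens.dualCoactFun_apply]
    have hco := LinearMap.congr_fun c.coassoc v
    simp only [LinearMap.comp_apply, LinearEquiv.coe_coe] at hco
    let K : (V ⊗[k] A) ⊗[k] A →ₗ[k] A ⊗[k] A :=
      TensorProduct.map ((TensorProduct.lid k A).toLinearMap ∘ₗ TensorProduct.map f S) S
    have h3 : TensorProduct.map (ComodTens.dualCoactFun c f) S (c.coact v) =
        K (c.coact.rTensor A (c.coact v)) := by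
      change _ = (K ∘ₗ c.coact.rTensor A) (c.coact v)
      rw [show K ∘ₗ c.coact.rTensor A = TensorProduct.map (ComodTens.dualCoactFun c f) S from
        (TensorProduct.map_comp _ _ _ _).symm]
    rw [h3, ← (TensorProduct.assoc k V A A).symm_apply_apply (c.coact.rTensor A (c.coact v)), hco]
    generalize c.coact v = z
    induction z using TensorProduct.induction_on with
    | zero => simp
    | add p q hp hq => simp only [map_add, hp, hq]
    | tmul x b =>
      simp only [LinearMap.lTensor_tmul, TensorProduct.map_tmul, TensorProduct.lid_tmul, map_smul, S]
      rw [Groth.Misc12.comul_antipode_eq]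
      generalize Coalgebra.comul (R := k) b = w
      induction w using TensorProduct.induction_on with
      | zero => simp
      | tmul p q => simp [K, S, TensorProduct.smul_tmul', TensorProduct.tmul_smul]
      | add p q hp hq => simp only [map_add, TensorProduct.tmul_add, smul_add, hp, hq]
  counit_comp := by
    refine LinearMap.ext fun f => (dualTensorHom_bijective (R := k) (M := V) (N := k)).1
      (LinearMap.ext fun v => ?_)
    simp only [LinearMap.comp_apply, LinearEquiv.coe_coe, LinearMap.flip_apply, TensorProduct.mk_apply]
    set D := (dualTensorHomEquiv k V A).symm (dualCoactLin c f) with hD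
    have hg : dualTensorHom k V A D = ComodTens.dualCoactFun c f :=
      (dualTensorHomEquiv k V A).apply_symm_apply _
    have h2 : dualTensorHom k V k ((Coalgebra.counit (R := k) (A := A)).lTensor _ D) v =
        Coalgebra.counit (R := k) (dualTensorHom k V A D v) := by
      generalize D = D'
      induction D' using TensorProduct.induction_on with
      | zero => simp
      | tmul p q => simp
      | add p q hp hq => simp only [map_add, LinearMap.add_apply, hp, hq]
    change dualTensorHom k V k ((Coalgebra.counit (R := k) (A := A)).lTensor _ D) v = _
    rw [h2, hg, ComodTens.dualCoactFun_apply, dualTensorHom_apply, smul_eq_mul, mul_one]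
    conv_rhs => rw [← op_counit (k := k) (A := A) v, op_apply]
    generalize c.coact v = z
    induction z using TensorProduct.induction_on with
    | zero => simp
    | tmul p q => simp [mul_comm]
    | add p q hp hq => simp only [map_add, hp, hq]

theorem isDual_dualComod (c : HopfRep.Comod k A V) : ComodTens.Comod.IsDual c (dualComod c) := fun f =>
  (dualTensorHomEquiv k V A).apply_symm_apply (dualCoactLin c f)

end Groth.ComodLib
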