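import Groth.Prelude.Def_CartDual
import Mathlib.RingTheory.Coalgebra.GroupLike

/-!
Separation of the tensor square of a finite projective module by pairs of functionals, and
group-like / primitive elements as functionals on the dual algebra.
-/

universe u v

open TensorProduct WithConv

namespace Groth.ComodLib

variable {R : Type u} [CommRing R]

theorem dualTensorEquiv_tmul_eq {M : Type v} [AddCommGroup M] [Module R M] [Module.Finite R M]
    [Module.Projective R M] (φ ψ : Module.Dual R M) (z : M ⊗[R] M) :
    CartDual.dualTensorEquiv R M M (φ ⊗ₜ ψ) z = LinearMap.mul' R R (TensorProduct.map φ ψ z) := by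
  induction z using TensorProduct.induction_on with
  | zero => simp
  | tmul a b => simp
  | add a b ha hb => simp [ha, hb]

/-- Pairs of functionals separate the tensor square of a finite projective module. -/
theorem eq_of_mul'_map {M : Type v} [AddCommGroup M] [Module R M] [Module.Finite R M]
    [Module.Projective R M] {z z' : M ⊗[R] M}
    (h : ∀ φ ψ : M →ₗ[R] R, LinearMap.mul' R R (TensorProduct.map φ ψ z) =
      LinearMap.mul' R R (TensorProduct.map φ ψ z')) : z = z' := by
  rw [← sub_eq_zero, ← Module.forall_dual_apply_eq_zero_iff R]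
  intro f
  obtain ⟨y, rfl⟩ := (CartDual.dualTensorEquiv R M M).surjective f
  induction y using TensorProduct.induction_on with
  | zero => simp
  | tmul φ ψ => rw [dualTensorEquiv_tmul_eq, map_sub, map_sub, h, sub_self]
  | add a b ha hb => rw [map_add, LinearMap.add_apply, ha, hb, add_zero]

section coalg

variable {A : Type v} [AddCommGroup A] [Module R A] [Coalgebra R A]

theorem conv_mul_apply (φ ψ : WithConv (A →ₗ[R] R)) (x : A) :
    (φ * ψ) x = LinearMap.mul' R R (TensorProduct.map φ.ofConv ψ.ofConv (Coalgebra.comul (R := R) x)) :=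
  LinearMap.convMul_apply φ ψ x

theorem conv_one_apply (x : A) : (1 : WithConv (A →ₗ[R] R)) x = Coalgebra.counit (R := R) x := by
  simp [LinearMap.convOne_def]

variable [Module.Finite R A] [Module.Projective R A]

/-- The element of `A` with given values of functionals. -/
noncomputable def ofFunctional (f : WithConv (A →ₗ[R] R) →ₗ[R] R) : A :=
  (Module.evalEquiv R A).symm (f ∘ₗ (WithConv.linearEquiv R (A →ₗ[R] R)).symm.toLinearMap)

theorem apply_ofFunctional (f : WithConv (A →ₗ[R] R) →ₗ[R] R) (φ : A →ₗ[R] R) :
    φ (ofFunctional f) = f (toConv φ) := by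
  rw [ofFunctional, Module.apply_evalEquiv_symm_apply]
  rfl

theorem ofFunctional_unique {x : A} {f : WithConv (A →ₗ[R] R) →ₗ[R] R}
    (h : ∀ φ : A →ₗ[R] R, φ x = f (toConv φ)) : x = ofFunctional f := by
  rw [← sub_eq_zero, ← Module.forall_dual_apply_eq_zero_iff R]
  intro φ
  rw [map_sub, h, apply_ofFunctional, sub_self]

/-- An element is group-like iff evaluation at it is multiplicative and unital. -/
theorem isGroupLikeElem_iff_eval (x : A) :
    IsGroupLikeElem R x ↔ (1 : WithConv (A →ₗ[R] R)) x = 1 ∧
      ∀ φ ψ : WithConv (A →ₗ[R] R), (φ * ψ) x = φ x * ψ x := by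
  constructor
  · intro hx
    refine ⟨by rw [conv_one_apply]; exact hx.counit_eq_one, fun φ ψ => ?_⟩
    rw [conv_mul_apply, hx.comul_eq_tmul_self]
    simp
  · intro ⟨h1, h2⟩
    refine ⟨by rw [← conv_one_apply]; exact h1, eq_of_mul'_map fun φ ψ => ?_⟩
    have := h2 (toConv φ) (toConv ψ)
    rw [conv_mul_apply] at this
    simpa using this

end coalg

section bialg

variable {A : Type v} [Ring A] [Bialgebra R A] [Module.Finite R A] [Module.Projective R A]

/-- An element is primitive iff evaluation at it is a derivation at the augmentation. -/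
theorem isPrimitive_iff_eval (x : A) :
    Coalgebra.comul (R := R) x = x ⊗ₜ[R] (1 : A) + (1 : A) ⊗ₜ[R] x ↔
      ∀ φ ψ : WithConv (A →ₗ[R] R), (φ * ψ) x = φ x * ψ 1 + φ 1 * ψ x := by
  constructor
  · intro hx φ ψ
    rw [conv_mul_apply, hx]
    simp
  · intro h
    refine eq_of_mul'_map fun φ ψ => ?_
    have := h (toConv φ) (toConv ψ)
    rw [conv_mul_apply] at this
    simpa using this

end bialg

end Groth.ComodLib
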