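import Groth.Agent.Hopf.Regular
import Groth.Prelude.Def_GLin4

/-!
# Maps from the coordinate Hopf algebra of `GL_n` given by comultiplicative matrices
-/

set_option autoImplicit false
set_option linter.unusedSectionVars false

universe u v w

open TensorProduct

noncomputable section

namespace Groth.ComodLib

section Matrix

variable {k : Type u} [CommRing k] {n : ℕ} {A : Type v} [CommRing A] [HopfAlgebra k A]

/-- a point of `GL_n` is determined by its matrix entries -/
theorem glnAlgHom_ext {B : Type w} [CommRing B] [Algebra k B] {f g : CoordGrp.GLn n k →ₐ[k] B}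
    (h : ∀ i j, f (CoordGrp.GLn.X i j) = g (CoordGrp.GLn.X i j)) : f = g := by
  refine CoordGrp.GLn.algHom_ext h ?_
  have hd : f CoordGrp.GLn.det = g CoordGrp.GLn.det := by
    rw [CoordGrp.GLn.det_eq, AlgHom.map_det, AlgHom.map_det]
    congr 1
    ext i j
    exact h i j
  exact left_inv_eq_right_inv
    (show f CoordGrp.GLn.Dinv * f CoordGrp.GLn.det = 1 by rw [← map_mul, CoordGrp.GLn.Dinv_mul_det, map_one])
    (show f CoordGrp.GLn.det * g CoordGrp.GLn.Dinv = 1 by
      rw [hd, ← map_mul, CoordGrp.GLn.det_mul_Dinv, map_one])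

/-- a comultiplicative matrix is invertible and defines a bialgebra map out of `GL_n` -/
theorem exists_bialgHom_of_matrix (M : Matrix (Fin n) (Fin n) A)
    (hΔ : ∀ i j, Coalgebra.comul (R := k) (M i j) = ∑ l, M i l ⊗ₜ[k] M l j)
    (hε : ∀ i j, Coalgebra.counit (R := k) (M i j) = if i = j then (1 : k) else 0) :
    ∃ π : CoordGrp.GLn n k →ₐc[k] A, ∀ i j, π (CoordGrp.GLn.X i j) = M i j := by
  have hinv : M * M.map (HopfAlgebraStruct.antipode k) = 1 := by
    ext i j
    have h := HopfAlgebra.mul_antipode_lTensor_comul_apply (R := k) (M i j)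
    rw [hΔ, hε, map_sum, map_sum] at h
    simp only [LinearMap.lTensor_tmul, LinearMap.mul'_apply] at h
    simp only [Matrix.mul_apply, Matrix.map_apply, Matrix.one_apply]
    rw [h]
    split_ifs <;> simp
  have hdet : M.det * (M.map (HopfAlgebraStruct.antipode k)).det = 1 := by
    rw [← Matrix.det_mul, hinv, Matrix.det_one]
  refine ⟨BialgHom.ofAlgHom (CoordGrp.GLn.pt n k M _ hdet) ?_ ?_, fun i j => CoordGrp.GLn.pt_X M _ hdet i j⟩
  · refine glnAlgHom_ext fun i j => ?_
    rw [AlgHom.comp_apply, CoordGrp.GLn.pt_X]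
    exact (hε i j).trans (CoordGrp.GLn.counit_X i j).symm
  · refine glnAlgHom_ext fun i j => ?_
    simp only [AlgHom.comp_apply, Bialgebra.comulAlgHom_apply, CoordGrp.GLn.pt_X, CoordGrp.GLn.comul_X,
      map_sum, Algebra.TensorProduct.map_tmul, hΔ]

end Matrix

section Coefficients

variable {k : Type u} [Field k] {A : Type v} [AddCommGroup A] [Module k A] [Coalgebra k A]
  {V : Type w} [AddCommGroup V] [Module k V] [HopfRep.Comod k A V] {n : ℕ} (b : Module.Basis (Fin n) k V)

theorem sum_tmul_lslice_coord (x : V ⊗[k] A) : ∑ l, b l ⊗ₜ[k] lslice (b.coord l) x = x := by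
  induction x using TensorProduct.induction_on with
  | zero => simp
  | tmul p q =>
    simp only [lslice_tmul, TensorProduct.tmul_smul, TensorProduct.smul_tmul', ← TensorProduct.sum_tmul]
    congr 1
    exact b.sum_repr p
  | add p q hp hq => simp only [map_add, TensorProduct.tmul_add, Finset.sum_add_distrib, hp, hq]

/-- the matrix of coefficients of a comodule in a basis -/
def cfMat : Matrix (Fin n) (Fin n) A := fun i j => cf (A := A) (b.coord i) (b j)

theorem coact_basis (j : Fin n) :
    HopfRep.Comod.coact (k := k) (A := A) (b j) = ∑ l, b l ⊗ₜ[k] cfMat (A := A) b l j :=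
  (sum_tmul_lslice_coord b _).symm

theorem comul_cfMat (i j : Fin n) :
    Coalgebra.comul (R := k) (cfMat (A := A) b i j) = ∑ l, cfMat (A := A) b i l ⊗ₜ[k] cfMat (A := A) b l j := by
  change Coalgebra.comul (R := k) (cf (A := A) (b.coord i) (b j)) = _
  rw [comul_cf, coact_basis, map_sum]
  rfl

theorem counit_cfMat (i j : Fin n) :
    Coalgebra.counit (R := k) (cfMat (A := A) b i j) = if i = j then (1 : k) else 0 := by
  change Coalgebra.counit (R := k) (cf (A := A) (b.coord i) (b j)) = _
  rw [apply_cf, op_counit, Module.Basis.coord_apply, Module.Basis.repr_self, Finsupp.single_apply]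
  simp [eq_comm]

theorem cf_mem_span_cfMat (ψ : V →ₗ[k] k) (x : V) :
    cf (A := A) ψ x ∈ Submodule.span k (Set.range fun p : Fin n × Fin n => cfMat (A := A) b p.1 p.2) := by
  rw [← b.sum_repr x, map_sum]
  refine Submodule.sum_mem _ fun j _ => ?_
  rw [map_smul, cf_apply, coact_basis, map_sum]
  refine Submodule.smul_mem _ _ (Submodule.sum_mem _ fun l _ => ?_)
  rw [lslice_tmul]
  exact Submodule.smul_mem _ _ (Submodule.subset_span ⟨(l, j), rfl⟩)

end Coefficients

/-- every finitely generated commutative Hopf algebra over a field is a quotient of some `GL_n` -/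
theorem exists_surjective_bialgHom_GLn {k : Type u} {A : Type u} [Field k] [CommRing A] [HopfAlgebra k A]
    [Algebra.FiniteType k A] :
    ∃ (n : ℕ) (π : CoordGrp.GLn n k →ₐc[k] A), Function.Surjective π := by
  obtain ⟨s, hs⟩ := Algebra.FiniteType.out (R := k) (A := A)
  obtain ⟨W, hfin, hsW, hW⟩ := exists_finite_subcomod_span (k := k) (A := A) (V := A) s.finite_toSet
  let c : HopfRep.Comod k A A := inferInstance
  let d := ComodSub.Comod.restr c W hW
  have hsub : Hoch.IsComodHom A W.subtype := ComodSub.isComodHom_subtype c W hW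
  let b := Module.finBasis k W
  obtain ⟨π, hπ⟩ := exists_bialgHom_of_matrix (cfMat (A := A) b) (comul_cfMat b) (counit_cfMat b)
  refine ⟨_, π, ?_⟩
  have hrange : (BialgHom.toAlgHom π).range = ⊤ := by
    refine top_le_iff.1 (hs ▸ Algebra.adjoin_le fun x hx => ?_)
    have h1 : x ∈ coeff k A W := range_le_coeff hsub ⟨⟨x, hsW hx⟩, rfl⟩
    have h2 : coeff k A W ≤ Subalgebra.toSubmodule (BialgHom.toAlgHom π).range := by
      refine iSup_le fun ψ => ?_
      rintro _ ⟨y, rfl⟩
      refine Submodule.span_le.2 ?_ (cf_mem_span_cfMat b ψ y)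
      rintro _ ⟨p, rfl⟩
      exact ⟨CoordGrp.GLn.X p.1 p.2, hπ _ _⟩
    exact h2 h1
  intro a
  obtain ⟨y, hy⟩ := hrange.ge (Algebra.mem_top : a ∈ (⊤ : Subalgebra k A))
  exact ⟨y, hy⟩

end Groth.ComodLib
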