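import Groth.Agent.FlatmorThree.Pencil
import Mathlib.RingTheory.NoetherNormalization
import Mathlib.RingTheory.DedekindDomain.IntegralClosure
import Mathlib.RingTheory.Ideal.MinimalPrime.Noetherian

/-!
# Finiteness of the integral closure in a reduced algebra of finite type, characteristic zero
-/

set_option autoImplicit false

universe u

noncomputable section

namespace Groth.ComodLib

/-- integrally closed domain, finitely generated field extension -/
theorem finite_integralClosure_domain {Q D : Type u} [CommRing Q] [IsDomain Q] [IsNoetherianRing Q]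
    [IsIntegrallyClosed Q] [CharZero Q] [CommRing D] [IsDomain D] [Algebra Q D] [Algebra.FiniteType Q D]
    (hinj : Function.Injective (algebraMap Q D)) : Module.Finite Q (integralClosure Q D) := by
  let K := FractionRing Q
  let F := FractionRing D
  have hQF : Function.Injective (algebraMap Q F) := by
    rw [IsScalarTower.algebraMap_eq Q D F]
    exact (IsFractionRing.injective D F).comp hinj
  have : FaithfulSMul Q F := (faithfulSMul_iff_algebraMap_injective Q F).2 hQF
  letI : Algebra K F := FractionRing.liftAlgebra Q F
  have : IsScalarTower Q K F := inferInstance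
  have : Algebra.EssFiniteType D F := Algebra.EssFiniteType.of_isLocalization F (nonZeroDivisors D)
  have : Algebra.EssFiniteType Q F := Algebra.EssFiniteType.comp Q D F
  have : Algebra.EssFiniteType K F := Algebra.EssFiniteType.of_comp Q K F
  let L := algebraicClosure K F
  have : FiniteDimensional K L := Groth.FlatmorThree.Pencil.finite_algebraicClosure K F
  have : CharZero K := charZero_of_injective_algebraMap (IsFractionRing.injective Q K)
  have : Module.Finite Q (integralClosure Q L) := IsIntegralClosure.finite Q K L (integralClosure Q L)
  let j : integralClosure Q D →ₗ[Q] integralClosure Q L :=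
    { toFun := fun x => ⟨⟨algebraMap D F x.1, mem_algebraicClosure_iff.2
        (x.2.map (IsScalarTower.toAlgHom Q D F)).tower_top.isAlgebraic⟩, by
          refine (isIntegral_algHom_iff (L.val.restrictScalars Q) Subtype.val_injective).1 ?_
          exact x.2.map (IsScalarTower.toAlgHom Q D F)⟩
      map_add' := fun x y => Subtype.ext (Subtype.ext (map_add (algebraMap D F) x.1 y.1))
      map_smul' := fun c x => Subtype.ext (Subtype.ext (by
        change algebraMap D F (c • x.1) = c • algebraMap D F x.1
        rw [Algebra.smul_def, map_mul, ← IsScalarTower.algebraMap_apply, ← Algebra.smul_def])) }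
  refine Module.Finite.of_injective j fun x y h => Subtype.ext (IsFractionRing.injective D F ?_)
  exact congrArg (fun z : integralClosure Q L => ((z : L) : F)) h

/-- integral closure of a finitely generated subalgebra in a reduced algebra of finite type -/
theorem finite_integralClosure_reduced {k B : Type u} [Field k] [CharZero k] [CommRing B] [Algebra k B]
    [Algebra.FiniteType k B] [IsReduced B] (R₀ : Subalgebra k B) [Algebra.FiniteType k R₀] :
    Module.Finite R₀ (integralClosure R₀ B) := by
  have : IsNoetherianRing B := Algebra.FiniteType.isNoetherianRing k B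
  have : IsNoetherianRing R₀ := Algebra.FiniteType.isNoetherianRing k R₀
  have : Finite (minimalPrimes B) := (minimalPrimes.finite_of_isNoetherianRing B).to_subtype
  have hfin : ∀ P : minimalPrimes B, Module.Finite R₀ (integralClosure R₀ (B ⧸ P.1)) := by
    intro P
    have : P.1.IsPrime := P.2.1.1
    let D := B ⧸ P.1
    let f : R₀ →ₐ[k] D := (Ideal.Quotient.mkₐ k P.1).comp R₀.val
    let R' := f.range
    have : Algebra.FiniteType k R' :=
      Algebra.FiniteType.of_surjective f.rangeRestrict f.rangeRestrict_surjective
    obtain ⟨s, g, hg, hgfin⟩ := exists_finite_inj_algHom_of_fg k R'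
    let h : MvPolynomial (Fin s) k →ₐ[k] D := R'.val.comp g
    letI : Algebra (MvPolynomial (Fin s) k) D := h.toRingHom.toAlgebra
    have : IsScalarTower k (MvPolynomial (Fin s) k) D := IsScalarTower.of_algebraMap_eq fun c => (h.commutes c).symm
    have : Algebra.FiniteType (MvPolynomial (Fin s) k) D := Algebra.FiniteType.of_restrictScalars_finiteType k _ _
    have hinj : Function.Injective (algebraMap (MvPolynomial (Fin s) k) D) := Subtype.val_injective.comp hg
    have hQ := finite_integralClosure_domain hinj
    obtain ⟨T, hT⟩ := Module.finite_def.1 hQ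
    -- the integral elements over `R₀` are those over the polynomial ring
    have hint : ∀ x : D, IsIntegral R₀ x → IsIntegral (MvPolynomial (Fin s) k) x := by
      intro x hx
      letI : Algebra (MvPolynomial (Fin s) k) R' := g.toRingHom.toAlgebra
      have : IsScalarTower (MvPolynomial (Fin s) k) R' D := IsScalarTower.of_algebraMap_eq fun c => rfl
      have : Module.Finite (MvPolynomial (Fin s) k) R' := hgfin
      letI : Algebra R₀ R' := f.rangeRestrict.toRingHom.toAlgebra
      have : IsScalarTower R₀ R' D := IsScalarTower.of_algebraMap_eq fun c => rfl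
      exact isIntegral_trans x (hx.tower_top (A := R'))
    have hle : ∀ x : D, x ∈ integralClosure (MvPolynomial (Fin s) k) D → IsIntegral R₀ x := by
      intro x hx
      letI : Algebra (MvPolynomial (Fin s) k) R' := g.toRingHom.toAlgebra
      have : IsScalarTower (MvPolynomial (Fin s) k) R' D := IsScalarTower.of_algebraMap_eq fun c => rfl
      letI : Algebra R₀ R' := f.rangeRestrict.toRingHom.toAlgebra
      have : IsScalarTower R₀ R' D := IsScalarTower.of_algebraMap_eq fun c => rfl
      have hsurj : Function.Surjective (algebraMap R₀ R') := f.rangeRestrict_surjective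
      have : Algebra.IsIntegral R₀ R' := ⟨fun y => by obtain ⟨z, rfl⟩ := hsurj y; exact isIntegral_algebraMap⟩
      exact isIntegral_trans x (IsIntegral.tower_top (A := R') hx)
    classical
    refine Module.finite_def.2 ⟨T.image fun t => ⟨t.1, hle t.1 t.2⟩, top_le_iff.1 fun x _ => ?_⟩
    have hx : (⟨x.1, hint x.1 x.2⟩ : integralClosure (MvPolynomial (Fin s) k) D) ∈ Submodule.span _ (T : Set _) :=
      hT.ge Submodule.mem_top
    suffices H : ∀ y ∈ Submodule.span (MvPolynomial (Fin s) k) (T : Set (integralClosure (MvPolynomial (Fin s) k) D)),
        (⟨y.1, hle y.1 y.2⟩ : integralClosure R₀ D) ∈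
          Submodule.span R₀ ((T.image fun t => (⟨t.1, hle t.1 t.2⟩ : integralClosure R₀ D) : Finset _) : Set _) from H _ hx
    intro y hy
    induction hy using Submodule.span_induction with
    | mem z hz => exact Submodule.subset_span (Finset.mem_coe.2 (Finset.mem_image_of_mem _ hz))
    | zero => exact (Submodule.span _ _).zero_mem
    | add a b _ _ ha hb => exact (Submodule.span _ _).add_mem ha hb
    | smul c a _ ha =>
      obtain ⟨r, hr⟩ := f.rangeRestrict_surjective (g c)
      have he : (⟨(c • a : integralClosure (MvPolynomial (Fin s) k) D).1, hle _ (c • a).2⟩ : integralClosure R₀ D) =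
          r • ⟨a.1, hle a.1 a.2⟩ := by
        apply Subtype.ext
        change c • a.1 = r • a.1
        rw [Algebra.smul_def, Algebra.smul_def]
        exact congrArg (· * a.1) (congrArg Subtype.val hr).symm
      rw [he]
      exact (Submodule.span _ _).smul_mem r ha
  cases nonempty_fintype (minimalPrimes B)
  let Φ : integralClosure R₀ B →ₗ[R₀] ∀ P : minimalPrimes B, integralClosure R₀ (B ⧸ P.1) :=
    LinearMap.pi fun P =>
      { toFun := fun x => ⟨Ideal.Quotient.mkₐ R₀ P.1 x.1, x.2.map _⟩
        map_add' := fun x y => Subtype.ext (map_add _ x.1 y.1)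
        map_smul' := fun c x => Subtype.ext (map_smul (Ideal.Quotient.mkₐ R₀ P.1) c x.1) }
  have hΦ : Function.Injective Φ := by
    intro x y hxy
    apply Subtype.ext
    rw [← sub_eq_zero]
    refine IsNilpotent.eq_zero (mem_nilradical.1 ?_)
    rw [nilradical, Ideal.zero_eq_bot, ← Ideal.sInf_minimalPrimes, Ideal.mem_sInf]
    intro P hP
    exact (Ideal.Quotient.mk_eq_mk_iff_sub_mem x.1 y.1).1 (congrArg Subtype.val (congrFun hxy ⟨P, hP⟩))
  exact Module.Finite.of_injective Φ hΦ

end Groth.ComodLib
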