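import Groth.Agent.Hopf.FreeOrbit
import Groth.Agent.FlatMorOne.GenFlatAlgebra
import Groth.Agent.Sga3.HopfFiniteLocal
import Mathlib.RingTheory.Flat.Localization
import Mathlib.RingTheory.RingHom.Flat
import Mathlib.RingTheory.Flat.FaithfullyFlat.Basic

/-!
# The orbit map of a connected group is flat onto its image; functions on a closed orbit
-/

set_option autoImplicit false
set_option linter.unusedSectionVars false

universe u

open TensorProduct WithConv Groth.Sga3.HopfFin

noncomputable section

namespace Groth.ComodLib

variable {k : Type u} [Field k] {A : Type u} [CommRing A] [HopfAlgebra k A]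
  {R : Type u} [CommRing R] [Algebra k R] [HopfRep.Comod k A R] [GLin.IsCoactAlg k A R]

/-- translation of functions by a point -/
def transAlg (g : A →ₐ[k] k) : A →ₐ[k] A :=
  (Algebra.TensorProduct.rid k k A).toAlgHom.comp
    ((Algebra.TensorProduct.map (AlgHom.id k A) g).comp (Bialgebra.comulAlgHom k A))

theorem transAlg_apply (g : A →ₐ[k] k) (a : A) : transAlg g a = op (V := A) g.toLinearMap a := by
  rw [op_apply]
  change (Algebra.TensorProduct.rid k k A) (Algebra.TensorProduct.map (AlgHom.id k A) g (Coalgebra.comul (R := k) a)) =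
    slice g.toLinearMap (Coalgebra.comul (R := k) a)
  induction Coalgebra.comul (R := k) a using TensorProduct.induction_on with
  | zero => simp
  | tmul p q => simp
  | add p q hp hq => simp only [map_add, hp, hq]

theorem apply_transAlg (h g : A →ₐ[k] k) (a : A) :
    h (transAlg g a) = (toConv h * toConv g : WithConv (A →ₐ[k] k)) a := by
  rw [transAlg_apply, op_apply]
  change h (slice g.toLinearMap (Coalgebra.comul (R := k) a)) =
    ((Algebra.TensorProduct.lmul' k).comp (Algebra.TensorProduct.map h g)) (Coalgebra.comul (R := k) a)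
  induction Coalgebra.comul (R := k) a using TensorProduct.induction_on with
  | zero => simp
  | tmul p q => simp [mul_comm]
  | add p q hp hq => simp only [map_add, hp, hq]

theorem transAlg_transAlg (g g' : WithConv (A →ₐ[k] k)) (a : A) :
    transAlg g.ofConv (transAlg g'.ofConv a) = transAlg (g * g').ofConv a := by
  rw [transAlg_apply, transAlg_apply, transAlg_apply]
  have h := op_mul (V := A) (toConv g.ofConv.toLinearMap) (toConv g'.ofConv.toLinearMap) a
  rw [← h]
  congr 1

theorem transAlg_one (a : A) : transAlg (1 : WithConv (A →ₐ[k] k)).ofConv a = a := by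
  rw [transAlg_apply]
  have : ((1 : WithConv (A →ₐ[k] k)).ofConv.toLinearMap) = Coalgebra.counit (R := k) (A := A) := by
    ext a; simp
  rw [this, op_counit]

/-- translation as an automorphism -/
def transEquiv (g : WithConv (A →ₐ[k] k)) : A ≃ₐ[k] A :=
  AlgEquiv.ofAlgHom (transAlg g.ofConv) (transAlg g⁻¹.ofConv)
    (AlgHom.ext fun a => by simp [transAlg_transAlg, transAlg_one])
    (AlgHom.ext fun a => by simp [transAlg_transAlg, transAlg_one])

theorem transEquiv_apply (g : WithConv (A →ₐ[k] k)) (a : A) : transEquiv g a = transAlg g.ofConv a := rfl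

theorem transAlg_mem_range (x : R →ₐ[k] k) (g : A →ₐ[k] k) {a : A}
    (ha : a ∈ (GLin.orbitHom k A x).range) : transAlg g a ∈ (GLin.orbitHom k A x).range := by
  obtain ⟨f, rfl⟩ := ha
  exact ⟨op g.toLinearMap f, (isComodHom_op (isComodHom_orbitHom x) _ f).trans (transAlg_apply g _).symm⟩

/-- translation on the functions of the orbit -/
def transRange (x : R →ₐ[k] k) (g : WithConv (A →ₐ[k] k)) :
    (GLin.orbitHom k A x).range →ₐ[k] (GLin.orbitHom k A x).range :=
  ((transAlg g.ofConv).comp (GLin.orbitHom k A x).range.val).codRestrict _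
    fun b => transAlg_mem_range x _ b.2

/-- generic flatness and homogeneity: the orbit map is flat onto its image -/
theorem flat_orbitRange [IsAlgClosed k] [IsDomain A] [Algebra.FiniteType k A] (x : R →ₐ[k] k) :
    Module.Flat (GLin.orbitHom k A x).range A := by
  classical
  let B := (GLin.orbitHom k A x).range
  have : Algebra.FiniteType B A := Algebra.FiniteType.of_restrictScalars_finiteType k B A
  obtain ⟨b, hb0, -, hb⟩ := FlatMorOne.exists_flat_finitePresentation_away (R := B) A (one_ne_zero (α := B))
  obtain ⟨hflat, -⟩ := hb b dvd_rfl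
  have hb0' : (b : A) ≠ 0 := fun h => hb0 (Subtype.ext h)
  -- the group has a point where `b` does not vanish
  obtain ⟨g₀, hg₀⟩ : ∃ g₀ : A →ₐ[k] k, g₀ b ≠ 0 := by
    by_contra h
    push Not at h
    exact hb0' (IsNilpotent.eq_zero (GitQuot.isNilpotent_of_forall_point _ h))
  let s : Set A := Set.range fun g : WithConv (A →ₐ[k] k) => transAlg g.ofConv b
  have hspan : Ideal.span s = ⊤ := by
    by_contra hne
    obtain ⟨h, hh⟩ := GitQuot.exists_point (k := k) _ hne
    have h1 : h (transAlg ((toConv h)⁻¹ * toConv g₀).ofConv b) = 0 :=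
      hh (Ideal.subset_span ⟨_, rfl⟩)
    rw [apply_transAlg, toConv_ofConv, mul_inv_cancel_left] at h1
    exact hg₀ h1
  -- localisation at `b`
  have hb1 : Module.Flat B (Localization.Away (b : A)) := by
    let C := A ⊗[B] Localization.Away b
    have hfl : Module.Flat B (Localization.Away b) := IsLocalization.flat _ (Submonoid.powers b)
    have : Module.Flat B (Localization.Away b ⊗[B] A) := Module.Flat.trans B (Localization.Away b) _
    have : Module.Flat B C :=
      Module.Flat.of_linearEquiv (TensorProduct.comm B A (Localization.Away b))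
    have : IsLocalization (Submonoid.powers (b : A)) C := by
      have h : IsLocalization (Algebra.algebraMapSubmonoid A (Submonoid.powers b)) C :=
        IsLocalization.tensor (S := A) (Localization.Away b) (Submonoid.powers b)
      rwa [Algebra.algebraMapSubmonoid_powers] at h
    let eC : C ≃ₐ[A] Localization.Away (b : A) := IsLocalization.algEquiv (Submonoid.powers (b : A)) C _
    exact Module.Flat.of_linearEquiv (eC.toLinearEquiv.restrictScalars B).symm
  have key : ∀ r : s, Module.Flat B (Localization.Away r.1) := by
    rintro ⟨_, g, rfl⟩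
    let τ := transEquiv g
    have hmap : (Submonoid.powers (b : A)).map τ.toAlgHom = Submonoid.powers (τ b) := Submonoid.map_powers _ _
    let e : Localization.Away (b : A) ≃ₐ[k] Localization.Away (τ (b : A)) :=
      IsLocalization.algEquivOfAlgEquiv (Localization.Away (b : A)) (Localization.Away (τ (b : A))) τ hmap
    let t : B →ₐ[k] B := transRange x g⁻¹
    have ht : Function.Bijective t := by
      refine Function.bijective_iff_has_inverse.2 ⟨transRange x g, fun c => Subtype.ext ?_, fun c => Subtype.ext ?_⟩
      · change transAlg g.ofConv (transAlg g⁻¹.ofConv c.1) = c.1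
        rw [transAlg_transAlg, mul_inv_cancel, transAlg_one]
      · change transAlg g⁻¹.ofConv (transAlg g.ofConv c.1) = c.1
        rw [transAlg_transAlg, inv_mul_cancel, transAlg_one]
    have h1 : RingHom.Flat (algebraMap B (Localization.Away (b : A))) := RingHom.flat_algebraMap_iff.2 hb1
    have h2 := (h1.comp (RingHom.Flat.of_bijective (f := e.toRingEquiv.toRingHom) e.bijective))
    have h3 := (RingHom.Flat.of_bijective (f := t.toRingHom) ht).comp h2
    refine RingHom.flat_algebraMap_iff.1 ?_
    refine (congrArg RingHom.Flat (RingHom.ext fun c => ?_)).mp h3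
    change e (algebraMap B (Localization.Away (b : A)) (t c)) = algebraMap B (Localization.Away (τ (b : A))) c
    rw [IsScalarTower.algebraMap_apply B A (Localization.Away (b : A)),
      IsScalarTower.algebraMap_apply B A (Localization.Away (τ (b : A)))]
    rw [IsLocalization.algEquivOfAlgEquiv_eq]
    congr 1
    change transAlg g.ofConv (transAlg g⁻¹.ofConv c.1) = c.1
    rw [transAlg_transAlg, mul_inv_cancel, transAlg_one]
  exact Module.flat_of_isLocalized_span (R := B) (S := A) A s hspan (fun r => Localization.Away r.1)
    (fun r => (IsScalarTower.toAlgHom A A (Localization.Away r.1)).toLinearMap) key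

/-- a closed orbit: the orbit map is faithfully flat onto its image -/
theorem faithfullyFlat_orbitRange [IsAlgClosed k] [IsDomain A] [Algebra.FiniteType k A] (x : R →ₐ[k] k)
    (hx : GLin.IsClosedOrbit k A x) :
    Module.FaithfullyFlat (GLin.orbitHom k A x).range A := by
  let B := (GLin.orbitHom k A x).range
  have := flat_orbitRange (A := A) x
  refine Module.FaithfullyFlat.of_comap_surjective fun P => ?_
  let π := (GLin.orbitHom k A x).rangeRestrict
  let Q := PrimeSpectrum.comap π.toRingHom P
  have hQ : Q ∈ Set.range (PrimeSpectrum.comap (GLin.orbitHom k A x).toRingHom) := by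
    rw [← hx.closure_eq, PrimeSpectrum.closure_range_comap, PrimeSpectrum.mem_zeroLocus]
    intro f hf
    have h1 : π f = 0 := Subtype.ext hf
    change π f ∈ P.asIdeal
    rw [h1]
    exact zero_mem _
  obtain ⟨T, hT⟩ := hQ
  refine ⟨T, ?_⟩
  refine PrimeSpectrum.comap_injective_of_surjective π.toRingHom (GLin.orbitHom k A x).rangeRestrict_surjective ?_
  refine Eq.trans ?_ hT
  rw [← PrimeSpectrum.comap_comp_apply]
  rfl

/-- functions invariant under the stabiliser come from the orbit -/
theorem mem_range_orbitHom [IsAlgClosed k] [IsDomain A] [Algebra.FiniteType k A] (x : R →ₐ[k] k)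
    (hx : GLin.IsClosedOrbit k A x) {a : A}
    (ha : Algebra.TensorProduct.map (Ideal.Quotient.mkₐ k (GLin.stabIdeal k A x)) (AlgHom.id k A)
      (Coalgebra.comul (R := k) a) = 1 ⊗ₜ[k] a) :
    a ∈ (GLin.orbitHom k A x).range := by
  classical
  let B := (GLin.orbitHom k A x).range
  have := faithfullyFlat_orbitRange (A := A) x hx
  let T := A ⊗[B] A
  let L : A →ₐ[k] T := (Algebra.TensorProduct.includeLeft (R := B) (S := B)).restrictScalars k
  let R' : A →ₐ[k] T := (Algebra.TensorProduct.includeRight (R := B)).restrictScalars k
  let κ : A →ₐ[k] T :=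
    (toConv L * toConv (R'.comp (HopfAlgebra.antipodeAlgHom k A))).ofConv
  have hκ : ∀ c : A, κ c = (Algebra.TensorProduct.lmul' k).comp
      (Algebra.TensorProduct.map L (R'.comp (HopfAlgebra.antipodeAlgHom k A))) (Coalgebra.comul (R := k) c) :=
    fun c => rfl
  let Ψ : A ⊗[k] A →ₐ[k] T := Algebra.TensorProduct.lift κ R' fun _ _ => Commute.all _ _
  have hΨΔ : ∀ c : A, Ψ (Coalgebra.comul (R := k) c) = c ⊗ₜ[B] (1 : A) := by
    intro c
    have hinv : toConv (R'.comp (HopfAlgebra.antipodeAlgHom k A)) * toConv R' = 1 := by
      apply WithConv.ofConv_injective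
      refine AlgHom.ext fun c => ?_
      have h := HopfAlgebra.mul_antipode_rTensor_comul_apply (R := k) c
      change (Algebra.TensorProduct.lmul' k).comp (Algebra.TensorProduct.map (R'.comp (HopfAlgebra.antipodeAlgHom k A)) R')
        (Coalgebra.comul (R := k) c) = algebraMap k T (Coalgebra.counit (R := k) c)
      rw [← R'.commutes, ← h]
      induction Coalgebra.comul (R := k) c using TensorProduct.induction_on with
      | zero => simp
      | tmul p q => simp
      | add p q hp hq => simp only [map_add, hp, hq]
    have h1 : toConv L * (1 : WithConv (A →ₐ[k] T)) = toConv L := by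
      let : Monoid (WithConv (A →ₐ[k] T)) := inferInstance
      exact mul_one (toConv L)
    have e : (toConv κ * toConv R' : WithConv (A →ₐ[k] T)) = toConv L :=
      (mul_assoc (toConv L) (toConv (R'.comp (HopfAlgebra.antipodeAlgHom k A))) (toConv R')).trans
        ((congrArg (fun F => toConv L * F) hinv).trans h1)
    have h := congrArg (fun F : WithConv (A →ₐ[k] T) => F c) e
    refine Eq.trans ?_ h
    change Ψ (Coalgebra.comul (R := k) c) =
      (Algebra.TensorProduct.lmul' k).comp (Algebra.TensorProduct.map κ R') (Coalgebra.comul (R := k) c)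
    induction Coalgebra.comul (R := k) c using TensorProduct.induction_on with
    | zero => simp
    | tmul p q => simp [Ψ]
    | add p q hp hq => simp only [map_add, hp, hq]
  have hΨI : ∀ c ∈ GLin.stabIdeal k A x, κ c = 0 := by
    have hle : GLin.stabIdeal k A x ≤ RingHom.ker κ := by
      refine Ideal.map_le_iff_le_comap.2 fun f hf => ?_
      rw [Ideal.mem_comap, RingHom.mem_ker, hκ]
      -- the first legs of the comultiplication lie in the orbit functions
      have hc := LinearMap.congr_fun (isComodHom_orbitHom (A := A) x) f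
      simp only [LinearMap.comp_apply, AlgHom.toLinearMap_apply] at hc
      change ((Algebra.TensorProduct.lmul' k).comp (Algebra.TensorProduct.map L (R'.comp (HopfAlgebra.antipodeAlgHom k A))))
        (Coalgebra.comul (R := k) (GLin.orbitHom k A x f)) = 0
      rw [show Coalgebra.comul (R := k) (GLin.orbitHom k A x f) = _ from hc]
      have key : ∀ z : R ⊗[k] A, ((Algebra.TensorProduct.lmul' k).comp
          (Algebra.TensorProduct.map L (R'.comp (HopfAlgebra.antipodeAlgHom k A))))
            ((GLin.orbitHom k A x).toLinearMap.rTensor A z) =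
          R' (LinearMap.mul' k A ((HopfAlgebraStruct.antipode k).lTensor A ((GLin.orbitHom k A x).toLinearMap.rTensor A z))) := by
        intro z
        induction z using TensorProduct.induction_on with
        | zero => simp
        | tmul p q =>
          simp only [LinearMap.rTensor_tmul, AlgHom.toLinearMap_apply, AlgHom.comp_apply, Algebra.TensorProduct.map_tmul,
            Algebra.TensorProduct.lmul'_apply_tmul, HopfAlgebra.antipodeAlgHom_apply, LinearMap.lTensor_tmul,
            LinearMap.mul'_apply]
          rw [map_mul]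
          congr 1
          let pB : B := ⟨GLin.orbitHom k A x p, ⟨p, rfl⟩⟩
          change (pB : A) ⊗ₜ[B] (1 : A) = (1 : A) ⊗ₜ[B] (pB : A)
          rw [← mul_one (pB : A), show (pB : A) * 1 = pB • (1 : A) from rfl, TensorProduct.smul_tmul]
        | add p q hp hq => simp only [map_add, hp, hq]
      rw [key, ← show Coalgebra.comul (R := k) (GLin.orbitHom k A x f) = _ from hc,
        HopfAlgebra.mul_antipode_lTensor_comul_apply, ← GitQuot.apply_eq_orbitHom_counit (A := A)]
      rw [show x f = 0 from hf, map_zero, map_zero]
    exact fun c hc => hle hc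
  -- descend
  let κ' : A ⧸ GLin.stabIdeal k A x →ₐ[k] T := Ideal.Quotient.liftₐ _ κ hΨI
  let Ψ' : (A ⧸ GLin.stabIdeal k A x) ⊗[k] A →ₐ[k] T :=
    Algebra.TensorProduct.lift κ' R' fun _ _ => Commute.all _ _
  have hΨ' : ∀ z, Ψ' (Algebra.TensorProduct.map (Ideal.Quotient.mkₐ k (GLin.stabIdeal k A x)) (AlgHom.id k A) z) = Ψ z := by
    intro z
    induction z using TensorProduct.induction_on with
    | zero => simp
    | tmul p q => simp [Ψ', Ψ, κ']
    | add p q hp hq => simp only [map_add, hp, hq]
  have heq : a ⊗ₜ[B] (1 : A) = (1 : A) ⊗ₜ[B] a := by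
    rw [← hΨΔ, ← hΨ', ha]
    simp [Ψ', R']
  -- faithfully flat descent
  let N : Submodule B A := LinearMap.range (Algebra.linearMap B A)
  have h0 : (1 : A) ⊗ₜ[B] N.mkQ a = 0 := by
    have h := congrArg (LinearMap.lTensor A N.mkQ) heq
    rw [LinearMap.lTensor_tmul, LinearMap.lTensor_tmul] at h
    rw [← h, show N.mkQ (1 : A) = 0 from (Submodule.Quotient.mk_eq_zero N).2 ⟨1, map_one (algebraMap B A)⟩, TensorProduct.tmul_zero]
  have h1 : N.mkQ a = 0 := by rwa [Module.FaithfullyFlat.one_tmul_eq_zero_iff] at h0
  obtain ⟨c, hc⟩ := (Submodule.Quotient.mk_eq_zero N).1 h1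
  rw [← hc]
  exact c.2

end Groth.ComodLib
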