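import Mathlib
import Groth.Prelude.Def_HopfRep
import Groth.Agent.Sga3.SubHopfFlat
import Groth.Agent.Misc1.Unip.FG

/-!
Rational points of an affine group scheme (commutative Hopf algebra in any universe) over an
algebraically closed field of characteristic zero separate the elements, and detect subcomodules.
-/

set_option autoImplicit false

universe u v w

open TensorProduct

namespace Groth.HopfRatPts

/-- A subalgebra stable under comultiplication and antipode. -/
def IsSubHopf {k : Type u} [Field k] {A : Type v} [CommRing A] [HopfAlgebra k A] (B : Subalgebra k A) : Prop :=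
  (∀ b ∈ B, CoalgebraStruct.comul (R := k) (A := A) b ∈
      LinearMap.range (TensorProduct.map B.val.toLinearMap B.val.toLinearMap)) ∧
    ∀ b ∈ B, HopfAlgebraStruct.antipode (R := k) (A := A) b ∈ B

section SubHopf

variable {k : Type u} [Field k] {A : Type v} [CommRing A] [HopfAlgebra k A] {B : Subalgebra k A}
  (hB : IsSubHopf B)

/-- `B ⊗ B → A ⊗ A`. -/
noncomputable abbrev jj (B : Subalgebra k A) : B ⊗[k] B →ₐ[k] A ⊗[k] A :=
  Algebra.TensorProduct.map B.val B.val

lemma jj_injective (B : Subalgebra k A) : Function.Injective (jj B) := by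
  have h : Function.Injective (TensorProduct.map B.val.toLinearMap B.val.toLinearMap) := by
    rw [← LinearMap.rTensor_comp_lTensor, LinearMap.coe_comp]
    exact (Module.Flat.rTensor_preserves_injective_linearMap _ Subtype.val_injective).comp
      (Module.Flat.lTensor_preserves_injective_linearMap _ Subtype.val_injective)
  exact h

include hB in
lemma comul_mem_range (b : B) : Bialgebra.comulAlgHom k A b ∈ (jj B).range :=
  hB.1 b b.2

/-- The comultiplication of `B`. -/
noncomputable def comulB : B →ₐ[k] B ⊗[k] B :=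
  ((AlgEquiv.ofInjective (jj B) (jj_injective B)).symm : _ →ₐ[k] _).comp
    (((Bialgebra.comulAlgHom k A).comp B.val).codRestrict (jj B).range (comul_mem_range hB))

lemma jj_comulB (b : B) : jj B (comulB hB b) = Coalgebra.comul (R := k) (b : A) :=
  congrArg Subtype.val ((AlgEquiv.ofInjective (jj B) (jj_injective B)).apply_symm_apply
    ⟨_, comul_mem_range hB b⟩)

/-- The bialgebra structure of `B`. -/
@[reducible] noncomputable def bialgebra : Bialgebra k B :=
  Bialgebra.ofAlgHom (comulB hB) ((Bialgebra.counitAlgHom k A).comp B.val)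
    (by
      refine AlgHom.ext fun b => ?_
      have hi : Function.Injective
          (TensorProduct.map B.val.toLinearMap (jj B).toLinearMap) := by
        rw [← LinearMap.rTensor_comp_lTensor, LinearMap.coe_comp]
        exact (Module.Flat.rTensor_preserves_injective_linearMap _ Subtype.val_injective).comp
          (Module.Flat.lTensor_preserves_injective_linearMap _ (jj_injective B))
      apply hi
      have h := LinearMap.congr_fun (Coalgebra.coassoc (R := k) (A := A)) (b : A)
      simp only [LinearMap.comp_apply, LinearEquiv.coe_coe] at h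
      rw [← jj_comulB hB] at h
      refine Eq.trans ?_ (h.trans ?_) <;>
        simp only [AlgHom.comp_apply] <;>
        generalize comulB hB b = z <;>
        induction z using TensorProduct.induction_on with
        | zero => simp
        | add p q hp hq => simp only [map_add, hp, hq]
        | tmul p q => ?_
      · rw [show (jj B) (p ⊗ₜ q) = (p : A) ⊗ₜ[k] (q : A) from rfl, LinearMap.rTensor_tmul,
          ← jj_comulB hB]
        rw [Algebra.TensorProduct.map_tmul]
        generalize comulB hB p = w
        induction w using TensorProduct.induction_on with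
        | zero => simp
        | tmul x y => rfl
        | add x y hx hy => simp only [map_add, TensorProduct.add_tmul, hx, hy]
      · rw [show (jj B) (p ⊗ₜ q) = (p : A) ⊗ₜ[k] (q : A) from rfl, LinearMap.lTensor_tmul,
          ← jj_comulB hB]
        simp
        rfl)
    (by
      refine AlgHom.ext fun b => ?_
      apply (Module.Flat.lTensor_preserves_injective_linearMap (M := k) B.val.toLinearMap
        Subtype.val_injective)
      have h := Coalgebra.rTensor_counit_comul (R := k) (b : A)
      rw [← jj_comulB hB] at h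
      refine Eq.trans ?_ (h.trans (by simp))
      simp only [AlgHom.comp_apply]
      generalize comulB hB b = z
      induction z using TensorProduct.induction_on with
      | zero => simp
      | add p q hp hq => simp only [map_add, hp, hq]
      | tmul p q => rfl)
    (by
      refine AlgHom.ext fun b => ?_
      apply (Module.Flat.rTensor_preserves_injective_linearMap (M := k) B.val.toLinearMap
        Subtype.val_injective)
      have h := Coalgebra.lTensor_counit_comul (R := k) (b : A)
      rw [← jj_comulB hB] at h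
      refine Eq.trans ?_ (h.trans (by simp))
      simp only [AlgHom.comp_apply]
      generalize comulB hB b = z
      induction z using TensorProduct.induction_on with
      | zero => simp
      | add p q hp hq => simp only [map_add, hp, hq]
      | tmul p q => rfl)

/-- The antipode of `B`. -/
noncomputable def antipodeB : B →ₐ[k] B :=
  ((HopfAlgebra.antipodeAlgHom k A).comp B.val).codRestrict B fun b => hB.2 b b.2

/-- The Hopf algebra structure of `B`. -/
@[reducible] noncomputable def hopfAlgebra : HopfAlgebra k B :=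
  letI := bialgebra hB
  { bialgebra hB with
    antipode := (antipodeB hB).toLinearMap
    mul_antipode_rTensor_comul := by
      refine LinearMap.ext fun b => Subtype.ext ?_
      have h := HopfAlgebra.mul_antipode_rTensor_comul_apply (R := k) (b : A)
      rw [← jj_comulB hB] at h
      refine Eq.trans ?_ (h.trans ?_)
      · simp only [LinearMap.comp_apply]
        change ((LinearMap.mul' k B) _ : A) = _
        change ((LinearMap.mul' k B) ((antipodeB hB).toLinearMap.rTensor B (comulB hB b)) : A) = _
        generalize comulB hB b = z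
        induction z using TensorProduct.induction_on with
        | zero => simp
        | add p q hp hq => simp only [map_add, AddMemClass.coe_add, hp, hq]
        | tmul p q => rfl
      · rfl
    mul_antipode_lTensor_comul := by
      refine LinearMap.ext fun b => Subtype.ext ?_
      have h := HopfAlgebra.mul_antipode_lTensor_comul_apply (R := k) (b : A)
      rw [← jj_comulB hB] at h
      refine Eq.trans ?_ (h.trans ?_)
      · simp only [LinearMap.comp_apply]
        change ((LinearMap.mul' k B) ((antipodeB hB).toLinearMap.lTensor B (comulB hB b)) : A) = _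
        generalize comulB hB b = z
        induction z using TensorProduct.induction_on with
        | zero => simp
        | add p q hp hq => simp only [map_add, AddMemClass.coe_add, hp, hq]
        | tmul p q => rfl
      · rfl }


end SubHopf

section Points

variable {k : Type u} [Field k] [IsAlgClosed k] {A : Type v} [CommRing A]
variable [HopfAlgebra k A]

omit [IsAlgClosed k] in
variable (k) in
lemma exists_fg (x : A) : ∃ B : Subalgebra k A, x ∈ B ∧ B.FG ∧ IsSubHopf B := by
  obtain ⟨B, hx, hfg, h1, h2⟩ := Groth.Misc1.Unip.exists_fg_hopfSubalgebra k ({x} : Finset A)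
  exact ⟨B, hx (Finset.mem_singleton_self x), hfg, h1, h2⟩


open TensorProduct in
/-- Being a Hopf subalgebra as two inequalities of subalgebras. -/
lemma isHopfSubalgebra_iff (B : Subalgebra k A) :
    IsSubHopf B ↔
      B ≤ (Algebra.TensorProduct.map B.val B.val).range.comap (Bialgebra.comulAlgHom k A) ∧
        B ≤ B.comap (HopfAlgebra.antipodeAlgHom k A) :=
  Iff.rfl

lemma range_map_mono {B B' : Subalgebra k A} (h : B ≤ B') :
    (Algebra.TensorProduct.map B.val B.val).range ≤ (Algebra.TensorProduct.map B'.val B'.val).range := by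
  have : Algebra.TensorProduct.map B.val B.val =
      (Algebra.TensorProduct.map B'.val B'.val).comp
        (Algebra.TensorProduct.map (Subalgebra.inclusion h) (Subalgebra.inclusion h)) := by
    rw [← Algebra.TensorProduct.map_comp]
    rfl
  rw [this]
  exact AlgHom.range_comp_le_range _ _

lemma isHopfSubalgebra_iSup {ι : Sort*} (B : ι → Subalgebra k A)
    (h : ∀ i, IsSubHopf (B i)) : IsSubHopf (⨆ i, B i) := by
  rw [isHopfSubalgebra_iff]
  refine ⟨iSup_le fun i => ?_, iSup_le fun i => ?_⟩
  · exact ((isHopfSubalgebra_iff _).1 (h i)).1.trans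
      fun x hx => range_map_mono (le_iSup B i) hx
  · exact ((isHopfSubalgebra_iff _).1 (h i)).2.trans fun x hx => le_iSup B i hx

/-- A point of a Hopf subalgebra extends to a bigger one containing a given element. -/
lemma exists_extend_step (B : Subalgebra k A) (hB : IsSubHopf B) (q : B →ₐ[k] k)
    (x : A) :
    ∃ (B' : Subalgebra k A) (hle : B ≤ B'), x ∈ B' ∧ IsSubHopf B' ∧
      ∃ r : B' →ₐ[k] k, ∀ b : B, r (Subalgebra.inclusion hle b) = q b := by
  obtain ⟨C, hxC, hCfg, hC⟩ := exists_fg k x
  let B' := B ⊔ C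
  have hle : B ≤ B' := le_sup_left
  have hB' : IsSubHopf B' := by
    have := isHopfSubalgebra_iSup (fun b : Bool => cond b B C) (fun b => by cases b <;> assumption)
    rwa [← sup_eq_iSup] at this
  have hff : Module.FaithfullyFlat B A := Groth.Sga3.SubHopfFlat.faithfullyFlat B hB.1 hB.2
  let ι := Subalgebra.inclusion hle
  let J : Ideal B' := (RingHom.ker q).map ι
  let φ : B' →ₐ[k] B' ⧸ J := Ideal.Quotient.mkₐ k J
  have hJ : J ≠ ⊤ := by
    intro h
    have hle' : J ≤ ((RingHom.ker q).map (algebraMap B A)).comap B'.val := by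
      refine Ideal.map_le_iff_le_comap.2 fun b hb => ?_
      exact Ideal.mem_map_of_mem (algebraMap B A) hb
    have h1 : (RingHom.ker q).map (algebraMap B A) = ⊤ := by
      rw [Ideal.eq_top_iff_one, ← map_one B'.val]
      exact hle' (h ▸ Submodule.mem_top)
    have h2 : (RingHom.ker q).comap (RingHom.id _) ≠ ⊤ := RingHom.ker_ne_top q
    apply h2
    have := Ideal.comap_map_eq_self_of_faithfullyFlat (A := B) (B := A) (RingHom.ker q)
    rw [h1, Ideal.comap_top] at this
    simpa using this.symm
  have hscal : ∀ b : B, φ (ι b) = algebraMap k (B' ⧸ J) (q b) := fun b => by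
    rw [← φ.commutes, ← ι.commutes]
    refine Ideal.Quotient.eq.2 ?_
    rw [← map_sub]
    exact Ideal.mem_map_of_mem ι (by simp [RingHom.mem_ker])
  let j := Subalgebra.inclusion (le_sup_right : C ≤ B')
  have hsurj : Function.Surjective (φ.comp j) := by
    intro y
    obtain ⟨⟨z, hz⟩, rfl⟩ := Ideal.Quotient.mkₐ_surjective k J y
    induction hz using Algebra.adjoin_induction with
    | mem w hw =>
      rcases hw with hw | hw
      · exact ⟨algebraMap k C (q ⟨w, hw⟩), ((φ.comp j).commutes _).trans (hscal ⟨w, hw⟩).symm⟩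
      · exact ⟨⟨w, hw⟩, rfl⟩
    | algebraMap c => exact ⟨algebraMap k C c, ((φ.comp j).commutes _).trans (φ.commutes c).symm⟩
    | add a b _ _ ha hb =>
      obtain ⟨u, hu⟩ := ha
      obtain ⟨v, hv⟩ := hb
      exact ⟨u + v, by rw [map_add, hu, hv, ← map_add]; rfl⟩
    | mul a b _ _ ha hb =>
      obtain ⟨u, hu⟩ := ha
      obtain ⟨v, hv⟩ := hb
      exact ⟨u * v, by rw [map_mul, hu, hv, ← map_mul]; rfl⟩
  have : Algebra.FiniteType k C := ⟨(Subalgebra.fg_top C).2 hCfg⟩
  have : Algebra.FiniteType k (B' ⧸ J) := Algebra.FiniteType.of_surjective (φ.comp j) hsurj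
  have : Nontrivial (B' ⧸ J) := Ideal.Quotient.nontrivial_iff.2 hJ
  obtain ⟨p, -⟩ := Groth.Misc1.Unip.exists_point_ne_zero' (k := k) k (f := (1 : B' ⧸ J)) not_isNilpotent_one
  exact ⟨B', hle, le_sup_right (a := B) hxC, hB', p.comp φ, fun b => by
    change p (φ (ι b)) = _
    rw [hscal, p.commutes]
    rfl⟩

/-- Points of Hopf subalgebras extend. -/
theorem exists_extend (B : Subalgebra k A) (hB : IsSubHopf B) (q : B →ₐ[k] k) :
    ∃ g : A →ₐ[k] k, ∀ b : B, g b = q b := by
  let S : Set (Subalgebra k (A × k)) :=
    {Γ | IsSubHopf (Γ.map (AlgHom.fst k A k)) ∧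
      ∀ x ∈ Γ, x.1 = 0 → x.2 = 0}
  let G : ∀ (B : Subalgebra k A), (B →ₐ[k] k) → Subalgebra k (A × k) := fun B q =>
    (B.val.prod q).range
  have hG : ∀ (B : Subalgebra k A) (_ : IsSubHopf B) (q : B →ₐ[k] k), G B q ∈ S := by
    intro B hB q
    refine ⟨?_, ?_⟩
    · have : (G B q).map (AlgHom.fst k A k) = B := by
        rw [← AlgHom.range_comp, AlgHom.fst_prod, Subalgebra.range_val]
      rwa [this]
    · rintro _ ⟨b, rfl⟩ h
      have : b = 0 := Subtype.ext h
      simp [this]
  obtain ⟨Γ, hle, hmax⟩ := zorn_le_nonempty₀ S (fun c hc hchain Γ₀ hΓ₀ => by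
    refine ⟨sSup c, ⟨?_, ?_⟩, fun z hz => le_sSup hz⟩
    · rw [sSup_eq_iSup', (Subalgebra.gc_map_comap (AlgHom.fst k A k)).l_iSup]
      exact isHopfSubalgebra_iSup _ fun i => (hc i.2).1
    · intro x hx
      have : Nonempty c := ⟨⟨Γ₀, hΓ₀⟩⟩
      rw [sSup_eq_iSup', ← SetLike.mem_coe,
        Subalgebra.coe_iSup_of_directed hchain.directed, Set.mem_iUnion] at hx
      obtain ⟨i, hi⟩ := hx
      exact (hc i.2).2 x hi) (G B q) (hG B hB q)
  obtain ⟨hΓ, hinj⟩ := hmax.prop
  let f : Γ →ₐ[k] A := (AlgHom.fst k A k).comp Γ.val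
  have hf : Function.Injective f := by
    refine (injective_iff_map_eq_zero f).2 fun x hx => Subtype.ext ?_
    exact Prod.ext hx (hinj x.1 x.2 hx)
  let B₁ := Γ.map (AlgHom.fst k A k)
  let e : Γ ≃ₐ[k] B₁ := AlgEquiv.ofBijective (f.codRestrict B₁ fun x => ⟨x.1, x.2, rfl⟩)
    ⟨fun x y h => hf (congrArg Subtype.val h), by rintro ⟨_, x, hx, rfl⟩; exact ⟨⟨x, hx⟩, rfl⟩⟩
  let q₁ : B₁ →ₐ[k] k := ((AlgHom.snd k A k).comp Γ.val).comp (e.symm : B₁ →ₐ[k] Γ)
  have hfst : ∀ b : B₁, ((e.symm b : Γ) : A × k).1 = b := fun b =>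
    congrArg Subtype.val (e.apply_symm_apply b)
  have hΓle : Γ ≤ G B₁ q₁ := fun x hx => ⟨e ⟨x, hx⟩, Prod.ext rfl (by simp [q₁])⟩
  have htop : B₁ = ⊤ := by
    rw [eq_top_iff]
    intro x _
    obtain ⟨B', hle', hx, hB', r, hr⟩ := exists_extend_step B₁ hΓ q₁ x
    have h1 : G B₁ q₁ ≤ G B' r := by
      rintro _ ⟨b, rfl⟩
      exact ⟨Subalgebra.inclusion hle' b, Prod.ext rfl (hr b)⟩
    exact ⟨(x, r ⟨x, hx⟩), hmax.2 (hG B' hB' r) (hΓle.trans h1) ⟨⟨x, hx⟩, rfl⟩, rfl⟩
  refine ⟨q₁.comp ((AlgHom.id k A).codRestrict B₁ fun x => htop ▸ Algebra.mem_top), fun b => ?_⟩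
  have hb : ((b : A), q b) ∈ Γ := hle ⟨b, rfl⟩
  change q₁ ⟨b, _⟩ = q b
  have : (⟨(b : A), htop.ge Algebra.mem_top⟩ : B₁) = e ⟨_, hb⟩ := rfl
  rw [this]
  simp [q₁]

/-- Some point does not vanish at a given non-nilpotent element. -/
theorem exists_point (f : A) (hf : ¬ IsNilpotent f) : ∃ g : A →ₐ[k] k, g f ≠ 0 := by
  obtain ⟨C, hfC, hCfg, hC⟩ := exists_fg k f
  have : Algebra.FiniteType k C := ⟨(Subalgebra.fg_top C).2 hCfg⟩
  obtain ⟨q, hq⟩ := Groth.Misc1.Unip.exists_point_ne_zero' (k := k) k (f := (⟨f, hfC⟩ : C))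
    (fun ⟨n, hn⟩ => hf ⟨n, congrArg Subtype.val hn⟩)
  obtain ⟨g, hg⟩ := exists_extend C hC q
  exact ⟨g, by rw [← hg ⟨f, hfC⟩] at hq; exact hq⟩


/-- In characteristic zero, rational points separate the elements. -/
theorem exists_point_apply_ne_zero [CharZero k] (f : A) (hf : f ≠ 0) : ∃ g : A →ₐ[k] k, g f ≠ 0 := by
  refine exists_point f fun hn => hf ?_
  obtain ⟨C, hfC, hCfg, hC⟩ := exists_fg k f
  letI := hopfAlgebra hC
  haveI : Algebra.FiniteType k C := ⟨(Subalgebra.fg_top C).2 hCfg⟩
  haveI := Groth.Misc1.Unip.isReduced_charZero k C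
  have h : (⟨f, hfC⟩ : C) = 0 := IsNilpotent.eq_zero ((IsNilpotent.map_iff (f := C.val) (r := (⟨f, hfC⟩ : C)) Subtype.val_injective).1 hn)
  exact congrArg Subtype.val h

/-- A subspace stable under all rational points is a subcomodule. -/
theorem isSubcomod_of_stable [CharZero k] {V : Type w} [AddCommGroup V] [Module k V]
    [HopfRep.Comod k A V] (W : Submodule k V)
    (hW : ∀ g : A →ₐ[k] k, W.map (HopfRep.Comod.act k A V g) ≤ W) :
    HopfRep.IsSubcomod (k := k) (A := A) W := by
  intro w hw
  let t := HopfRep.Comod.coact (k := k) (A := A) w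
  have hex := rTensor_exact A (LinearMap.exact_subtype_mkQ W) W.mkQ_surjective
  refine (hex t).1 ?_
  classical
  let bs := Module.Basis.ofVectorSpace k (V ⧸ W)
  let E := TensorProduct.equivFinsuppOfBasisLeft (N := A) bs
  refine E.injective (Finsupp.ext fun i => ?_)
  rw [map_zero, Finsupp.zero_apply]
  by_contra hne
  obtain ⟨g, hg⟩ := exists_point_apply_ne_zero (k := k) (A := A) _ hne
  refine hg ?_
  have key : ∀ z : V ⊗[k] A, g (E (W.mkQ.rTensor A z) i) =
      bs.repr (W.mkQ ((TensorProduct.rid k V) (g.toLinearMap.lTensor V z))) i := by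
    intro z
    induction z using TensorProduct.induction_on with
    | zero => simp
    | tmul v a => simp [E, mul_comm]
    | add p q hp hq => simp only [map_add, Finsupp.add_apply, hp, hq]
  rw [key]
  have hmem : W.mkQ (HopfRep.Comod.act k A V g w) = 0 :=
    (Submodule.Quotient.mk_eq_zero W).2 (hW g ⟨w, hw, rfl⟩)
  exact (congrArg (fun y => bs.repr y i) hmem).trans (by simp)

end Points

end Groth.HopfRatPts
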