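import Groth.Agent.PLieAlg.Faithful
import Mathlib.RingTheory.HopfAlgebra.Basic
import Mathlib.RingTheory.Bialgebra.TensorProduct
import Mathlib.RingTheory.Ideal.Quotient.Operations
import Mathlib.LinearAlgebra.TensorProduct.Basis
import Mathlib.Data.Nat.Choose.Sum

/-!
# The restricted enveloping algebra as a cocommutative Hopf algebra and its primitive elements
-/

set_option autoImplicit false
set_option linter.unusedSectionVars false

universe u v w

open TensorProduct

noncomputable section

namespace Groth.ComodLib.RestrictedEnv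

open Groth.Misc1.PBW Groth.PLieAlg.Faithful

attribute [local instance 100] LieRing.ofAssociativeRing

variable {k : Type u} [Field k] {p : ℕ} [hp : Fact p.Prime] [CharP k p]
  {L : Type v} [LieRing L] [LieAlgebra k L] {d : ℕ} (b : Module.Basis (Fin d) k L) (φ : PLie.PMap k p L)

instance isTwoSided_J : Ideal.IsTwoSided (J b φ) := ⟨fun {a} r ha => by
  rw [J, Submodule.mem_span_range_iff_exists_fun] at ha ⊢
  obtain ⟨c, rfl⟩ := ha
  refine ⟨fun i => c i * r, ?_⟩
  rw [Finset.sum_mul]
  refine Finset.sum_congr rfl fun i _ => ?_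
  rw [smul_eq_mul, smul_eq_mul, mul_assoc, mul_assoc, commute_z]⟩

/-- the restricted enveloping algebra -/
abbrev RU : Type _ := UniversalEnvelopingAlgebra k L ⧸ J b φ

/-- the quotient map -/
def mkU : UniversalEnvelopingAlgebra k L →ₐ[k] RU b φ := Ideal.Quotient.mkₐ k (J b φ)

theorem mkU_surjective : Function.Surjective (mkU b φ) := Ideal.Quotient.mk_surjective

/-- the generators -/
def x : L →ₗ[k] RU b φ := (mkU b φ).toLinearMap ∘ₗ (UniversalEnvelopingAlgebra.ι k).toLinearMap

theorem x_apply (l : L) : x b φ l = mkU b φ (UniversalEnvelopingAlgebra.ι k l) := rfl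

theorem x_lie (l m : L) : x b φ ⁅l, m⁆ = x b φ l * x b φ m - x b φ m * x b φ l := by
  rw [x_apply, LieHom.map_lie, LieRing.of_associative_ring_bracket, map_sub, map_mul, map_mul]
  rfl

theorem x_pow (l : L) : x b φ l ^ p = x b φ (φ l) := by
  rw [x_apply, x_apply, ← map_pow, ← sub_eq_zero, ← map_sub]
  refine Ideal.Quotient.eq_zero_iff_mem.2 ?_
  exact Submodule.span_le_restrictScalars k (UniversalEnvelopingAlgebra k L) _ (pow_sub_mem b φ l)

theorem x_injective : Function.Injective (x b φ) :=
  (injective_iff_map_eq_zero (x b φ)).2 fun _ hl => eq_zero_of_mem_J b φ (Ideal.Quotient.eq_zero_iff_mem.1 hl)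

theorem induction_words {motive : RU b φ → Prop} (zero : motive 0) (add : ∀ a c, motive a → motive c → motive (a + c))
    (smul : ∀ (r : k) a, motive a → motive (r • a)) (one : motive 1)
    (cons : ∀ (i : Fin d) a, motive a → motive (x b φ (b i) * a)) (a : RU b φ) : motive a := by
  obtain ⟨u, rfl⟩ := mkU_surjective b φ a
  have hu : u ∈ Submodule.span k (Set.range fun l : {l : List (Fin d) // l.Pairwise (· ≤ ·)} => mono b l.1) := by
    rw [span_mono_eq_top]; trivial
  induction hu using Submodule.span_induction with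
  | mem w hw =>
    obtain ⟨⟨l, hl⟩, rfl⟩ := hw
    change motive (mkU b φ (mono b l))
    clear hl
    induction l with
    | nil => simpa [mono] using one
    | cons i l ih => rw [mono_cons, map_mul]; exact cons i _ ih
  | zero => simpa using zero
  | add a c _ _ ha hc => rw [map_add]; exact add _ _ ha hc
  | smul r a _ ha => rw [map_smul]; exact smul r _ ha

theorem algHom_ext_x {B : Type w} [Semiring B] [Algebra k B] {f g : RU b φ →ₐ[k] B}
    (h : ∀ i, f (x b φ (b i)) = g (x b φ (b i))) : f = g := by
  refine AlgHom.ext fun a => ?_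
  induction a using induction_words b φ with
  | zero => simp
  | add a c ha hc => simp [map_add, ha, hc]
  | smul r a ha => simp [map_smul, ha]
  | one => simp
  | cons i a ha => rw [map_mul, map_mul, h, ha]

section Lift

variable {B : Type w} [Ring B] [Algebra k B] (g : L →ₗ[k] B)
  (hlie : ∀ l m, g ⁅l, m⁆ = g l * g m - g m * g l) (hpow : ∀ l, g l ^ p = g (φ l))

/-- the Lie morphism underlying `g` -/
def gLie : L →ₗ⁅k⁆ B := { g with map_lie' := fun {l m} => hlie l m }

/-- the universal property -/
def lift : RU b φ →ₐ[k] B :=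
  Ideal.Quotient.liftₐ (J b φ) (UniversalEnvelopingAlgebra.lift k (gLie g hlie)) (by
    intro a ha
    induction ha using Submodule.span_induction with
    | mem u hu =>
      obtain ⟨i, rfl⟩ := hu
      rw [z, map_sub, map_pow, UniversalEnvelopingAlgebra.lift_ι_apply, UniversalEnvelopingAlgebra.lift_ι_apply]
      exact sub_eq_zero.2 (hpow (b i))
    | zero => exact map_zero _
    | add u v _ _ hu hv => rw [map_add, hu, hv, add_zero]
    | smul c u _ hu => rw [smul_eq_mul, map_mul, hu, mul_zero])

theorem lift_x (l : L) : lift b φ g hlie hpow (x b φ l) = g l :=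
  UniversalEnvelopingAlgebra.lift_ι_apply k (gLie g hlie) l

end Lift

/-- the generators are primitive -/
def gΔ : L →ₗ[k] RU b φ ⊗[k] RU b φ :=
  ((Algebra.TensorProduct.includeLeft (S := k) : RU b φ →ₐ[k] RU b φ ⊗[k] RU b φ).toLinearMap +
    (Algebra.TensorProduct.includeRight : RU b φ →ₐ[k] RU b φ ⊗[k] RU b φ).toLinearMap) ∘ₗ x b φ

theorem gΔ_apply (l : L) : gΔ b φ l = x b φ l ⊗ₜ[k] 1 + 1 ⊗ₜ[k] x b φ l := rfl

/-- the comultiplication -/
def Δ : RU b φ →ₐ[k] RU b φ ⊗[k] RU b φ :=
  lift b φ (gΔ b φ) (fun l m => by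
      simp only [gΔ_apply, x_lie, TensorProduct.sub_tmul, TensorProduct.tmul_sub, mul_add, add_mul,
        Algebra.TensorProduct.tmul_mul_tmul, mul_one, one_mul]
      abel)
    (fun l => by
      have hc : Commute (x b φ l ⊗ₜ[k] (1 : RU b φ)) ((1 : RU b φ) ⊗ₜ[k] x b φ l) := by
        simp [Commute, SemiconjBy, Algebra.TensorProduct.tmul_mul_tmul]
      rw [gΔ_apply, gΔ_apply, Commute.add_pow hc, ← x_pow]
      have h1 : ∀ m ∈ Finset.range (p + 1), m ≠ 0 → m ≠ p → ((p.choose m : ℕ) : RU b φ ⊗[k] RU b φ) = 0 := by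
        intro m hm h0 hmp
        rw [Finset.mem_range] at hm
        rw [← map_natCast (algebraMap k (RU b φ ⊗[k] RU b φ)),
          (CharP.cast_eq_zero_iff k p _).2 (hp.out.dvd_choose_self h0 (by omega)), map_zero]
      rw [Finset.sum_eq_add 0 p hp.out.pos.ne (fun m hm ⟨h0, hmp⟩ => by rw [h1 m hm h0 hmp, mul_zero])
        (fun h => absurd (Finset.mem_range.2 (by omega)) h) (fun h => absurd (Finset.mem_range.2 (by omega)) h)]
      simp [Algebra.TensorProduct.tmul_pow, add_comm, ← Algebra.TensorProduct.one_def])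

theorem Δ_x (l : L) : Δ b φ (x b φ l) = x b φ l ⊗ₜ[k] 1 + 1 ⊗ₜ[k] x b φ l := lift_x b φ _ _ _ l

/-- the counit -/
def εU : RU b φ →ₐ[k] k :=
  lift b φ 0 (fun l m => by simp) (fun l => by simp [zero_pow hp.out.ne_zero])

theorem εU_x (l : L) : εU b φ (x b φ l) = 0 := lift_x b φ _ _ _ l

instance instBialgebra : Bialgebra k (RU b φ) :=
  Bialgebra.ofAlgHom (Δ b φ) (εU b φ)
    (algHom_ext_x b φ fun i => by
      simp [Δ_x, map_add, TensorProduct.add_tmul, TensorProduct.tmul_add, Algebra.TensorProduct.one_def, add_assoc])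
    (algHom_ext_x b φ fun i => by simp [Δ_x, εU_x])
    (algHom_ext_x b φ fun i => by simp [Δ_x, εU_x])

theorem comul_x (l : L) : Coalgebra.comul (R := k) (x b φ l) = x b φ l ⊗ₜ[k] 1 + 1 ⊗ₜ[k] x b φ l := Δ_x b φ l

theorem counit_x (l : L) : Coalgebra.counit (R := k) (x b φ l) = 0 := εU_x b φ l

instance instIsCocomm : Coalgebra.IsCocomm k (RU b φ) where
  comm_comp_comul := by
    have h : (Algebra.TensorProduct.comm k (RU b φ) (RU b φ)).toAlgHom.comp (Δ b φ) = Δ b φ :=
      algHom_ext_x b φ fun i => by simp [Δ_x, add_comm]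
    exact congrArg AlgHom.toLinearMap h

/-- the antipode, into the opposite algebra -/
def Sop : RU b φ →ₐ[k] (RU b φ)ᵐᵒᵖ :=
  lift b φ (-((MulOpposite.opLinearEquiv k).toLinearMap ∘ₗ x b φ)) (fun l m => by
      simp only [LinearMap.neg_apply, LinearMap.comp_apply, LinearEquiv.coe_coe, MulOpposite.coe_opLinearEquiv,
        x_lie, MulOpposite.op_sub, MulOpposite.op_mul, neg_mul_neg, neg_sub])
    (fun l => by
      have hneg : (-1 : (RU b φ)ᵐᵒᵖ) ^ p = -1 := by
        rw [← map_one (algebraMap k (RU b φ)ᵐᵒᵖ), ← map_neg, ← map_pow, neg_one_pow_char k p, map_neg]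
      simp only [LinearMap.neg_apply, LinearMap.comp_apply, LinearEquiv.coe_coe, MulOpposite.coe_opLinearEquiv]
      rw [neg_pow, hneg, ← MulOpposite.op_pow, x_pow, neg_one_mul])

/-- the antipode -/
def S : RU b φ →ₗ[k] RU b φ := (MulOpposite.opLinearEquiv k).symm.toLinearMap ∘ₗ (Sop b φ).toLinearMap

theorem S_mul (u v : RU b φ) : S b φ (u * v) = S b φ v * S b φ u := by
  simp [S, map_mul]

theorem S_one : S b φ 1 = 1 := by simp [S]

theorem S_x (l : L) : S b φ (x b φ l) = -x b φ l := by
  simp [S, Sop, lift_x]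

instance instHopfAlgebra : HopfAlgebra k (RU b φ) where
  antipode := S b φ
  mul_antipode_rTensor_comul := by
    refine LinearMap.ext fun a => ?_
    simp only [LinearMap.comp_apply]
    induction a using induction_words b φ with
    | zero => simp
    | add a c ha hc => simp only [map_add, ha, hc]
    | smul r a ha => simp only [map_smul, ha]
    | one => simp [Algebra.TensorProduct.one_def, S_one]
    | cons i a ha =>
      rw [Bialgebra.comul_mul, comul_x, Bialgebra.counit_mul, counit_x, zero_mul, map_zero]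
      generalize Coalgebra.comul (R := k) a = z
      clear ha
      induction z using TensorProduct.induction_on with
      | zero => simp
      | tmul q r => simp [add_mul, Algebra.TensorProduct.tmul_mul_tmul, S_mul, S_x, mul_assoc]
      | add z z' hz hz' => simp only [mul_add, map_add, hz, hz', add_zero]
  mul_antipode_lTensor_comul := by
    refine LinearMap.ext fun a => ?_
    simp only [LinearMap.comp_apply]
    induction a using induction_words b φ with
    | zero => simp
    | add a c ha hc => simp only [map_add, ha, hc]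
    | smul r a ha => simp only [map_smul, ha]
    | one => simp [Algebra.TensorProduct.one_def, S_one]
    | cons i a ha =>
      rw [Bialgebra.comul_mul, comul_x, Bialgebra.counit_mul, counit_x, zero_mul, map_zero]
      have key : ∀ z : RU b φ ⊗[k] RU b φ,
          LinearMap.mul' k (RU b φ) ((S b φ).lTensor (RU b φ) ((x b φ (b i) ⊗ₜ[k] 1 + 1 ⊗ₜ[k] x b φ (b i)) * z)) =
            x b φ (b i) * LinearMap.mul' k (RU b φ) ((S b φ).lTensor (RU b φ) z) -
              LinearMap.mul' k (RU b φ) ((S b φ).lTensor (RU b φ) z) * x b φ (b i) := by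
        intro z
        induction z using TensorProduct.induction_on with
        | zero => simp
        | tmul q r => simp [add_mul, Algebra.TensorProduct.tmul_mul_tmul, S_mul, S_x, mul_assoc, sub_eq_add_neg]
        | add z z' hz hz' =>
          rw [mul_add, map_add, map_add, hz, hz']
          simp only [map_add, mul_add, add_mul]
          abel
      erw [key, ha]
      simp only [Algebra.linearMap_apply, Algebra.commutes, sub_self]

/-- ordered products of powers -/
def G {n : ℕ} (y : Fin n → RU b φ) (m : Fin n → ℕ) : RU b φ := (List.ofFn fun i => y i ^ m i).prod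

theorem comul_pow_primitive {y : RU b φ} (hy : Coalgebra.comul (R := k) y = y ⊗ₜ[k] 1 + 1 ⊗ₜ[k] y) (n : ℕ) :
    Coalgebra.comul (R := k) (y ^ n) = ∑ j : Fin (n + 1), ((n.choose (j : ℕ) : ℕ) : k) • ((y ^ (j : ℕ)) ⊗ₜ[k] (y ^ (n - j))) := by
  rw [Bialgebra.comul_pow, hy]
  have hc : Commute (y ⊗ₜ[k] (1 : RU b φ)) ((1 : RU b φ) ⊗ₜ[k] y) := by
    simp [Commute, SemiconjBy, Algebra.TensorProduct.tmul_mul_tmul]
  rw [Commute.add_pow hc, ← Fin.sum_univ_eq_sum_range (fun j =>
    (y ⊗ₜ[k] (1 : RU b φ)) ^ j * ((1 : RU b φ) ⊗ₜ[k] y) ^ (n - j) * (n.choose j : RU b φ ⊗[k] RU b φ))]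
  refine Finset.sum_congr rfl fun j _ => ?_
  simp only [Algebra.TensorProduct.tmul_pow, one_pow, Algebra.TensorProduct.tmul_mul_tmul, mul_one, one_mul]
  rw [← (Nat.cast_commute _ _).eq, ← map_natCast (algebraMap k (RU b φ ⊗[k] RU b φ)), ← Algebra.smul_def]

theorem comul_G : ∀ {n : ℕ} (y : Fin n → RU b φ) (_ : ∀ i, Coalgebra.comul (R := k) (y i) = y i ⊗ₜ[k] 1 + 1 ⊗ₜ[k] y i)
    (m : Fin n → ℕ), Coalgebra.comul (R := k) (G b φ y m) =
      ∑ a : (∀ i, Fin (m i + 1)), (∏ i, (((m i).choose (a i : ℕ) : ℕ) : k)) •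
        (G b φ y (fun i => (a i : ℕ)) ⊗ₜ[k] G b φ y (fun i => m i - a i))
  | 0, y, _, m => by simp [G, Algebra.TensorProduct.one_def]
  | n + 1, y, hy, m => by
    have hG : ∀ m' : Fin (n + 1) → ℕ, G b φ y m' = y 0 ^ m' 0 * G b φ (fun i => y i.succ) fun i => m' i.succ :=
      fun m' => by simp [G, List.ofFn_succ]
    rw [hG, Bialgebra.comul_mul, comul_pow_primitive b φ (hy 0), comul_G (fun i => y i.succ) (fun i => hy i.succ),
      Finset.sum_mul_sum, ← (Fin.consEquiv fun i => Fin (m i + 1)).sum_comp, Fintype.sum_prod_type]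
    refine Finset.sum_congr rfl fun a₀ _ => Finset.sum_congr rfl fun a _ => ?_
    simp only [hG, Fin.consEquiv_apply, Fin.cons_zero, Fin.cons_succ, Fin.prod_univ_succ]
    rw [smul_mul_assoc, mul_smul_comm, smul_smul, Algebra.TensorProduct.tmul_mul_tmul]

theorem word_eq_flatten (m : Fin d → ℕ) : word m = (List.ofFn fun i => List.replicate (m i) i).flatten := by
  refine List.Perm.eq_of_pairwise (le := fun a c : Fin d => a ≤ c) (fun a c _ _ h1 h2 => le_antisymm h1 h2)
    ((∑ i, Multiset.replicate (m i) i).pairwise_sort (· ≤ ·)) ?_ ?_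
  · rw [List.pairwise_flatten]
    refine ⟨fun l hl => ?_, List.pairwise_ofFn.2 fun i j hij a ha c hc => ?_⟩
    · obtain ⟨i, rfl⟩ := List.mem_ofFn.1 hl
      exact List.pairwise_replicate.2 (Or.inr le_rfl)
    · rw [List.eq_of_mem_replicate ha, List.eq_of_mem_replicate hc]
      exact hij.le
  · refine List.perm_iff_count.2 fun j => ?_
    rw [count_word, List.count_flatten, List.map_ofFn, List.sum_ofFn]
    simp [List.count_replicate]

theorem mkU_g (m : Fin d → ℕ) : mkU b φ (g b m) = G b φ (fun i => x b φ (b i)) m := by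
  rw [g, word_eq_flatten, mono, List.map_flatten, List.prod_flatten, map_list_prod]
  simp [G, List.map_ofFn, Function.comp_def, x_apply, List.prod_replicate]

theorem linearIndependent_G :
    LinearIndependent k fun m : Fin d → Fin p => G b φ (fun i => x b φ (b i)) fun i => (m i : ℕ) := by
  classical
  have hinj : Function.Injective fun (m : Fin d → Fin p) (i : Fin d) => (m i : ℕ) := fun m n h =>
    funext fun i => Fin.ext (congrFun h i)
  have h1 : (fun m : Fin d → Fin p => G b φ (fun i => x b φ (b i)) fun i => (m i : ℕ)) =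
      (mkU b φ).toLinearMap ∘ fun m : Fin d → Fin p => w b φ fun i => (m i : ℕ) := by
    funext m
    rw [Function.comp_apply, AlgHom.toLinearMap_apply, w_of_lt b φ fun i => (m i).2, mkU_g]
  rw [h1]
  refine ((linearIndependent_w b φ).comp _ hinj).map ?_
  refine Submodule.disjoint_def.2 fun u hu hker => ?_
  have hJ : u ∈ Submodule.span k (w b φ '' {m | ∃ i, p ≤ m i}) :=
    mem_J_iff_le b φ ((Submodule.restrictScalars_mem k _ _).2 (Ideal.Quotient.eq_zero_iff_mem.1 (LinearMap.mem_ker.1 hker)))
  rw [Set.range_comp] at hu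
  refine Submodule.disjoint_def.1 ((linearIndependent_w b φ).disjoint_span_image ?_) u hu hJ
  rw [Set.disjoint_left]
  rintro _ ⟨m, rfl⟩ ⟨i, hi⟩
  exact absurd (m i).2 (not_lt.2 hi)

theorem span_G :
    ⊤ ≤ Submodule.span k (Set.range fun m : Fin d → Fin p => G b φ (fun i => x b φ (b i)) fun i => (m i : ℕ)) := by
  intro a ha
  clear ha
  obtain ⟨u, rfl⟩ := mkU_surjective b φ a
  have hu : u ∈ Submodule.span k (Set.range (w b φ)) := span_w b φ ▸ Submodule.mem_top
  induction hu using Submodule.span_induction with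
  | zero => rw [map_zero]; exact Submodule.zero_mem _
  | add a c _ _ ha hc => rw [map_add]; exact Submodule.add_mem _ ha hc
  | smul r a _ ha => rw [map_smul]; exact Submodule.smul_mem _ r ha
  | mem v hv =>
    obtain ⟨m, rfl⟩ := hv
    by_cases hsmall : ∀ i, m i < p
    · rw [w_of_lt b φ hsmall, mkU_g]
      exact Submodule.subset_span ⟨fun i => ⟨m i, hsmall i⟩, rfl⟩
    push Not at hsmall
    obtain ⟨j, hj⟩ := hsmall
    obtain ⟨m', rfl⟩ : ∃ m', m = m' + Pi.single j p := ⟨fun i ↦ if i = j then m i - p else m i, funext fun i ↦ by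
      rcases eq_or_ne i j with rfl | hne
      · simp; omega
      · simp [hne]⟩
    have : mkU b φ (w b φ (m' + Pi.single j p)) = 0 := by
      rw [← z_mul_w, ← commute_z]
      exact Ideal.Quotient.eq_zero_iff_mem.2
        (Submodule.smul_mem _ (w b φ m') (Submodule.subset_span ⟨j, rfl⟩))
    rw [this]
    exact Submodule.zero_mem _

/-- the PBW basis of the restricted enveloping algebra -/
def basis : Module.Basis (Fin d → Fin p) k (RU b φ) :=
  Module.Basis.mk (linearIndependent_G b φ) (span_G b φ)

theorem basis_apply (m : Fin d → Fin p) : basis b φ m = G b φ (fun i => x b φ (b i)) fun i => (m i : ℕ) :=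
  Module.Basis.mk_apply _ _ _

instance instFinite : Module.Finite k (RU b φ) := Module.Finite.of_basis (basis b φ)

/-- every primitive element comes from the Lie algebra -/
theorem primitive_mem_range {u : RU b φ} (hu : Coalgebra.comul (R := k) u = u ⊗ₜ[k] 1 + 1 ⊗ₜ[k] u) :
    u ∈ LinearMap.range (x b φ) := by
  classical
  let y : Fin d → RU b φ := fun i => x b φ (b i)
  let B := basis b φ
  let BB := B.tensorProduct B
  let z : Fin d → Fin p := fun _ => ⟨0, hp.out.pos⟩
  have hB : ∀ m, B m = G b φ y fun i => (m i : ℕ) := basis_apply b φ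
  have hone : (1 : RU b φ) = B z := by
    rw [hB]
    symm
    simp [G, z, List.ofFn_const, List.prod_replicate]
  have hcoef : ∀ (m s t : Fin d → Fin p), (BB.repr (Coalgebra.comul (R := k) (B m))) (s, t) =
      if (∀ i, (s i : ℕ) + t i = m i) then ∏ i, (((m i : ℕ)).choose (s i) : k) else 0 := by
    intro m s t
    have hterm : ∀ a : (∀ i, Fin ((m i : ℕ) + 1)),
        G b φ y (fun i => (a i : ℕ)) ⊗ₜ[k] G b φ y (fun i => (m i : ℕ) - a i) =
          BB (fun i => ⟨a i, lt_of_lt_of_le (a i).2 (m i).2⟩,
            fun i => ⟨(m i : ℕ) - a i, lt_of_le_of_lt (Nat.sub_le _ _) (m i).2⟩) := by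
      intro a
      rw [Module.Basis.tensorProduct_apply, hB, hB]
    rw [hB, comul_G b φ y (fun i => comul_x b φ _)]
    simp only [hterm, map_sum, map_smul, Finsupp.coe_finsetSum, Finset.sum_apply, Finsupp.smul_apply,
      Module.Basis.repr_self, Finsupp.single_apply, Prod.mk.injEq, smul_eq_mul, mul_ite, mul_one, mul_zero]
    split_ifs with hst
    · rw [Finset.sum_eq_single (fun i => ⟨s i, by have := hst i; omega⟩)]
      · rw [if_pos ⟨funext fun i => Fin.ext rfl, funext fun i => Fin.ext (show _ = (t i : ℕ) by have := hst i; simp; omega)⟩]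
      · intro a _ ha
        rw [if_neg]
        rintro ⟨h1, -⟩
        exact ha (funext fun i => Fin.ext (congrArg Fin.val (congrFun h1 i) :))
      · intro h; exact absurd (Finset.mem_univ _) h
    · refine Finset.sum_eq_zero fun a _ => if_neg ?_
      rintro ⟨h1, h2⟩
      refine hst fun i => ?_
      rw [← congrFun h1 i, ← congrFun h2 i]
      have := (a i).2
      simp only
      omega
  have hu0 : Coalgebra.counit (R := k) u = 0 := by
    have h := congrArg (fun z => LinearMap.mul' k k (TensorProduct.map (Coalgebra.counit (R := k))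
      (Coalgebra.counit (R := k)) z)) hu
    have hε : ∀ a : RU b φ, LinearMap.mul' k k (TensorProduct.map (Coalgebra.counit (R := k))
      (Coalgebra.counit (R := k)) (Coalgebra.comul (R := k) a)) = Coalgebra.counit (R := k) a := by
      intro a
      have h2 := LinearMap.congr_fun (Coalgebra.rTensor_counit_comp_comul (R := k) (A := RU b φ)) a
      rw [← LinearMap.lTensor_comp_rTensor, LinearMap.comp_apply]
      simp only [LinearMap.comp_apply, TensorProduct.mk_apply] at h2
      rw [h2]
      simp
    simpa [hε] using h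
  set c := B.repr u with hc
  have key : ∀ m : Fin d → Fin p, c m ≠ 0 → ∃ j, (m j : ℕ) = 1 ∧ ∀ i, i ≠ j → (m i : ℕ) = 0 := by
    intro m hm
    have hexp : ∀ s t, (BB.repr (Coalgebra.comul (R := k) u)) (s, t) =
        ∑ n, c n * (if (∀ i, (s i : ℕ) + t i = n i) then ∏ i, (((n i : ℕ)).choose (s i) : k) else 0) := by
      intro s t
      conv_lhs => rw [← B.sum_repr u]
      simp only [map_sum, map_smul, Finsupp.coe_finsetSum, Finset.sum_apply, Finsupp.smul_apply, smul_eq_mul, hcoef, hc]
    have hrhs : ∀ s t, (BB.repr (u ⊗ₜ[k] (1 : RU b φ) + (1 : RU b φ) ⊗ₜ[k] u)) (s, t) =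
        c s * (if z = t then 1 else 0) + (if z = s then 1 else 0) * c t := by
      intro s t
      rw [hone, map_add]
      simp [BB, Module.Basis.tensorProduct_repr_tmul_apply, Finsupp.single_apply, hc, mul_comm]
    by_cases hz : m = z
    · exfalso
      subst hz
      refine hm ?_
      have h := hrhs z z
      rw [← hu, hexp, Finset.sum_eq_single z] at h
      · simp [z] at h
        exact h
      · intro n _ hn
        rw [if_neg, mul_zero]
        intro h'
        exact hn (funext fun i => Fin.ext (by simpa [z] using (h' i).symm))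
      · intro h'; exact absurd (Finset.mem_univ _) h'
    obtain ⟨j, hj⟩ := Function.ne_iff.1 hz
    have hj0 : (m j : ℕ) ≠ 0 := fun e => hj (Fin.ext e)
    let s : Fin d → Fin p := fun i => if i = j then ⟨1, hp.out.one_lt⟩ else ⟨0, hp.out.pos⟩
    let t : Fin d → Fin p := fun i => ⟨(m i : ℕ) - s i, lt_of_le_of_lt (Nat.sub_le _ _) (m i).2⟩
    have hst : ∀ i, (s i : ℕ) + t i = m i := by
      intro i
      simp only [s, t]
      split_ifs with h
      · subst h; simp; omega
      · simp
    by_contra hne
    push Not at hne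
    refine hm ?_
    have h := hrhs s t
    have hs : z ≠ s := fun e => by simpa [z, s] using congrFun e j
    have ht : z ≠ t := by
      intro e
      have hj1 : (m j : ℕ) = 1 := by
        have h1 := Fin.val_eq_of_eq (congrFun e j)
        simp [z, t, s] at h1
        omega
      obtain ⟨i, hij, hi⟩ := hne j hj1
      have h2 := Fin.val_eq_of_eq (congrFun e i)
      simp [z, t, s, hij] at h2
      exact hi h2.symm
    rw [← hu, hexp, if_neg hs, if_neg ht, mul_zero, zero_mul, add_zero, Finset.sum_eq_single m] at h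
    · rw [if_pos hst] at h
      refine (mul_eq_zero.1 h).resolve_right ?_
      rw [Finset.prod_eq_single j (fun i _ hi => by simp [s, hi]) (fun h' => absurd (Finset.mem_univ _) h')]
      simp only [s, if_true, Nat.choose_one_right]
      exact fun h0 => hj0 (Nat.eq_zero_of_dvd_of_lt ((CharP.cast_eq_zero_iff k p _).1 h0) (m j).2)
    · intro n _ hn
      rw [if_neg, mul_zero]
      intro h'
      exact hn (funext fun i => Fin.ext (by rw [← h' i, hst i]))
    · intro h'; exact absurd (Finset.mem_univ _) h'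
  rw [← B.sum_repr u]
  refine Submodule.sum_mem _ fun m _ => ?_
  rcases eq_or_ne (c m) 0 with h0 | h0
  · rw [← hc, h0, zero_smul]; exact Submodule.zero_mem _
  obtain ⟨j, hj1, hj0⟩ := key m h0
  refine Submodule.smul_mem _ _ ⟨b j, ?_⟩
  rw [hB, ← mkU_g, x_apply]
  congr 1
  have he : (fun i => (m i : ℕ)) = Pi.single j 1 := funext fun i => by
    rcases eq_or_ne i j with rfl | hne
    · simp [hj1]
    · simp [hne, hj0 i hne]
  rw [he, ← w_of_lt b φ fun i => ?_, w_single]
  have := hp.out.one_lt
  rcases eq_or_ne i j with rfl | hne <;> simp [*] <;> omega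

end Groth.ComodLib.RestrictedEnv
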