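import Groth.Agent.Hopf.Semisimple

/-!
# Simple constituents of a sum of simple comodules
-/

set_option autoImplicit false
set_option linter.unusedSectionVars false

universe u v w w' w'' x

open TensorProduct WithConv

noncomputable section

namespace Groth.ComodLib

variable {k : Type u} [Field k] {A : Type v} [AddCommGroup A] [Module k A] [Coalgebra k A]
  {V : Type w} [AddCommGroup V] [Module k V] [HopfRep.Comod k A V]

theorem finrank_lt_or_eq {U U' : Submodule k V} [Module.Finite k U] (h : U' ≤ U) :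
    U' = U ∨ Module.finrank k U' < Module.finrank k U := by
  rcases eq_or_lt_of_le h with e | e
  · exact Or.inl e
  · exact Or.inr (Submodule.finrank_lt_finrank_of_lt e)

/-- every nonzero subcomodule contains a simple one -/
theorem exists_simpleSub_le {U : Submodule k V} (hU : HopfRep.IsSubcomod (k := k) (A := A) U)
    (h0 : U ≠ ⊥) :
    ∃ T : Submodule k V, HopfRep.IsSubcomod (k := k) (A := A) T ∧ T ≤ U ∧ IsSimpleSub A T ∧
      Module.Finite k T := by
  classical
  obtain ⟨v, hvU, hv⟩ := U.exists_mem_ne_zero_of_ne_bot h0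
  have hex : ∃ n, ∃ T : Submodule k V, HopfRep.IsSubcomod (k := k) (A := A) T ∧ T ≤ U ∧ T ≠ ⊥ ∧
      Module.Finite k T ∧ Module.finrank k T = n :=
    ⟨_, gen (k := k) A v, isSubcomod_gen v, gen_le hU hvU,
      fun e => hv ((Submodule.mem_bot k).1 (e ▸ mem_gen_self v)), finite_gen v, rfl⟩
  obtain ⟨T, hT, hTU, hT0, hfin, hn⟩ := Nat.find_spec hex
  refine ⟨T, hT, hTU, ⟨hT0, fun T' hT' hle => ?_⟩, hfin⟩
  rcases finrank_lt_or_eq hle with e | e
  · exact Or.inr e
  · refine Or.inl (by_contra fun hne => ?_)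
    exact Nat.find_min hex (hn ▸ e)
      ⟨T', hT', hle.trans hTU, hne, Submodule.finiteDimensional_of_le hle, rfl⟩

variable {ι : Type x} {K : ι → Type w'} [∀ i, AddCommGroup (K i)] [∀ i, Module k (K i)]
  [∀ i, HopfRep.Comod k A (K i)] {S : Type w''} [AddCommGroup S] [Module k S] [HopfRep.Comod k A S]

theorem exists_iso_of_sum_eq_top (hK : ∀ i, HopfRep.IsSimpleComod k A (K i)) (g : ∀ i, K i →ₗ[k] V)
    (hg : ∀ i, Hoch.IsComodHom A (g i)) (hsum : (⨆ i, LinearMap.range (g i)) = ⊤)
    (hS : HopfRep.IsSimpleComod k A S) (f : S →ₗ[k] V) (hf : Hoch.IsComodHom A f) (hf0 : f ≠ 0) :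
    ∃ (i : ι) (e : S ≃ₗ[k] K i), Hoch.IsComodHom A (e : S →ₗ[k] K i) := by
  classical
  have hker : LinearMap.ker f = ⊥ :=
    (hS.2 _ (isSubcomod_ker hf)).resolve_right fun e => hf0 (LinearMap.ker_eq_top.1 e)
  have hinj : Function.Injective f := LinearMap.ker_eq_bot.1 hker
  have hP : ∀ j, LinearMap.range (g j) = ⊥ ∨ IsSimpleSub A (LinearMap.range (g j)) := by
    intro j
    rcases (hK j).2 _ (isSubcomod_ker (hg j)) with e | e
    · exact Or.inr ((isSimpleSub_range_iff (hg j) (LinearMap.ker_eq_bot.1 e)).2 (hK j))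
    · exact Or.inl (LinearMap.range_eq_bot.2 (LinearMap.ker_eq_top.1 e))
  have hss : HopfRep.IsSemisimpleComod k A V := by
    refine isSemisimpleComod_of_sum_simple
      (fun j : {j // LinearMap.range (g j) ≠ ⊥} => LinearMap.range (g j.1))
      (fun j => isSubcomod_range (hg _)) (fun j => (hP j.1).resolve_left j.2) (top_le_iff.1 ?_)
    rw [← hsum]
    refine iSup_le fun j => ?_
    by_cases h : LinearMap.range (g j) = ⊥
    · rw [h]; exact bot_le
    · exact le_iSup_of_le ⟨j, h⟩ le_rfl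
  obtain ⟨W, hW, hc⟩ := hss _ (isSubcomod_range hf)
  letI cQ := ComodSub.Comod.quot (inferInstance : HopfRep.Comod k A V) W hW
  have hmk : Hoch.IsComodHom A W.mkQ := ComodSub.isComodHom_mkQ (inferInstance : HopfRep.Comod k A V) W hW
  have hbij : Function.Bijective (W.mkQ ∘ₗ f) := by
    constructor
    · rw [← LinearMap.ker_eq_bot]
      refine (Submodule.eq_bot_iff _).2 fun y hy => hinj ?_
      rw [map_zero]
      exact Submodule.disjoint_def.1 hc.disjoint _ ⟨y, rfl⟩ ((Submodule.Quotient.mk_eq_zero W).1 hy)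
    · intro q
      obtain ⟨v, rfl⟩ := W.mkQ_surjective q
      have : v ∈ LinearMap.range f ⊔ W := by rw [hc.sup_eq_top]; trivial
      obtain ⟨_, ⟨y, rfl⟩, w, hw, rfl⟩ := Submodule.mem_sup.1 this
      refine ⟨y, ?_⟩
      simp [(Submodule.Quotient.mk_eq_zero W).2 hw]
  let e₀ := LinearEquiv.ofBijective (W.mkQ ∘ₗ f) hbij
  have he₀ : Hoch.IsComodHom A (e₀ : S →ₗ[k] V ⧸ W) := by
    rw [show (e₀ : S →ₗ[k] V ⧸ W) = W.mkQ ∘ₗ f from LinearMap.ext fun _ => rfl]
    exact isComodHom_comp hmk hf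
  obtain ⟨i, hi⟩ : ∃ i, W.mkQ ∘ₗ g i ≠ 0 := by
    by_contra h
    push Not at h
    have hle : LinearMap.range f ≤ W := by
      refine (hsum ▸ iSup_le fun i => ?_ : (⊤ : Submodule k V) ≤ W).trans' le_top
      rintro _ ⟨y, rfl⟩
      exact (Submodule.Quotient.mk_eq_zero W).1 (LinearMap.congr_fun (h i) y)
    exact hf0 (LinearMap.range_eq_bot.1 (disjoint_self.1 (hc.disjoint.mono_right hle)))
  have hg₀ := isComodHom_comp (isComodHom_symm (e := e₀) he₀) (isComodHom_comp hmk (hg i))
  rcases eq_zero_or_bijective (hK i) hS hg₀ with e | e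
  · exact absurd (LinearMap.ext fun y => e₀.symm.injective (by simpa using LinearMap.congr_fun e y)) hi
  · exact ⟨i, (LinearEquiv.ofBijective _ e).symm, isComodHom_symm (e := LinearEquiv.ofBijective _ e) hg₀⟩

theorem exists_iso_of_le_sum (hK : ∀ i, HopfRep.IsSimpleComod k A (K i)) (g : ∀ i, K i →ₗ[k] V)
    (hg : ∀ i, Hoch.IsComodHom A (g i)) (hS : HopfRep.IsSimpleComod k A S) (f : S →ₗ[k] V)
    (hf : Hoch.IsComodHom A f) (hle : LinearMap.range f ≤ ⨆ i, LinearMap.range (g i)) (hf0 : f ≠ 0) :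
    ∃ (i : ι) (e : S ≃ₗ[k] K i), Hoch.IsComodHom A (e : S →ₗ[k] K i) := by
  set U : Submodule k V := ⨆ i, LinearMap.range (g i) with hUdef
  have hU : HopfRep.IsSubcomod (k := k) (A := A) U := isSubcomod_iSup _ fun i => isSubcomod_range (hg i)
  letI cU := ComodSub.Comod.restr (inferInstance : HopfRep.Comod k A V) U hU
  have hsub : Hoch.IsComodHom A U.subtype :=
    ComodSub.isComodHom_subtype (inferInstance : HopfRep.Comod k A V) U hU
  have hgU : ∀ i y, g i y ∈ U := fun i y => hUdef ▸ Submodule.mem_iSup_of_mem i ⟨y, rfl⟩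
  have hfU : ∀ y, f y ∈ U := fun y => hle ⟨y, rfl⟩
  have hcod : ∀ {Y : Type w'} [AddCommGroup Y] [Module k Y] [HopfRep.Comod k A Y] (h : Y →ₗ[k] V)
      (_ : Hoch.IsComodHom A h) (hm : ∀ y, h y ∈ U), Hoch.IsComodHom A (h.codRestrict U hm) := by
    intro Y _ _ _ h hh hm
    rw [isComodHom_iff]
    intro φ y
    exact Subtype.ext ((isComodHom_op hh φ y).trans (isComodHom_op hsub φ (h.codRestrict U hm y)).symm)
  refine exists_iso_of_sum_eq_top hK (fun i => (g i).codRestrict U (hgU i))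
    (fun i => hcod _ (hg i) _) ?_ hS (f.codRestrict U hfU) ?_ ?_
  · refine Submodule.map_injective_of_injective U.subtype_injective ?_
    rw [Submodule.map_iSup, Submodule.map_subtype_top]
    refine (iSup_congr fun i => ?_).trans hUdef.symm
    rw [← LinearMap.range_comp]
    rfl
  · rw [isComodHom_iff]
    intro φ y
    exact Subtype.ext ((isComodHom_op hf φ y).trans (isComodHom_op hsub φ (f.codRestrict U hfU y)).symm)
  · intro e
    exact hf0 (LinearMap.ext fun y => congrArg Subtype.val (LinearMap.congr_fun e y))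

end Groth.ComodLib
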