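import Groth.Agent.Hopf.Reductive
import Mathlib.RingTheory.Trace.Defs
import Mathlib.LinearAlgebra.Trace

/-!
# The trace of a finite free commutative Hopf algebra is a translation invariant integral
-/

set_option autoImplicit false
set_option linter.unusedSectionVars false

universe u v w

open TensorProduct

noncomputable section

namespace Groth.ComodLib

variable {k : Type u} [CommRing k] {A : Type v} [CommRing A] [HopfAlgebra k A] [Module.Free k A]
  [Module.Finite k A]

theorem trace_tmul' {B : Type w} [CommRing B] [Algebra k B] (b : B) (a : A) :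
    Algebra.trace B (B ⊗[k] A) (b ⊗ₜ[k] a) = b * algebraMap k B (Algebra.trace k A a) := by
  rw [show b ⊗ₜ[k] a = b • ((1 : B) ⊗ₜ[k] a) by rw [TensorProduct.smul_tmul', smul_eq_mul, mul_one],
    map_smul, smul_eq_mul, Algebra.trace_apply, Algebra.trace_apply, ← LinearMap.trace_baseChange,
    Algebra.baseChange_lmul]

/-- `Σ tr(a₁) a₂ = tr(a) · 1` -/
theorem trace_rTensor_comul (a : A) :
    (Algebra.trace k A).rTensor A (Coalgebra.comul (R := k) a) = Algebra.trace k A a ⊗ₜ[k] (1 : A) := by
  let S := HopfAlgebraStruct.antipode (R := k) (A := A)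
  let g : A →ₐ[k] A ⊗[k] A :=
    (Algebra.TensorProduct.comm k A A).toAlgHom.comp (Bialgebra.comulAlgHom k A)
  let Θ : A ⊗[k] A →ₐ[A] A ⊗[k] A := Algebra.TensorProduct.lift (Algebra.ofId A _) g (fun _ _ => .all ..)
  have hΘ : ∀ b x : A, Θ (b ⊗ₜ[k] x) = (b ⊗ₜ[k] (1 : A)) * TensorProduct.comm k A A (Coalgebra.comul (R := k) x) :=
    fun b x => rfl
  have hsurj : Function.Surjective Θ := by
    let J : A ⊗[k] A →ₗ[k] A ⊗[k] A :=
      Θ.toLinearMap.restrictScalars k ∘ₗ (S.rTensor A) ∘ₗ (TensorProduct.comm k A A).toLinearMap
    have key : ∀ x : A, J (Coalgebra.comul (R := k) x) = (1 : A) ⊗ₜ[k] x := by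
      intro x
      let K : A ⊗[k] (A ⊗[k] A) →ₗ[k] A ⊗[k] A :=
        (TensorProduct.comm k A A).toLinearMap ∘ₗ
          (LinearMap.mul' k A ∘ₗ (TensorProduct.comm k A A).toLinearMap ∘ₗ S.lTensor A).lTensor A
      have e : J (Coalgebra.comul (R := k) x) =
          K (TensorProduct.assoc k A A A ((Coalgebra.comul (R := k)).rTensor A (Coalgebra.comul (R := k) x))) := by
        generalize Coalgebra.comul (R := k) x = w
        induction w using TensorProduct.induction_on with
        | zero => simp
        | add p q hp hq => simp only [map_add, hp, hq]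
        | tmul p q =>
          change Θ (S q ⊗ₜ[k] p) = _
          rw [hΘ, LinearMap.rTensor_tmul]
          generalize Coalgebra.comul (R := k) p = z
          induction z using TensorProduct.induction_on with
          | zero => simp
          | tmul s t => simp [K]
          | add s t hs ht => simp only [map_add, mul_add, TensorProduct.add_tmul, hs, ht]
      rw [e, Coalgebra.coassoc_apply]
      have hx : (1 : A) ⊗ₜ[k] x = TensorProduct.comm k A A ((LinearMap.lTensor A (Algebra.linearMap k A))
          ((Coalgebra.counit (R := k) (A := A)).lTensor A (Coalgebra.comul (R := k) x))) := by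
        rw [Coalgebra.lTensor_counit_comul]
        simp
      rw [hx]
      generalize Coalgebra.comul (R := k) x = w
      induction w using TensorProduct.induction_on with
      | zero => simp
      | add p q hp hq => simp only [map_add, TensorProduct.add_tmul, hp, hq]
      | tmul p q =>
        have hm : LinearMap.mul' k A ∘ₗ (TensorProduct.comm k A A).toLinearMap = LinearMap.mul' k A :=
          TensorProduct.ext' fun s t => by simp [mul_comm]
        simp only [K, LinearMap.lTensor_tmul, LinearMap.comp_apply, LinearEquiv.coe_coe]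
        rw [show LinearMap.mul' k A (TensorProduct.comm k A A (S.lTensor A (Coalgebra.comul (R := k) q))) =
            LinearMap.mul' k A (S.lTensor A (Coalgebra.comul (R := k) q)) from LinearMap.congr_fun hm _,
          HopfAlgebra.mul_antipode_lTensor_comul_apply]
        simp [Algebra.algebraMap_eq_smul_one, TensorProduct.smul_tmul', TensorProduct.tmul_smul]
    intro z
    induction z using TensorProduct.induction_on with
    | zero => exact ⟨0, map_zero _⟩
    | add p q hp hq =>
      obtain ⟨p', rfl⟩ := hp
      obtain ⟨q', rfl⟩ := hq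
      exact ⟨p' + q', map_add _ _ _⟩
    | tmul b x =>
      refine ⟨b • S.rTensor A (TensorProduct.comm k A A (Coalgebra.comul (R := k) x)), ?_⟩
      rw [map_smul]
      refine (congrArg (b • ·) (key x)).trans ?_
      rw [TensorProduct.smul_tmul', smul_eq_mul, mul_one]
  have hinj : Function.Injective Θ := OrzechProperty.injective_of_surjective_endomorphism Θ.toLinearMap hsurj
  have h := Algebra.trace_eq_of_algEquiv (AlgEquiv.ofBijective Θ ⟨hinj, hsurj⟩) ((1 : A) ⊗ₜ[k] a)
  change Algebra.trace A (A ⊗[k] A) (Θ ((1 : A) ⊗ₜ[k] a)) = _ at h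
  rw [hΘ, trace_tmul', ← Algebra.TensorProduct.one_def, one_mul, one_mul] at h
  apply (TensorProduct.lid k A).injective
  rw [TensorProduct.lid_tmul, ← Algebra.algebraMap_eq_smul_one, ← h]
  generalize Coalgebra.comul (R := k) a = w
  induction w using TensorProduct.induction_on with
  | zero => simp
  | tmul p q => simp [trace_tmul', Algebra.smul_def, mul_comm]
  | add p q hp hq => simp only [map_add, hp, hq]

theorem exists_integral_of_finrank_ne_zero {k : Type u} [Field k] {A : Type v} [CommRing A] [HopfAlgebra k A]
    [Module.Finite k A] (h : ((Module.finrank k A : ℕ) : k) ≠ 0) :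
    ∃ α : A →ₗ[k] k,
      @Hoch.IsComodHom k _ A _ _ _ A _ _ _ k _ _ (HopfRep.Comod.trivial k A k) α ∧ α 1 = 1 := by
  have h1 : Algebra.trace k A 1 = (Module.finrank k A : k) := by
    rw [← map_one (algebraMap k A), Algebra.trace_algebraMap, nsmul_one]
  refine ⟨((Module.finrank k A : k))⁻¹ • Algebra.trace k A, LinearMap.ext fun a => ?_, ?_⟩
  · change (((Module.finrank k A : k))⁻¹ • Algebra.trace k A) a ⊗ₜ[k] (1 : A) = _
    rw [LinearMap.rTensor_smul, LinearMap.comp_apply, LinearMap.smul_apply, LinearMap.smul_apply,
      show (HopfRep.Comod.coact : A →ₗ[k] A ⊗[k] A) a = Coalgebra.comul (R := k) a from rfl,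
      trace_rTensor_comul, TensorProduct.smul_tmul']
  · simp [h1, h]

theorem isLinearlyReductive_of_finrank_ne_zero {k : Type u} [Field k] {A : Type v} [CommRing A] [HopfAlgebra k A]
    [Module.Finite k A] (h : ((Module.finrank k A : ℕ) : k) ≠ 0) : HopfRep.IsLinearlyReductive k A :=
  isLinearlyReductive_iff_integral.2 (exists_integral_of_finrank_ne_zero h)

end Groth.ComodLib
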